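import Cfsg.Agent.OddHalf.SpTwo.Syl
import Cfsg.Agent.OddHalf.SpTwo.EndCOP
import Cfsg.Agent.OddHalf.SpTwo.EndCC

-- merged: Cfsg.Agent.OddHalf.SpTwo.Pair4
section

/-!
# A hyperbolic pair orthogonal to four given vectors
-/

set_option autoImplicit false

namespace Cfsg.Agent.OddHalf.SpTwo

open Cfsg.Agent.StandardComponent.SpTwo

variable {X V : Type*} [Group X] [AddCommGroup V] [Module (ZMod 2) V]

/-- four vectors, two of which form a hyperbolic pair: there is a hyperbolic pair orthogonal to them -/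
theorem exists_pair [Finite V] (D : SpData X V) (h : 256 ≤ Nat.card V) {a b : V} (c d : V)
    (hab : D.B a b = 1) :
    ∃ x x' : V, (D.B x a = 0 ∧ D.B x b = 0 ∧ D.B x c = 0 ∧ D.B x d = 0) ∧
      (D.B x' a = 0 ∧ D.B x' b = 0 ∧ D.B x' c = 0 ∧ D.B x' d = 0) ∧ D.B x x' = 1 := by
  have hfin : Module.Finite (ZMod 2) V := Module.Finite.of_finite
  set W : Submodule (ZMod 2) V := pl a b ⊔ pl c d with hW
  have ha : a ∈ W := Submodule.mem_sup_left (mem_pl.2 (Or.inr (Or.inl rfl)))
  have hb : b ∈ W := Submodule.mem_sup_left (mem_pl.2 (Or.inr (Or.inr (Or.inl rfl))))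
  have hc : c ∈ W := Submodule.mem_sup_right (mem_pl.2 (Or.inr (Or.inl rfl)))
  have hd : d ∈ W := Submodule.mem_sup_right (mem_pl.2 (Or.inr (Or.inr (Or.inl rfl))))
  have hW4 : Module.finrank (ZMod 2) W ≤ 4 := by
    have h1 := Submodule.finrank_add_le_finrank_add_finrank (pl a b) (pl c d)
    rw [← hW] at h1
    have h2 := finrank_pl_le a b
    have h3 := finrank_pl_le c d
    omega
  have h8 := finrank_ge h
  have hp := finrank_perp D W
  obtain ⟨x, hx, hxW⟩ : ∃ x ∈ perp D W, x ∉ W := by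
    by_contra hcon
    push Not at hcon
    have h3 : perp D W ≤ W := hcon
    have h4 : perp D W = W := Submodule.eq_of_le_of_finrank_le h3 (by omega)
    have h5 : a ∈ perp D W := by rw [h4]; exact ha
    have h6 := h5 b hb
    rw [hab] at h6
    exact one_ne_zero h6
  obtain ⟨y, hy, hyx⟩ := sep D hxW
  exact ⟨x, y, ⟨hx a ha, hx b hb, hx c hc, hx d hd⟩, ⟨hy a ha, hy b hb, hy c hc, hy d hd⟩,
    by rw [D.symm]; exact hyx⟩

end Cfsg.Agent.OddHalf.SpTwo

end

-- merged: Cfsg.Agent.OddHalf.SpTwo.EndCOE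
section

/-!
# `Sp₂ₙ(2)`, the end of the pattern `(C, O)`: the element `p_u ∈ F_u` centralising `C_L(b_u)`, `[t, p_u] = z_u`
-/

set_option autoImplicit false

namespace Cfsg.Agent.OddHalf.SpTwo.EndCO

open Subgroup
open Cfsg.Agent.StandardComponent.SpTwo
open Cfsg.Agent.OddHalf.SpTwoN
open Cfsg.Agent.OddHalf.SpTwoN.Words
open Cfsg.Agent.OddHalf.SpTwo.EndCC

namespace Loc

open EndCC.Loc

variable {G V : Type*} [Group G] [AddCommGroup V] [Module (ZMod 2) V] {C : Loc G V}

theorem z_of_fix {u v w : V} (hu : u ≠ 0) (hv : C.S.B u v = 0) (hw : C.S.B u w = 0) (hvw : C.S.B v w = 1)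
    {x : C.L} (hx : x ∈ Qu C.S u) (fv : C.S.ρ x v = v) (fw : C.S.ρ x w = w)
    (fe : ∀ e, C.S.B u e = 0 → C.S.B v e = 0 → C.S.B w e = 0 → C.S.ρ x e = e) : Zm C u (x : G) := by
  rcases Qu_eq_of_fix hu hx (by
    intro f hf
    have hf' : C.S.B u f = 0 := by rw [C.S.symm, hf]
    have h1 := fe (f + C.S.B f w • v + C.S.B f v • w)
      (by simp only [map_add, map_smul, hf', hv, hw, smul_zero, add_zero])
      (by
        simp only [map_add, map_smul, C.S.alt, hvw, C.S.symm v f, smul_eq_mul]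
        generalize C.S.B f v = a; generalize C.S.B f w = b; revert a b; decide)
      (by
        simp only [map_add, map_smul, C.S.alt, hvw, C.S.symm w f, C.S.symm w v, smul_eq_mul]
        generalize C.S.B f v = a; generalize C.S.B f w = b; revert a b; decide)
    rw [map_add, map_add, map_smul, map_smul, fv, fw] at h1
    exact add_right_cancel (add_right_cancel h1)) with h1 | h1
  · left; rw [h1]; rfl
  · right; rw [h1]; rfl

/-- conjugation of `m_v` by a transvection -/
theorem m_conj {u v e : V} (he : C.S.B u e = 0) :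
    C.b e * m C u v * (C.b e)⁻¹ = m C u (v + C.S.B v e • e) := by
  have h1 := C.b_conj (C.S.τ e) v
  have h2 := C.b_conj (C.S.τ e) (v + u)
  rw [C.S.hτ] at h1
  rw [map_add, C.S.hτ, C.S.hτ, he, zero_smul, add_zero] at h2
  unfold m
  rw [← h1, ← h2]
  change C.b e * (C.b v * C.b (v + u)) * (C.b e)⁻¹ = C.b e * C.b v * (C.b e)⁻¹ * (C.b e * C.b (v + u) * (C.b e)⁻¹)
  group

variable {y : V → G} (h : Eqv C y)

include h

/-- elements of `F_u` with the same bracket -/
theorem F_div1 {u : V} (hu : u ≠ 0) {a r : G} (ha : a ∈ F h hu) (hr : r ∈ F h hu) (hq : q C r = q C a) :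
    r⁻¹ * a ∈ C.Q u := by
  apply mem_Q_of_F h hu (mul_mem (inv_mem hr) ha)
  rw [← q_eq_one, q_mul, q_inv, hq]
  group

/-- `p_u`, first form: relative to a hyperbolic pair -/
structure GP {u : V} (hu : u ≠ 0) (v w : V) (p : G) : Prop where
  mem : p ∈ F h hu
  br : q C p = z C y u
  comm : ∀ e, C.S.B u e = 0 → C.S.B v e = 0 → C.S.B w e = 0 → Commute p (C.b e)
  gen : ∀ N : Subgroup G, C.t ∈ N → (∀ e, e ≠ 0 → (∀ x, C.S.B x u = 0 → C.S.B x v = 0 → C.S.B x w = 0 →
    C.S.B x e = 0) → y e ∈ N ∧ C.b e ∈ N) → p ∈ N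

section hyp

variable {u v w : V} (hu : u ≠ 0) (hv : C.S.B u v = 0) (hw : C.S.B u w = 0) (hvw : C.S.B v w = 1)

include hu hv hw hvw

theorem GP.exists : ∃ p, GP h hu v w p := by
  obtain ⟨p1, p2, p3⟩ := prs hu hv hw hvw
  obtain ⟨f1, f2, c, hc, f3⟩ := gh_facts h hu hv hw hvw
  have g1 := g_mem_F h hu p1
  obtain ⟨e1, e2⟩ := q_second h hu f1 f3 p1 rfl
  set p0 := y w * g y u v * y w * g y u v with hp0
  set c' := y w * g y u v * y w * m C u v * (y w * g y u v * y w)⁻¹ * (m C u v)⁻¹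
  have hZ : Zm C u ((z C y u)⁻¹ * q C p0) := by
    rw [e2]
    have h1 : c * m C u v * c' * m C u v = c * c' := by
      have h2 : Commute (m C u v) c' := e1.comm (C.Q_comm hu (m_mem_Q hv) (C.b_mem_Q u))
      calc c * m C u v * c' * m C u v = c * (m C u v * c') * m C u v := by group
        _ = c * c' * (m C u v * m C u v) := by rw [h2.eq]; group
        _ = _ := by rw [m_sq hu hv, mul_one]
    rw [h1]
    exact hc.mul e1
  have hp0F : p0 ∈ F h hu := mul_mem f1 g1
  have hp0c : ∀ e, C.S.B u e = 0 → C.S.B v e = 0 → C.S.B w e = 0 → Commute p0 (C.b e) := by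
    intro e h1 h2 h3
    have a1 := y_comm_b h p2.2.1 h3
    have a2 := g_comm_b h p1 h1 h2
    exact ((a1.mul_left a2).mul_left a1).mul_left a2
  have hp0g : ∀ N : Subgroup G, C.t ∈ N → (∀ e, e ≠ 0 → (∀ x, C.S.B x u = 0 → C.S.B x v = 0 → C.S.B x w = 0 →
      C.S.B x e = 0) → y e ∈ N ∧ C.b e ∈ N) → p0 ∈ N ∧ z C y u ∈ N := by
    intro N ht hN
    have a1 := (hN v p1.2.1 fun x _ h2 _ => h2).1
    have a2 := (hN w p2.2.1 fun x _ _ h3 => h3).1
    have a3 := (hN u hu fun x h1 _ _ => h1).1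
    have a4 := (hN (v + u) p1.add.2.1 fun x h1 h2 _ => by rw [map_add, h1, h2, add_zero]).1
    have a5 : g y u v ∈ N := mul_mem a1 a4
    exact ⟨mul_mem (mul_mem (mul_mem a2 a5) a2) a5, mul_mem a3 ht⟩
  rcases hZ with h1 | h1
  · exact ⟨p0, hp0F, (inv_mul_eq_one.1 h1).symm, hp0c, fun N ht hN => (hp0g N ht hN).1⟩
  · refine ⟨p0 * z C y u, mul_mem hp0F (z_mem_F h hu), ?_, ?_, fun N ht hN =>
      mul_mem (hp0g N ht hN).1 (hp0g N ht hN).2⟩
    · have h2 := F_comm_b h hu hp0F
      rw [q_mul, q_z h hu, h2.eq, mul_inv_cancel_right]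
      have h3 : q C p0 = z C y u * C.b u := by rw [← h1]; group
      rw [h3, mul_assoc, C.b_sq, mul_one]
    · intro e h1 h2 h3
      exact (hp0c e h1 h2 h3).mul_left (z_comm_b h hu h1)

/-- the defect of `p` with respect to `b_w` -/
theorem GP.defect {p : G} (hp : GP h hu v w p) :
    CM C u (C.b w) p ∨ (CM C u (C.b w) (p * m C u v) ∧ GP h hu v w (p * m C u v)) := by
  obtain ⟨p1, p2, p3⟩ := prs hu hv hw hvw
  have hτ : C.S.ρ (C.S.τ w) u = u := by rw [C.S.hτ, hw, zero_smul, add_zero]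
  have hp' : C.b w * p * C.b w ∈ F h hu := by
    have := conj_F h hu hτ hp.mem
    change C.b w * p * (C.b w)⁻¹ ∈ _ at this
    rwa [b_inv] at this
  have hqp' : q C (C.b w * p * C.b w) = z C y u := by
    have h1 := q_conj (C.commute_t (C.b_mem w)) p
    rw [b_inv, hp.br] at h1
    rw [h1, (z_comm_b h hu hw).symm.eq, mul_assoc, C.b_sq, mul_one]
  have hx := F_div1 h hu hp' hp.mem (by rw [hp.br, hqp'])
  obtain ⟨x, hxQ, hxe⟩ := hx
  change (x : G) = _ at hxe
  have hxG : (x : G) ∈ C.Q u := ⟨x, hxQ, rfl⟩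
  have hxx : (x : G) * x = 1 := C.Q_sq hu hxG
  have hpb := F_comm_b h hu hp.mem
  -- `x` fixes `w`
  have fw : C.S.ρ x w = w := by
    apply fix_of_mod p2 hxQ
    left
    have e1 : C.b w * (x : G) * C.b w = (x : G)⁻¹ := by
      rw [hxe]
      have : (p⁻¹ * (C.b w * p * C.b w))⁻¹ = (C.b w)⁻¹ * p⁻¹ * (C.b w)⁻¹ * p := by group
      rw [this, b_inv]
      calc C.b w * (p⁻¹ * (C.b w * p * C.b w)) * C.b w = C.b w * p⁻¹ * C.b w * p * (C.b w * C.b w) := by group
        _ = _ := by rw [C.b_sq, mul_one]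
    rw [e1, ← mul_inv_rev, hxx, inv_one]
  have fe : ∀ e, C.S.B u e = 0 → C.S.B v e = 0 → C.S.B w e = 0 → C.S.ρ x e = e := by
    intro e e1 e2 e3
    apply (C.commute_iff x e).1
    rw [hxe]
    have c1 := hp.comm e e1 e2 e3
    have c2 : Commute (C.b w) (C.b e) := C.b_comm e3
    exact c1.inv_left.mul_left ((c2.mul_left c1).mul_left c2)
  have cm_of : ∀ (p x : G), x = p⁻¹ * (C.b w * p * C.b w) → Commute p (C.b u) → Zm C u x →
      CM C u (C.b w) p := by
    intro p x e1 e2 e3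
    have h2 : C.b w * p * (C.b w)⁻¹ * p⁻¹ = p * x * p⁻¹ := by rw [e1, b_inv]; group
    unfold CM
    rw [h2, Zm.conj e3 e2]
    exact e3
  rcases Qu_apply hxQ hv with fv | fv
  · left
    exact cm_of p x hxe hpb (z_of_fix hu hv hw hvw hxQ fv fw fe)
  · right
    have hmvQ := m_mem_Q (C := C) hv
    have hmwQ := m_mem_Q (C := C) hw
    -- `x m_w ∈ Z`
    have hZ : Zm C u ((x : G) * m C u w) := by
      have hmQ : x * (C.S.τ w * C.S.τ (w + u)) ∈ Qu C.S u := mul_mem hxQ (ττ_mem_Qu hw)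
      have h1 := z_of_fix hu hv hw hvw hmQ ?_ ?_ ?_
      · exact h1
      · rw [C.S.ρ_mul, ρ_m hw hv, hvw, one_smul, map_add, hxQ.1, fv, add_assoc, aa, add_zero]
      · rw [C.S.ρ_mul, ρ_m hw hw, C.S.alt, zero_smul, add_zero, fw]
      · intro e e1 e2 e3
        rw [C.S.ρ_mul, ρ_m hw e1, C.S.symm e w, e3, zero_smul, add_zero, fe e e1 e2 e3]
    have hmm : C.b w * m C u v * C.b w = m C u v * m C u w := by
      have h1 := m_conj (C := C) (u := u) (v := v) hw
      rw [hvw, one_smul, b_inv] at h1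
      rw [h1, m_mul hv hw hvw]
    have hcm : Commute (x : G) (m C u v) := C.Q_comm hu hxG hmvQ
    refine ⟨cm_of _ ((x : G) * m C u w) ?_ (hpb.mul_left (C.Q_comm hu hmvQ (C.b_mem_Q u))) hZ, ?_, ?_, ?_, ?_⟩
    · have e1 : C.b w * (p * m C u v) * C.b w = (C.b w * p * C.b w) * (C.b w * m C u v * C.b w) := by
        calc C.b w * (p * m C u v) * C.b w = C.b w * p * (1 : G) * m C u v * C.b w := by group
          _ = C.b w * p * (C.b w * C.b w) * m C u v * C.b w := by rw [C.b_sq]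
          _ = _ := by group
      have e2 : C.b w * p * C.b w = p * x := by rw [hxe]; group
      rw [e1, hmm, e2]
      calc (x : G) * m C u w = (m C u v)⁻¹ * (m C u v * x) * m C u w := by group
        _ = (m C u v)⁻¹ * ((x : G) * m C u v) * m C u w := by rw [hcm.eq]
        _ = _ := by group
    · exact mul_mem hp.mem (Q_le_F h hu hmvQ)
    · rw [q_mul, q_eq_one.2 (C.commute_t (C.Q_le u hmvQ)), mul_one, mul_inv_cancel, mul_one, hp.br]
    · intro e e1 e2 e3
      refine (hp.comm e e1 e2 e3).mul_left ?_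
      exact (C.b_comm e2).mul_left (C.b_comm (by rw [map_add, LinearMap.add_apply, e2, e1, add_zero]))
    · intro N ht hN
      have a1 := (hN v p1.2.1 fun x _ h2 _ => h2).2
      have a2 := (hN (v + u) p1.add.2.1 fun x h1 h2 _ => by rw [map_add, h1, h2, add_zero]).2
      exact mul_mem (hp.gen N ht hN) (mul_mem a1 a2)

omit hu hv hw hvw in
theorem GP.symm {hu : u ≠ 0} {p : G} (hp : GP h hu v w p) : GP h hu w v p :=
  ⟨hp.mem, hp.br, fun e e1 e2 e3 => hp.comm e e1 e3 e2, fun N ht hN => hp.gen N ht fun e e0 he =>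
    hN e e0 fun x x1 x2 x3 => he x x1 x3 x2⟩

theorem GP.exists2 : ∃ p, GP h hu v w p ∧ CM C u (C.b v) p ∧ CM C u (C.b w) p := by
  obtain ⟨p, hp⟩ := GP.exists h hu hv hw hvw
  obtain ⟨p', hp', hpw⟩ : ∃ p', GP h hu v w p' ∧ CM C u (C.b w) p' := by
    rcases hp.defect h hu hv hw hvw with h1 | ⟨h1, h2⟩
    · exact ⟨p, hp, h1⟩
    · exact ⟨_, h2, h1⟩
  have hwv : C.S.B w v = 1 := by rw [C.S.symm, hvw]
  rcases (hp'.symm h).defect h hu hw hv hwv with h1 | ⟨h1, h2⟩
  · exact ⟨p', hp', h1, hpw⟩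
  · refine ⟨_, h2.symm h, h1, ?_⟩
    refine hpw.mul_right (F_comm_b h hu hp'.mem) (CM.of_commute ?_)
    exact (C.b_comm (C.S.alt w)).mul_right (C.b_comm (by rw [map_add, C.S.alt, C.S.symm w u, hw, add_zero]))

end hyp

/-- **The property of `p_u`.** -/
structure PP {u : V} (hu : u ≠ 0) (p : G) : Prop where
  mem : p ∈ F h hu
  br : q C p = z C y u
  comm : ∀ e, C.S.B u e = 0 → Commute p (C.b e)

theorem PP.unique {u : V} {hu : u ≠ 0} {p p' : G} (hp : PP h hu p) (hp' : PP h hu p') : Zm C u (p⁻¹ * p') := by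
  obtain ⟨x, hx, hxe⟩ := F_div1 h hu hp'.mem hp.mem (by rw [hp.br, hp'.br])
  change (x : G) = _ at hxe
  rw [← hxe]
  rcases Qu_eq_of_fix hu hx (fun e he => by
    rw [C.S.symm] at he
    apply (C.commute_iff x e).1
    rw [hxe]
    exact (hp.comm e he).inv_left.mul_left (hp'.comm e he)) with h1 | h1
  · left; rw [h1]; rfl
  · right; rw [h1]; rfl

theorem PP.comm_Q {u : V} {hu : u ≠ 0} {p : G} (hp : PP h hu p) {k : G} (hk : k ∈ C.Q u) : Commute p k := by
  rcases Q_cases' hu hk with h1 | ⟨v, hv, c, hc, rfl⟩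
  · exact h1.comm (hp.comm u (C.S.alt u))
  · exact (hc.comm (hp.comm u (C.S.alt u))).mul_right
      ((hp.comm v hv.2.2.2).mul_right (hp.comm _ hv.add.2.2.2))

variable [Finite V] (hV : 256 ≤ Nat.card V)

include hV

/-- comparison of the `p`'s of two orthogonal hyperbolic pairs -/
theorem GP.pp {u v w : V} (hu : u ≠ 0) (hv : C.S.B u v = 0) (hw : C.S.B u w = 0) (hvw : C.S.B v w = 1) {p : G}
    (hp : GP h hu v w p) (hpv : CM C u (C.b v) p) (hpw : CM C u (C.b w) p) : PP h hu p := by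
  refine ⟨hp.mem, hp.br, fun e he => ?_⟩
  obtain ⟨x, x', ⟨xv, xw, xu, xe⟩, ⟨xv', xw', xu', xe'⟩, hxx⟩ := exists_pair C.S hV u e hvw
  have hux : C.S.B u x = 0 := by rw [C.S.symm, xu]
  have hux' : C.S.B u x' = 0 := by rw [C.S.symm, xu']
  obtain ⟨p', hp', hpx, hpx'⟩ := GP.exists2 h hu hux hux' hxx
  obtain ⟨k, hk, hke⟩ := F_div1 h hu hp'.mem hp.mem (by rw [hp.br, hp'.br])
  change (k : G) = _ at hke
  have hpb := F_comm_b h hu hp.mem
  have hpb' := F_comm_b h hu hp'.mem
  obtain ⟨r1, r2, -⟩ := prs hu hv hw hvw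
  obtain ⟨s1, s2, -⟩ := prs hu hux hux' hxx
  have fixmod : ∀ f, Pr C u f → CM C u (C.b f) p → CM C u (C.b f) p' → C.S.ρ k f = f := by
    intro f hf h1 h2
    apply fix_of_mod hf hk
    have h3 := (h1.inv_right hpb).mul_right hpb.inv_left h2
    rw [← hke] at h3
    unfold CM at h3
    rwa [b_inv] at h3
  have vx : C.S.B v x = 0 := by rw [C.S.symm, xv]
  have vx' : C.S.B v x' = 0 := by rw [C.S.symm, xv']
  have wx : C.S.B w x = 0 := by rw [C.S.symm, xw]
  have wx' : C.S.B w x' = 0 := by rw [C.S.symm, xw']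
  have fv := fixmod v r1 hpv (CM.of_commute (hp'.comm v hv xv xv').symm)
  have fw := fixmod w r2 hpw (CM.of_commute (hp'.comm w hw xw xw').symm)
  have fx := fixmod x s1 (CM.of_commute (hp.comm x hux vx wx).symm) hpx
  have fx' := fixmod x' s2 (CM.of_commute (hp.comm x' hux' vx' wx').symm) hpx'
  have hZ : Zm C u (k : G) := by
    apply z_of_fix hu hv hw hvw hk fv fw
    intro f f1 f2 f3
    -- subtract the `x, x'`-part
    set f0 := f + C.S.B f x' • x + C.S.B f x • x' with hf0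
    have e1 : C.S.B u f0 = 0 := by
      simp only [hf0, map_add, map_smul, f1, hux, hux', smul_zero, add_zero]
    have e2 : C.S.B v f0 = 0 := by
      simp only [hf0, map_add, map_smul, f2, vx, vx', smul_zero, add_zero]
    have e3 : C.S.B w f0 = 0 := by
      simp only [hf0, map_add, map_smul, f3, wx, wx', smul_zero, add_zero]
    have e4 : C.S.B x f0 = 0 := by
      simp only [hf0, map_add, map_smul, C.S.alt, hxx, C.S.symm x f, smul_eq_mul]
      generalize C.S.B f x = a; generalize C.S.B f x' = b; revert a b; decide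
    have e5 : C.S.B x' f0 = 0 := by
      simp only [hf0, map_add, map_smul, C.S.alt, hxx, C.S.symm x' f, C.S.symm x' x, smul_eq_mul]
      generalize C.S.B f x = a; generalize C.S.B f x' = b; revert a b; decide
    have h1 : C.S.ρ k f0 = f0 := by
      apply (C.commute_iff k f0).1
      rw [hke]
      exact (hp.comm f0 e1 e2 e3).inv_left.mul_left (hp'.comm f0 e1 e4 e5)
    rw [hf0, map_add, map_add, map_smul, map_smul, fx, fx'] at h1
    exact add_right_cancel (add_right_cancel h1)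
  -- `p = p' k⁻¹`
  have e1 : p = p' * (k : G)⁻¹ := by rw [hke]; group
  rw [e1]
  have h1 : Commute p' (C.b e) := hp'.comm e he xe xe'
  have h2 : Commute (C.b e) (C.b u) := C.b_comm (by rw [C.S.symm, he])
  exact h1.mul_left ((Zm.inv hZ).comm h2).symm

/-- existence of `p_u`, inside every group containing the `y_e`, `b_e` of `⟨u, v, w⟩` -/
theorem PP.exists_gen {u v w : V} (hu : u ≠ 0) (hv : C.S.B u v = 0) (hw : C.S.B u w = 0) (hvw : C.S.B v w = 1) :
    ∃ p, PP h hu p ∧ ∀ N : Subgroup G, C.t ∈ N → (∀ e, e ≠ 0 → (∀ x, C.S.B x u = 0 → C.S.B x v = 0 →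
      C.S.B x w = 0 → C.S.B x e = 0) → y e ∈ N ∧ C.b e ∈ N) → p ∈ N := by
  obtain ⟨p, hp, h1, h2⟩ := GP.exists2 h hu hv hw hvw
  exact ⟨p, hp.pp h hV hu hv hw hvw h1 h2, hp.gen⟩

omit h in
theorem hyp_of {u : V} (hu : u ≠ 0) : ∃ v w, C.S.B u v = 0 ∧ C.S.B u w = 0 ∧ C.S.B v w = 1 := by
  obtain ⟨u', hu'⟩ := exists_dual (D := C.S) hu
  obtain ⟨x, x', ⟨h1, -, -, -⟩, ⟨h2, -, -, -⟩, h3⟩ := exists_pair C.S hV u u hu'
  exact ⟨x, x', by rw [C.S.symm, h1], by rw [C.S.symm, h2], h3⟩

theorem PP.exists {u : V} (hu : u ≠ 0) : ∃ p, PP h hu p := by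
  obtain ⟨v, w, hv, hw, hvw⟩ := hyp_of (C := C) hV hu
  obtain ⟨p, hp, -⟩ := PP.exists_gen h hV hu hv hw hvw
  exact ⟨p, hp⟩

/-- `y_e` normalises `F_u` for `e ⊥ u` -/
theorem y_norm {u e : V} (hu : u ≠ 0) (he : e ≠ 0) (hue : C.S.B u e = 0) : y e ∈ normalizer (F h hu : Set G) := by
  have hyp := hyp_of (C := C) hV hu
  have ht : C.t ∈ normalizer (F h hu : Set G) := by
    refine mem_normalizer_of (fun r hr => ?_) (fun r hr => ?_)
    · rw [C.t_inv]; exact t_F h hu hr
    · rw [C.t_inv]; exact t_F h hu hr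
  by_cases heu : e = u
  · subst heu
    have h1 : y e = z C y e * C.t := by
      unfold z
      rw [mul_assoc, C.tt, mul_one]
    rw [h1]
    exact mul_mem (le_normalizer (z_mem_F h hu)) ht
  · have hP : Pr C u e := ⟨hu, he, fun h0 => heu h0.symm, hue⟩
    refine mem_normalizer_of (fun r hr => ?_) (fun r hr => ?_)
    · rw [(h.Y e he).inv]; exact norm_F h hu hyp hP hr
    · rw [(h.Y e he).inv]; exact norm_F h hu hyp hP hr

omit hV in
omit [Finite V] in
theorem t_norm {u : V} (hu : u ≠ 0) : C.t ∈ normalizer (F h hu : Set G) := by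
  refine mem_normalizer_of (fun r hr => ?_) (fun r hr => ?_)
  · rw [C.t_inv]; exact t_F h hu hr
  · rw [C.t_inv]; exact t_F h hu hr

omit hV in
omit [Finite V] in
theorem L_norm {u : V} (hu : u ≠ 0) {x : C.L} (hx : C.S.ρ x u = u) : (x : G) ∈ normalizer (F h hu : Set G) := by
  refine mem_normalizer_of (fun r hr => conj_F h hu hx hr) (fun r hr => ?_)
  have hx' : C.S.ρ x⁻¹ u = u := by
    apply C.S.ρ_inj x
    rw [C.S.ρ_apply_inv, hx]
  have := conj_F h hu hx' hr
  push_cast at this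
  rwa [inv_inv] at this

/-- `p_v` normalises `F_u` for `v ⊥ u` -/
theorem PP.norm {u v : V} (hu : u ≠ 0) (hv : v ≠ 0) (huv : C.S.B u v = 0) {p : G} (hp : PP h hv p) :
    p ∈ normalizer (F h hu : Set G) := by
  obtain ⟨u', hu'⟩ := exists_dual (D := C.S) hu
  obtain ⟨x, x', ⟨x1, -, x2, -⟩, ⟨x3, -, x4, -⟩, hxx⟩ := exists_pair C.S hV v v hu'
  obtain ⟨p0, hp0, hgen⟩ := PP.exists_gen h hV hv (by rw [C.S.symm, x2] : C.S.B v x = 0)
    (by rw [C.S.symm, x4] : C.S.B v x' = 0) hxx
  have hb : ∀ e, C.S.B u e = 0 → C.b e ∈ normalizer (F h hu : Set G) := fun e he =>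
    L_norm h hu (x := C.S.τ e) (by rw [C.S.hτ, he, zero_smul, add_zero])
  have h1 : p0 ∈ normalizer (F h hu : Set G) := by
    apply hgen _ (t_norm h hu)
    intro e he hx
    have h2 : C.S.B u e = 0 := hx u huv (by rw [C.S.symm, x1]) (by rw [C.S.symm, x3])
    exact ⟨y_norm h hV hu he h2, hb e h2⟩
  have h2 := hp0.unique h hp
  have e1 : p = p0 * (p0⁻¹ * p) := by group
  rw [e1]
  refine mul_mem h1 ?_
  rcases h2 with h2 | h2
  · rw [h2]; exact one_mem _
  · rw [h2]; exact hb v huv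

end Loc

end Cfsg.Agent.OddHalf.SpTwo.EndCO

end

-- merged: Cfsg.Agent.OddHalf.SpTwo.EndCO
section

/-!
# `Sp₂ₙ(2)`, `n ≥ 4`: the end of the pattern `(C, O)`

`C_G(t) = ⟨t⟩ × L`, `L = Sp(V)` over the field with two elements, `|V| ≥ 256`; `y : V → G` is equivariant, `y_u` is an
involution centralising `C_L(b_u)` with `t ^ y_u = t b_u`, and `[y_u, y_v] = b_{u+v}` for `u ⊥ v`.  Then there is
`m : G →* ℤˣ` with `m t = -1`.
-/

set_option autoImplicit false

namespace Cfsg.Agent.OddHalf.SpTwo.EndCO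

open Subgroup
open Cfsg.Agent.StandardComponent.SpTwo
open Cfsg.Agent.OddHalf.SpTwoN
open Cfsg.Agent.OddHalf.SpTwoN.Words
open Cfsg.Agent.OddHalf.SpTwo.EndCC

namespace Loc

open EndCC.Loc

variable {G V : Type*} [Group G] [AddCommGroup V] [Module (ZMod 2) V] {C : Loc G V} {y : V → G} (h : Eqv C y)

include h

/-- the data of the induction: a nondegenerate subspace `U` and a group `N` -/
structure SubO (U : Submodule (ZMod 2) V) (N : Subgroup G) : Prop where
  t_mem : C.t ∈ N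
  b_mem : ∀ v ∈ U, C.b v ∈ N
  y_mem : ∀ v ∈ U, v ≠ 0 → y v ∈ N
  p_mem : ∀ v ∈ U, ∀ hv : v ≠ 0, ∃ p ∈ N, PP h hv p
  fix : ∀ g : C.L, (g : G) ∈ N → ∀ x, (∀ v ∈ U, C.S.B v x = 0) → C.S.ρ g x = x
  split : ∀ x, ∃ v ∈ U, ∀ w ∈ U, C.S.B w (x + v) = 0

theorem SubO.sub {U : Submodule (ZMod 2) V} {N : Subgroup G} (s : SubO h U N) : Sub C U N where
  t_mem := s.t_mem
  b_mem := s.b_mem
  y_mem v hv hv0 := ⟨y v, s.y_mem v hv hv0, h.Y v hv0⟩
  fix := s.fix
  split := s.split

theorem subO_top [Finite V] (hV : 256 ≤ Nat.card V) : SubO h ⊤ ⊤ where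
  t_mem := mem_top _
  b_mem _ _ := mem_top _
  y_mem _ _ _ := mem_top _
  p_mem v _ hv := by
    obtain ⟨p, hp⟩ := PP.exists h hV hv
    exact ⟨p, mem_top _, hp⟩
  fix g _ x hx := by
    have : x = 0 := by
      apply C.S.nondeg
      intro w
      rw [C.S.symm]
      exact hx w trivial
    rw [this, map_zero]
  split x := ⟨x, trivial, fun w _ => by rw [aa, map_zero]⟩

/-- `F_u ∩ C(b_{u'}) = 1` for `(u, u') = 1` -/
theorem F_eq_one {u u' : V} (hu : u ≠ 0) (huu : C.S.B u u' = 1) {a : G} (ha : a ∈ F h hu)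
    (hc : Commute a (C.b u')) : a = 1 := by
  have key : ∀ q ∈ C.Q u, Commute q (C.b u') → q = 1 := by
    rintro _ ⟨q, hq, rfl⟩ hqc
    have h1 := (C.commute_iff q u').1 hqc
    exact congrArg Subtype.val (Qu_eq_one huu hq h1)
  have ht := C.commute_t (C.b_mem u')
  have h1 : Commute (q C a) (C.b u') :=
    ((ht.symm.mul_left hc).mul_left ht.symm).mul_left hc.inv_left
  rcases ha.2 with ⟨-, h2⟩ | ⟨-, h2⟩
  · have h3 := key _ h2 h1
    exact key _ (mem_Q_of_F h hu ha (q_eq_one.1 h3)) hc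
  · exfalso
    -- the square of the bracket is `b_u`
    have e1 : q C a * q C a = C.b u := by
      have h3 := (z_Q h hu h2).eq
      have e2 : q C a = z C y u * ((z C y u)⁻¹ * q C a) := by group
      rw [e2]
      calc z C y u * ((z C y u)⁻¹ * q C a) * (z C y u * ((z C y u)⁻¹ * q C a))
          = z C y u * (((z C y u)⁻¹ * q C a) * z C y u) * ((z C y u)⁻¹ * q C a) := by group
        _ = z C y u * (z C y u * ((z C y u)⁻¹ * q C a)) * ((z C y u)⁻¹ * q C a) := by rw [h3]
        _ = (z C y u * z C y u) * (((z C y u)⁻¹ * q C a) * ((z C y u)⁻¹ * q C a)) := by group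
        _ = C.b u := by rw [z_sq h hu, C.Q_sq hu h2, mul_one]
    have h3 : Commute (C.b u) (C.b u') := by
      rw [← e1]; exact h1.mul_left h1
    have h4 := key _ (C.b_mem_Q u) h3
    exact C.b_ne_one hu h4

/-- every element of `⟨z_u⟩ Q_u ∩ N` is a bracket -/
theorem exists_bracketO {U : Submodule (ZMod 2) V} {N : Subgroup G} (s : SubO h U N) {u : V} (hu : u ≠ 0)
    (huU : u ∈ U) {d : G} (hd : d ∈ C.Q u ∨ (z C y u)⁻¹ * d ∈ C.Q u) (hdN : d ∈ N) :
    ∃ c ∈ N, c ∈ F h hu ∧ q C c = d := by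
  have hzN : z C y u ∈ N := mul_mem (s.y_mem u huU hu) s.t_mem
  have key : ∀ k ∈ C.Q u, k ∈ N → ∃ c ∈ N, c ∈ F h hu ∧ q C c = k := by
    intro k hk hkN
    rcases Q_cases' hu hk with h1 | ⟨v, hv, c, hc, h1⟩
    · rcases h1 with h1 | h1
      · exact ⟨1, one_mem _, one_mem _, by rw [q_one, h1]⟩
      · exact ⟨z C y u, hzN, z_mem_F h hu, by rw [q_z h hu, h1]⟩
    · -- `v ∈ U`
      have hvU : v ∈ U := by
        apply s.sub.mem_of_perp
        intro x hx
        obtain ⟨k', hk', hkk⟩ := hk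
        have h2 := s.fix k' (by rw [show (k' : G) = k from hkk]; exact hkN) x hx
        have hux : C.S.B u x = 0 := hx u huU
        have h3 := ρ_m (D := C.S) hv.2.2.2 hux
        have h4 : k' = C.S.τ v * C.S.τ (v + u) ∨ k' = C.S.τ u * (C.S.τ v * C.S.τ (v + u)) := by
          rcases hc with hc | hc
          · left
            apply Subtype.ext
            rw [show (k' : G) = k from hkk, h1, hc, one_mul]
            rfl
          · right
            apply Subtype.ext
            rw [show (k' : G) = k from hkk, h1, hc]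
            rfl
        have h5 : x + C.S.B x v • u = x := by
          rcases h4 with h4 | h4
          · rw [← h3, ← h4]; exact h2
          · rw [h4, C.S.ρ_mul, h3, map_add, map_smul, C.S.hτ, C.S.hτ, C.S.symm x u, hux, zero_smul, add_zero,
              C.S.alt, zero_smul, add_zero] at h2
            exact h2
        have h6 : C.S.B x v • u = 0 := by
          have := add_left_cancel (h5.trans (add_zero x).symm)
          exact this
        rw [C.S.symm]
        rcases z2 (C.S.B x v) with h8 | h8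
        · exact h8
        · rw [h8, one_smul] at h6
          exact absurd h6 hu
      have hgN : g y u v ∈ N := mul_mem (s.y_mem v hvU hv.2.1) (s.y_mem _ (add_mem hvU huU) hv.add.2.1)
      have hg : q C (g y u v) = m C u v := g_bracket h hv
      rcases hc with hc | hc
      · exact ⟨g y u v, hgN, g_mem_F h hu hv, by rw [hg, h1, hc, one_mul]⟩
      · refine ⟨z C y u * g y u v, mul_mem hzN hgN, mul_mem (z_mem_F h hu) (g_mem_F h hu hv), ?_⟩
        rw [q_mul, q_z h hu, hg, (z_Q h hu (m_mem_Q hv.2.2.2)).eq, mul_inv_cancel_right, h1, hc]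
  rcases hd with hd | hd
  · exact key d hd hdN
  · obtain ⟨c, hcN, hcF, hc⟩ := key _ hd (mul_mem (inv_mem hzN) hdN)
    obtain ⟨p, hpN, hp⟩ := s.p_mem u huU hu
    refine ⟨p * c, mul_mem hpN hcN, mul_mem hp.mem hcF, ?_⟩
    rw [q_mul, hp.br, hc, (hp.comm_Q h hd).eq, mul_inv_cancel_right]
    group

/-- the induction -/
theorem growO [Finite V] (hV : 256 ≤ Nat.card V) : ∀ n, ∀ (U : Submodule (ZMod 2) V) (N : Subgroup G),
    SubO h U N → Nat.card U ≤ n →
    ∃ S ≤ N, (∀ s ∈ S, C.t * s * C.t ∈ S) ∧ (∀ s ∈ S, Commute s C.t → s ∈ C.L) ∧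
      (∀ s ∈ S, (C.t * s) * (C.t * s) = 1 → ∃ c ∈ S, C.t * s = c * C.t * c⁻¹) ∧
      Odd ((S ⊓ C.L).relIndex (N ⊓ C.L)) := by
  intro n
  induction n with
  | zero =>
    intro U N _ hn
    have : 0 < Nat.card U := Nat.card_pos
    omega
  | succ n ih =>
    intro U N hs hn
    have hsub0 := hs.sub
    by_cases hU : ∃ u ∈ U, u ≠ (0 : V)
    swap
    · push Not at hU
      refine ⟨⊥, bot_le, ?_, ?_, ?_, ?_⟩
      · intro s hs
        rw [mem_bot.1 hs, mul_one, C.tt]
        exact one_mem _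
      · intro s hs _
        rw [mem_bot.1 hs]; exact one_mem _
      · intro s hs _
        exact ⟨1, one_mem _, by rw [mem_bot.1 hs]; group⟩
      · have : N ⊓ C.L = ⊥ := by
          rw [eq_bot_iff]
          rintro g ⟨hgN, hgL⟩
          have h1 : (⟨g, hgL⟩ : C.L) = 1 := by
            apply C.S.ext_iff
            intro v
            rw [C.S.ρ_one]
            apply hs.fix _ hgN
            intro w hw
            rw [hU w hw, map_zero, LinearMap.zero_apply]
          exact mem_bot.2 (congrArg Subtype.val h1)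
        rw [this, relIndex_bot_right]
        exact odd_one
    have hU' := hU
    obtain ⟨u, huU, hu⟩ := hU
    obtain ⟨u', hu'U, huu', -⟩ := hsub0.exists_sep huU (zero_mem U) hu hu
    rw [C.S.symm] at huu'
    have hyp := hyp_of (C := C) hV hu
    set R := F h hu with hR
    set U1 : Submodule (ZMod 2) V := U ⊓ (LinearMap.ker (C.S.B u) ⊓ LinearMap.ker (C.S.B u')) with hU1
    have memU1 : ∀ v, v ∈ U1 ↔ v ∈ U ∧ C.S.B u v = 0 ∧ C.S.B u' v = 0 := by
      intro v
      rw [hU1, Submodule.mem_inf, Submodule.mem_inf, LinearMap.mem_ker, LinearMap.mem_ker]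
    set N1 : Subgroup G := N ⊓ (centralizer ({C.b u, C.b u'} : Set G) ⊓ normalizer (R : Set G)) with hN1
    have memN1 : ∀ g, g ∈ N1 ↔ g ∈ N ∧ (Commute g (C.b u) ∧ Commute g (C.b u')) ∧ g ∈ normalizer (R : Set G) := by
      intro g
      rw [hN1, mem_inf, mem_inf, mem_centralizer_iff]
      constructor
      · rintro ⟨h1, h2, h3⟩
        exact ⟨h1, ⟨(h2 (C.b u) (by simp)).symm, (h2 (C.b u') (by simp)).symm⟩, h3⟩
      · rintro ⟨h1, ⟨h2, h2'⟩, h3⟩
        refine ⟨h1, ?_, h3⟩
        rintro x (rfl | rfl)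
        · exact h2.eq.symm
        · exact h2'.eq.symm
    -- projection
    have hproj : ∀ v ∈ U, v + (C.S.B u' v) • u + (C.S.B u v) • u' ∈ U1 := by
      intro v hv
      rw [memU1]
      refine ⟨add_mem (add_mem hv (U.smul_mem _ huU)) (U.smul_mem _ hu'U), ?_, ?_⟩
      · simp only [map_add, map_smul, C.S.alt, huu', smul_eq_mul]
        generalize C.S.B u v = a
        generalize C.S.B u' v = b
        revert a b; decide
      · simp only [map_add, map_smul, C.S.alt, C.S.symm u' u, huu', smul_eq_mul]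
        generalize C.S.B u v = a
        generalize C.S.B u' v = b
        revert a b; decide
    have hsub : SubO h U1 N1 := by
      refine ⟨?_, ?_, ?_, ?_, ?_, ?_⟩
      · rw [memN1]
        exact ⟨hs.t_mem, ⟨(C.commute_t (C.b_mem u)).symm, (C.commute_t (C.b_mem u')).symm⟩, t_norm h hu⟩
      · intro v hv
        obtain ⟨hvU, hv1, hv2⟩ := (memU1 v).1 hv
        rw [memN1]
        exact ⟨hs.b_mem v hvU, ⟨(C.b_comm hv1).symm, (C.b_comm hv2).symm⟩,
          L_norm h hu (x := C.S.τ v) (by rw [C.S.hτ, hv1, zero_smul, add_zero])⟩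
      · intro v hv hv0
        obtain ⟨hvU, hv1, hv2⟩ := (memU1 v).1 hv
        rw [memN1]
        exact ⟨hs.y_mem v hvU hv0, ⟨y_comm_b h hv0 (by rw [C.S.symm, hv1]),
          y_comm_b h hv0 (by rw [C.S.symm, hv2])⟩, y_norm h hV hu hv0 hv1⟩
      · intro v hv hv0
        obtain ⟨hvU, hv1, hv2⟩ := (memU1 v).1 hv
        obtain ⟨p, hpN, hp⟩ := hs.p_mem v hvU hv0
        refine ⟨p, ?_, hp⟩
        rw [memN1]
        exact ⟨hpN, ⟨hp.comm u (by rw [C.S.symm, hv1]), hp.comm u' (by rw [C.S.symm, hv2])⟩,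
          hp.norm h hV hu hv0 hv1⟩
      · intro g hg x hx
        obtain ⟨hgN, ⟨hg1, hg2⟩, -⟩ := (memN1 g).1 hg
        have e1 : C.S.ρ g u = u := (C.commute_iff g u).1 hg1
        have e2 : C.S.ρ g u' = u' := (C.commute_iff g u').1 hg2
        have h1 : C.S.ρ g (x + (C.S.B u' x) • u + (C.S.B u x) • u') = x + (C.S.B u' x) • u + (C.S.B u x) • u' := by
          apply hs.fix g hgN
          intro w hw
          have h2 := hx _ (hproj w hw)
          simp only [map_add, map_smul, LinearMap.add_apply, LinearMap.smul_apply, smul_eq_mul, C.S.symm w u,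
            C.S.symm w u'] at h2 ⊢
          generalize C.S.B w x = a at *
          generalize C.S.B u' x = b at *
          generalize C.S.B u x = c at *
          generalize C.S.B u' w = d at *
          generalize C.S.B u w = e at *
          revert h2
          clear * -
          revert a b c d e
          decide
        rw [map_add, map_add, map_smul, map_smul, e1, e2] at h1
        exact add_right_cancel (add_right_cancel h1)
      · intro x
        obtain ⟨v, hv, hxv⟩ := hs.split x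
        refine ⟨_, hproj v hv, fun w hw => ?_⟩
        obtain ⟨hwU, hw1, hw2⟩ := (memU1 w).1 hw
        have h1 := hxv w hwU
        rw [show x + (v + C.S.B u' v • u + C.S.B u v • u') = (x + v) + (C.S.B u' v • u + C.S.B u v • u') by abel,
          map_add, h1, map_add, map_smul, map_smul, C.S.symm w u, hw1, C.S.symm w u', hw2]
        simp
    have hcard : Nat.card U1 ≤ n := by
      have hlt : U1 < U := by
        refine lt_of_le_of_ne inf_le_left (fun he => ?_)
        have h1 : u ∈ U1 := by rw [he]; exact huU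
        have h2 := ((memU1 u).1 h1).2.2
        rw [C.S.symm, huu'] at h2
        exact absurd h2 (by decide)
      have h2 := SpData.two_mul_card_le hlt
      have h3 : 0 < Nat.card U1 := Nat.card_pos
      omega
    obtain ⟨S1, hS1N, hS1t, hS1c, hS1i, hS1o⟩ := ih U1 N1 hsub hcard
    have hS1 : ∀ s ∈ S1, s ∈ N ∧ (Commute s (C.b u) ∧ Commute s (C.b u')) ∧ s ∈ normalizer (R : Set G) :=
      fun s hs => (memN1 s).1 (hS1N hs)
    have hnorm : ∀ s ∈ N1, ∀ r ∈ R ⊓ N, s * r * s⁻¹ ∈ R ⊓ N := by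
      intro s hs r hr
      obtain ⟨h1, -, h3⟩ := (memN1 s).1 hs
      exact mem_inf.2 ⟨(mem_normalizer_iff.1 h3 r).1 hr.1, mul_mem (mul_mem h1 hr.2) (inv_mem h1)⟩
    have one_of : ∀ d ∈ R, Commute d (C.b u') → d = 1 := fun d hd hc => F_eq_one h hu huu' hd hc
    set S := prodSub (R ⊓ N) S1 (fun s hs => hnorm s (hS1N hs)) with hS
    have tN : ∀ r ∈ N, C.t * r * C.t ∈ N := fun r hr => mul_mem (mul_mem hs.t_mem hr) hs.t_mem
    have hQS : ∀ q ∈ C.Q u, q ∈ N → q ∈ S := fun q hq hqN =>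
      ⟨q, ⟨Q_le_F h hu hq, hqN⟩, 1, one_mem _, (mul_one q).symm⟩
    refine ⟨S, ?_, ?_, ?_, ?_, ?_⟩
    · rintro _ ⟨r, hr, s, hs, rfl⟩
      exact mul_mem hr.2 (hS1 s hs).1
    · rintro _ ⟨r, hr, s, hs, rfl⟩
      refine ⟨C.t * r * C.t, ⟨t_F h hu hr.1, tN r hr.2⟩, C.t * s * C.t, hS1t s hs, ?_⟩
      calc C.t * (r * s) * C.t = C.t * r * (1 : G) * s * C.t := by group
        _ = C.t * r * (C.t * C.t) * s * C.t := by rw [C.tt]
        _ = _ := by group
    · rintro _ ⟨r, hr, s, hs, rfl⟩ hc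
      have h1 : r⁻¹ * (C.t * r * C.t) = s * (C.t * s * C.t)⁻¹ := by
        have h2 : (C.t * r * C.t) * (C.t * s * C.t) = r * s := by
          calc (C.t * r * C.t) * (C.t * s * C.t) = C.t * r * (C.t * C.t) * s * C.t := by group
            _ = C.t * (r * s) * C.t := by rw [C.tt]; group
            _ = (r * s * C.t) * C.t := by rw [← hc.eq]
            _ = r * s * (C.t * C.t) := by group
            _ = r * s := by rw [C.tt, mul_one]
        rw [inv_mul_eq_iff_eq_mul, ← mul_assoc, ← h2, mul_inv_cancel_right]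
      have h3 : r⁻¹ * (C.t * r * C.t) = 1 := by
        apply one_of _ (mul_mem (inv_mem hr.1) (t_F h hu hr.1))
        rw [h1]
        exact ((hS1 s hs).2.1.2).mul_left ((hS1 _ (hS1t s hs)).2.1.2.inv_left)
      have h4 : C.t * r * C.t = r := (inv_mul_eq_one.1 h3).symm
      have h5 : C.t * s * C.t = s := by
        rw [h3] at h1
        exact (mul_inv_eq_one.1 h1.symm).symm
      have comm_of : ∀ x : G, C.t * x * C.t = x → Commute x C.t := by
        intro x hx
        change x * C.t = C.t * x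
        calc x * C.t = (C.t * x * C.t) * C.t := by rw [hx]
          _ = C.t * x * (C.t * C.t) := by group
          _ = _ := by rw [C.tt, mul_one]
      exact mul_mem (C.Q_le u (mem_Q_of_F h hu hr.1 (comm_of r h4))) (hS1c s hs (comm_of s h5))
    · rintro _ ⟨r, hr, s, hsS, rfl⟩ hinv
      set r1 := C.t * r * C.t with hr1
      have hr1R : r1 ∈ R := t_F h hu hr.1
      have hr1N : r1 ∈ N := tN r hr.2
      have e0 : C.t * (r * s) = r1 * (C.t * s) := by
        rw [hr1]
        calc C.t * (r * s) = C.t * r * (1 : G) * s := by group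
          _ = C.t * r * (C.t * C.t) * s := by rw [C.tt]
          _ = _ := by group
      have htsN : C.t * s ∈ N1 := mul_mem hsub.t_mem (hS1N hsS)
      have h1 : (C.t * s) * (C.t * s) = 1 := by
        apply one_of
        · have h2 : (C.t * s) * (C.t * s) = (r1 * ((C.t * s) * r1 * (C.t * s)⁻¹))⁻¹ := by
            rw [e0] at hinv
            apply eq_inv_of_mul_eq_one_right
            rw [← hinv]
            group
          rw [h2]
          exact inv_mem (mul_mem hr1R (hnorm _ htsN r1 ⟨hr1R, hr1N⟩).1)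
        · have h3 := ((memN1 _).1 htsN).2.1.2
          exact h3.mul_left h3
      obtain ⟨c, hcS, hc⟩ := hS1i s hsS h1
      obtain ⟨hcN, -, -⟩ := hS1 c hcS
      set r2 := c⁻¹ * r1 * c with hr2
      have hr2RN : r2 ∈ R ⊓ N := by
        have := hnorm _ (inv_mem (hS1N hcS)) r1 ⟨hr1R, hr1N⟩
        rwa [inv_inv] at this
      have e1 : C.t * (r * s) = c * (r2 * C.t) * c⁻¹ := by
        rw [e0, hc, hr2]; group
      have h4 : (r2 * C.t) * (r2 * C.t) = 1 := by
        rw [e1] at hinv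
        have : (r2 * C.t) * (r2 * C.t) = c⁻¹ * (c * (r2 * C.t) * c⁻¹ * (c * (r2 * C.t) * c⁻¹)) * c := by group
        rw [this, hinv]; group
      have h5 : C.t * r2 * C.t = r2⁻¹ := by
        rw [eq_comm]
        exact inv_eq_of_mul_eq_one_right (by rw [← h4]; group)
      have h6 : q C r2 = (r2 * r2)⁻¹ := by
        unfold q
        rw [h5, mul_inv_rev r2 r2]
      have h7 : Zm C u (q C r2) := by
        rw [h6]
        exact Zm.inv (F_sq h hu hyp hr2RN.1)
      have h8 := mem_D_of_F h hu hr2RN.1 h7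
      have h9 : r2⁻¹ ∈ C.Q u ∨ (z C y u)⁻¹ * r2⁻¹ ∈ C.Q u := by
        rcases h8 with h8 | h8
        · exact Or.inl (inv_mem h8)
        · right
          have e2 : (z C y u)⁻¹ * r2⁻¹ = (z C y u)⁻¹ * ((z C y u)⁻¹ * r2)⁻¹ * (z C y u)⁻¹ := by group
          have h10 := ((z_Q h hu (inv_mem h8)).inv_left).eq
          rw [e2, h10, mul_assoc, ← mul_inv_rev, z_sq h hu]
          exact mul_mem (inv_mem h8) (inv_mem (C.b_mem_Q u))
      obtain ⟨r3, hr3N, hr3R, hr3b⟩ := exists_bracketO h hs hu huU h9 (inv_mem hr2RN.2)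
      refine ⟨c * r3, ?_, ?_⟩
      · have h8 : c * r3 = (c * r3 * c⁻¹) * c := by group
        rw [h8]
        exact ⟨c * r3 * c⁻¹, hnorm c (hS1N hcS) r3 ⟨hr3R, hr3N⟩, c, hcS, rfl⟩
      · have h9 : r3 * C.t * r3⁻¹ = r2 * C.t := by
          have e3 : r2 * C.t = C.t * r2⁻¹ := by
            rw [← h5]
            calc r2 * C.t = (C.t * C.t) * r2 * C.t := by rw [C.tt, one_mul]
              _ = _ := by group
          rw [e3, ← hr3b]
          unfold q
          calc r3 * C.t * r3⁻¹ = (C.t * C.t) * r3 * C.t * r3⁻¹ := by rw [C.tt, one_mul]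
            _ = _ := by group
        rw [e1, ← h9]
        group
    · -- the index
      set B0 : Subgroup G := centralizer ({C.b u} : Set G) ⊓ (N ⊓ C.L) with hB0
      have hSB : S ⊓ C.L ≤ B0 := by
        rintro g ⟨⟨r, hr, s, hs, rfl⟩, hgL⟩
        refine mem_inf.2 ⟨mem_centralizer_singleton_iff.2 ?_, mem_inf.2 ⟨mul_mem hr.2 (hS1 s hs).1, hgL⟩⟩
        exact ((F_comm_b h hu hr.1).mul_left (hS1 s hs).2.1.1).eq
      have i1 := relIndex_mul_relIndex (S ⊓ C.L) B0 (N ⊓ C.L) hSB inf_le_right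
      rw [← i1, hB0, inf_relIndex_right, ← hB0]
      have i2 : (centralizer ({C.b u} : Set G)).relIndex (N ⊓ C.L) = Nat.card {v : V // v ∈ U ∧ v ≠ 0} := by
        apply relIndex_centralizer_eq' _ _ (fun v => C.b v.1) (fun v w hvw => Subtype.ext (C.b_inj hvw))
        · rintro a ⟨haN, haL⟩
          refine ⟨⟨C.S.ρ ⟨a, haL⟩ u, hsub0.ρ_mem ⟨a, haL⟩ haN huU, fun h0 => hu ?_⟩, ?_⟩
          · exact C.S.ρ_inj ⟨a, haL⟩ (by rw [h0, map_zero])
          · exact (C.b_conj ⟨a, haL⟩ u).symm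
        · rintro ⟨v, hvU, hv0⟩
          obtain ⟨g, hgN, hg⟩ := hsub0.trans huU hvU hu hv0
          refine ⟨g, ⟨hgN, g.2⟩, ?_⟩
          change C.b v = _
          rw [C.b_conj, hg]
      rw [i2]
      refine Odd.mul ?_ (odd_card hU')
      have i3 : (S ⊓ C.L).relIndex B0 = (S ⊓ C.L).relIndex (N1 ⊓ C.L) := by
        apply relIndex_of_cover
        · rintro g ⟨hg, hgL⟩
          obtain ⟨hgN, hgc, -⟩ := (memN1 g).1 hg
          exact ⟨mem_centralizer_singleton_iff.2 hgc.1.eq, hgN, hgL⟩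
        · rintro g ⟨hgc, hgN, hgL⟩
          have hgc' : Commute g (C.b u) := mem_centralizer_singleton_iff.1 hgc
          have e1 : C.S.ρ ⟨g, hgL⟩ u = u := (C.commute_iff ⟨g, hgL⟩ u).1 hgc'
          set z' := C.S.ρ ⟨g, hgL⟩ u' with hz'
          have hz'U : z' ∈ U := hsub0.ρ_mem ⟨g, hgL⟩ hgN hu'U
          have huz' : C.S.B u z' = 1 := by
            have := C.S.inv ⟨g, hgL⟩ u u'
            rw [e1] at this
            rw [hz', this, huu']
          set d := u' + z' with hd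
          have hdU : d ∈ U := add_mem hu'U hz'U
          have hud : C.S.B u d = 0 := by rw [hd, map_add, huu', huz']; decide
          set q : C.L := sg C.S u d * C.S.τ (C.S.B u' d • u) with hq
          have hqQ : q ∈ Qu C.S u := mul_mem (sg_mem_Qu hud) (τ_smul_mem_Qu u _)
          have hqN : (q : G) ∈ N := by
            change C.b u * C.b d * C.b (u + d) * C.b (C.S.B u' d • u) ∈ N
            exact mul_mem (mul_mem (mul_mem (hs.b_mem u huU) (hs.b_mem d hdU)) (hs.b_mem _ (add_mem huU hdU)))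
              (hs.b_mem _ (U.smul_mem _ huU))
          have hqu' : C.S.ρ q u' = z' := by
            have e1' : C.S.ρ (sg C.S u d) u' = u' + (C.S.B u' d • u + d) := by
              rw [ρ_sg C.S hud, C.S.symm u' u, huu', one_smul]
            have e2' : ∀ c : ZMod 2, C.S.ρ (C.S.τ (c • u)) u' = u' + c • u := by
              intro c
              rcases z2 c with hc | hc
              · rw [hc, zero_smul, C.S.τ_zero, C.S.ρ_one, add_zero]
              · rw [hc, one_smul, C.S.hτ, C.S.symm u' u, huu', one_smul]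
            rw [hq, C.S.ρ_mul, e2', map_add, map_smul, (sg_mem_Qu hud).1, e1']
            have e3' := aac (C.S.B u' d • u) d
            calc u' + (C.S.B u' d • u + d) + C.S.B u' d • u = u' + (C.S.B u' d • u + (C.S.B u' d • u + d)) := by
                  abel
              _ = u' + d := by rw [e3']
              _ = z' := aac u' z'
          have hqG : (q : G) ∈ C.Q u := ⟨q, hqQ, rfl⟩
          have hqi : (q : G)⁻¹ ∈ C.Q u := inv_mem hqG
          have hqc : Commute (q : G) (C.b u) := C.Q_comm hu hqG (C.b_mem_Q u)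
          have hn : (q : G)⁻¹ * g ∈ N1 ⊓ C.L := by
            have hL' : (q : G)⁻¹ * g ∈ C.L := mul_mem (inv_mem q.2) hgL
            have hc' : Commute ((q : G)⁻¹ * g) (C.b u) := hqc.inv_left.mul_left hgc'
            refine ⟨(memN1 _).2 ⟨mul_mem (inv_mem hqN) hgN, ⟨hc', ?_⟩, ?_⟩, hL'⟩
            · have e3 : C.S.ρ (q⁻¹ * ⟨g, hgL⟩) u' = u' := by
                rw [C.S.ρ_mul, ← hz', ← hqu', C.S.ρ_inv_apply]
              exact (C.commute_iff (q⁻¹ * ⟨g, hgL⟩) u').2 e3
            · exact L_norm h hu (x := ⟨(q : G)⁻¹ * g, hL'⟩) ((C.commute_iff ⟨(q : G)⁻¹ * g, hL'⟩ u).1 hc')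
          refine ⟨_, hn, ((q : G)⁻¹ * g)⁻¹ * q * ((q : G)⁻¹ * g), ?_, by group⟩
          have hq2 : ((q : G)⁻¹ * g)⁻¹ * q * ((q : G)⁻¹ * g) ∈ C.Q u := by
            have hc' : Commute ((q : G)⁻¹ * g) (C.b u) := hqc.inv_left.mul_left hgc'
            have := C.Q_conj (inv_mem hn.2) hc'.inv_left hqG
            rwa [inv_inv] at this
          have hq3 : ((q : G)⁻¹ * g)⁻¹ * q * ((q : G)⁻¹ * g) ∈ N := by
            have h5 := mul_mem (inv_mem hqN) hgN
            exact mul_mem (mul_mem (inv_mem h5) hqN) h5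
          exact ⟨hQS _ hq2 hq3, C.Q_le u hq2⟩
      rw [i3]
      refine Odd.of_dvd_nat hS1o (relIndex_dvd_of_le_left _ ?_)
      rintro g ⟨hg, hgL⟩
      exact ⟨⟨1, one_mem _, g, hg, (one_mul g).symm⟩, hgL⟩

/-- **The end of the pattern `(C, O)`.** -/
theorem exists_hom [Finite G] [Finite V] (hV : 256 ≤ Nat.card V) : ∃ m : G →* ℤˣ, m C.t = -1 := by
  obtain ⟨S, -, hSt, hSc, hSi, hSo⟩ := growO h hV (Nat.card (⊤ : Submodule (ZMod 2) V)) ⊤ ⊤ (subO_top h hV) le_rfl
  have htS : C.t ∉ S := fun h => C.tL (hSc _ h (Commute.refl _))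
  refine Cfsg.Agent.OddHalf.D7.Uni.Lay.exists_hom_of_free (F := S) (U := S ⊓ C.L) C.tt hSt htS ?_ hSi ?_
  · intro w
    constructor
    · rintro ⟨h1, h2⟩
      refine ⟨h1, ?_⟩
      rw [← (C.commute_t h2).eq, mul_assoc, C.tt, mul_one]
    · rintro ⟨h1, h2⟩
      refine ⟨h1, hSc w h1 ?_⟩
      change w * C.t = C.t * w
      calc w * C.t = (C.t * w * C.t) * C.t := by rw [h2]
        _ = C.t * w * (C.t * C.t) := by group
        _ = _ := by rw [C.tt, mul_one]
  · have h1 : ((S ⊓ C.L) ⊔ zpowers C.t).relIndex (centralizer ({C.t} : Set G)) =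
        ((S ⊓ C.L) ⊔ zpowers C.t).relIndex C.L := by
      apply relIndex_of_cover
      · intro x hx
        rw [mem_centralizer_singleton_iff]
        exact (C.commute_t hx).eq
      · intro g hg
        have hg' : Commute g C.t := mem_centralizer_singleton_iff.1 hg
        rcases (C.cent g).1 hg' with h | h
        · exact ⟨g, h, 1, one_mem _, (mul_one g).symm⟩
        · refine ⟨C.t * g, h, C.t, mem_sup_right (mem_zpowers _), ?_⟩
          rw [mul_assoc, hg'.eq, ← mul_assoc, C.tt, one_mul]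
    rw [h1]
    refine Odd.of_dvd_nat ?_ (relIndex_dvd_of_le_left _ (le_sup_left (a := S ⊓ C.L)))
    rwa [top_inf_eq] at hSo

end Loc

end Cfsg.Agent.OddHalf.SpTwo.EndCO

end
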