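import Cfsg.Agent.OddHalf.SpTwo.Syl
import Cfsg.Agent.OddHalf.SpTwoN.Defs
import Cfsg.Agent.Blocks.SylowIn

-- merged: Cfsg.Agent.OddHalf.SpTwo.Start
section

/-!
# The start: an element `g` with `g t g⁻¹ = t z`, `g z g⁻¹ = z`

for `z = τ v` (or `z = s_ℓ`) as soon as `t` is conjugate to `t z`.
-/

set_option autoImplicit false
set_option linter.unusedSimpArgs false

open scoped commutatorElement

namespace Cfsg.Agent.OddHalf.SpTwo

open Cfsg.Agent.StandardComponent.SpTwo
open Cfsg.Agent.OddHalf.SpTwoN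

section Sp

variable {X V : Type*} [Group X] [AddCommGroup V] [Module (ZMod 2) V] (D : SpData X V)

theorem q_pl {v w a b : V} (hvw : D.B v w = 0) (ha : a ∈ pl v w) (hb : b ∈ pl v w) (ha0 : a ≠ 0)
    (hab : b ∉ ln a) : q D a b 0 = q D v w 0 := by
  have hwv : D.B w v = 0 := by rw [D.symm]; exact hvw
  have hba : D.B b a = 0 := pl_ti D hvw hb a ha
  have hb0 : b ≠ 0 := ne_zero_of_notMem hab
  have hne : b ≠ a := fun h => hab (by rw [h]; exact self_mem_ln a)
  apply D.ext_iff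
  intro x
  apply ext_B D
  intro z
  rw [q_apply D hba, q_apply D hwv]
  rcases mem_pl.1 ha with ha1 | ha1 | ha1 | ha1 <;> rcases mem_pl.1 hb with hb1 | hb1 | hb1 | hb1 <;>
    first
    | exact absurd ha1 ha0
    | exact absurd hb1 hb0
    | exact absurd (hb1.trans ha1.symm) hne
    | (simp only [ha1, hb1, map_add, LinearMap.add_apply, map_smul, LinearMap.smul_apply, smul_eq_mul]
       all_goals
         generalize D.B x v = a1
         generalize D.B x w = a2
         generalize D.B x z = a3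
         generalize D.B v z = a4
         generalize D.B w z = a5
         revert a1 a2 a3 a4 a5
         decide)

theorem conj_eq_iff {x y : X} : x * y * x⁻¹ = y ↔ x * y = y * x := mul_inv_eq_iff_eq_mul

theorem commute_s_iff [Finite V] {v w : V} (hv : v ≠ 0) (hw : w ∉ ln v) (hvw : D.B v w = 0) {g : X} :
    g * q D v w 0 = q D v w 0 * g ↔ g ∈ PU D (pl v w) := by
  have hwv : D.B w v = 0 := by rw [D.symm]; exact hvw
  constructor
  · intro h
    have h1 : ∀ x, D.ρ (q D v w 0) (D.ρ g x) = D.ρ g (D.ρ (q D v w 0) x) := by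
      intro x
      rw [← D.ρ_mul, ← h, D.ρ_mul]
    obtain ⟨x, hx, hxw⟩ := sep D hw
    have hv' : v ∉ ln w := by
      rw [mem_ln]
      rintro (h | h)
      · exact hv h
      · exact hw (by rw [h]; exact self_mem_ln _)
    obtain ⟨y, hy, hyv⟩ := sep D hv'
    rw [mem_perp_ln] at hx hy
    apply mem_PU_pl
    · have h2 := h1 x
      rw [q_apply D hwv _ x, q_apply D hwv, hxw, hx] at h2
      simp only [zero_mul, mul_zero, zero_smul, add_zero, one_smul, map_add] at h2
      have h3 := add_left_cancel (h2.symm.trans (add_assoc _ _ _))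
      rw [h3]
      exact add_mem (Submodule.smul_mem _ _ (left_mem_pl v w)) (Submodule.smul_mem _ _ (right_mem_pl v w))
    · have h2 := h1 y
      rw [q_apply D hwv _ y, q_apply D hwv, hyv, hy] at h2
      simp only [zero_mul, mul_zero, zero_smul, add_zero, one_smul, map_add] at h2
      have h3 := add_left_cancel (h2.symm.trans (add_assoc _ _ _))
      rw [h3]
      exact add_mem (Submodule.smul_mem _ _ (left_mem_pl v w)) (Submodule.smul_mem _ _ (right_mem_pl v w))
  · intro h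
    rw [← conj_eq_iff, q_conj]
    apply q_pl D hvw ((h v).2 (left_mem_pl v w)) ((h w).2 (right_mem_pl v w))
    · intro h1
      rw [← map_zero (D.ρ g)] at h1
      exact hv (D.ρ_inj g h1)
    · intro h1
      rcases mem_ln.1 h1 with h1 | h1
      · rw [← map_zero (D.ρ g)] at h1
        exact ne_zero_of_notMem hw (D.ρ_inj g h1)
      · exact hw (by rw [D.ρ_inj g h1]; exact self_mem_ln v)

theorem commute_b_iff {v : V} (hv : v ≠ 0) {g : X} : g * q D v 0 1 = q D v 0 1 * g ↔ g ∈ PU D (ln v) := by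
  rw [q_zero_one, commute_τ_iff, mem_PU_ln D hv]

theorem commute_c_iff [Finite V] {v w : V} (hv : v ≠ 0) (hw : w ∉ ln v) (hvw : D.B v w = 0) {g : X} :
    g * q D v w 1 = q D v w 1 * g ↔ g ∈ (PU D (ln v) ⊓ PU D (pl v w) : Subgroup X) := by
  have hwv : D.B w v = 0 := by rw [D.symm]; exact hvw
  have hc : q D v w 1 = q D v w 0 * q D v 0 1 := by
    rw [q_mul D hwv (B_zero D v)]; simp
  constructor
  · intro h
    have h1 : ∀ x, D.ρ (q D v w 1) (D.ρ g x) = D.ρ g (D.ρ (q D v w 1) x) := by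
      intro x
      rw [← D.ρ_mul, ← h, D.ρ_mul]
    have h2 : ∀ x, D.B x (D.ρ (q D v w 1) x) = D.B x v := by
      intro x
      rw [q_apply D hwv]
      simp only [map_add, map_smul, smul_eq_mul, D.alt, one_mul, zero_add, z2_mul]
      rw [mul_comm (D.B x w), z2_add, zero_add]
    have h3 : D.ρ g⁻¹ v = v := by
      apply ext_B D
      intro x
      have h4 := h2 (D.ρ g x)
      rw [h1, D.inv, h2, D.inv_left] at h4
      rw [D.symm, ← h4, D.symm]
    have h4 : g ∈ PU D (ln v) := by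
      have := inv_mem ((mem_PU_ln D hv).2 h3)
      rwa [inv_inv] at this
    refine Subgroup.mem_inf.2 ⟨h4, ?_⟩
    rw [← commute_s_iff D hv hw hvw]
    have h5 := (commute_b_iff D hv).2 h4
    have h6 : q D v w 0 = q D v w 1 * q D v 0 1 := by
      rw [hc, mul_assoc, q_sq D (B_zero D v), mul_one]
    rw [h6, ← mul_assoc, h, mul_assoc, h5, mul_assoc]
  · intro h
    have h5 := (commute_b_iff D hv).2 (Subgroup.mem_inf.1 h).1
    have h6 := (commute_s_iff D hv hw hvw).2 (Subgroup.mem_inf.1 h).2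
    rw [hc, ← mul_assoc, h6, mul_assoc, h5, mul_assoc]

/-- transitivity on the nonzero vectors -/
theorem trans_vec [Finite V] {v v' : V} (hv : v ≠ 0) (hv' : v' ≠ 0) : ∃ g : X, D.ρ g v = v' := by
  have key : ∀ a b : V, D.B a b = 1 → D.ρ (D.τ (a + b)) a = b := by
    intro a b h
    rw [D.hτ, map_add, D.alt, h, zero_add, one_smul, aac]
  obtain ⟨y1, -, h1⟩ := sep D (A := ⊥) (x := v) (by simpa using hv)
  obtain ⟨y2, -, h2⟩ := sep D (A := ⊥) (x := v') (by simpa using hv')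
  have : ∃ y, D.B v y = 1 ∧ D.B y v' = 1 := by
    rcases z2 (D.B y1 v') with h3 | h3
    · rcases z2 (D.B y2 v) with h4 | h4
      · refine ⟨y1 + y2, ?_, ?_⟩
        · rw [D.symm, B_add, h1, h4, add_zero]
        · rw [B_add, h2, h3, zero_add]
      · exact ⟨y2, by rw [D.symm]; exact h4, h2⟩
    · exact ⟨y1, by rw [D.symm]; exact h1, h3⟩
  obtain ⟨y, hy, hy'⟩ := this
  exact ⟨D.τ (y + v') * D.τ (v + y), by rw [D.ρ_mul, key _ _ hy, key _ _ hy']⟩

/-- transitivity of the stabilizer of a vector on the vectors of its orthogonal space -/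
theorem trans_vec_perp [Finite V] {v w w' : V} (hw : w ∉ ln v) (hw' : w' ∉ ln v)
    (h : D.B w v = 0) (h' : D.B w' v = 0) : ∃ g : X, D.ρ g v = v ∧ D.ρ g w = w' ∧
      g ∈ TG D (perp D (ln v) : Set V) := by
  have key : ∀ a b : V, D.B a b = 1 → D.ρ (D.τ (a + b)) a = b := by
    intro a b h
    rw [D.hτ, map_add, D.alt, h, zero_add, one_smul, aac]
  have key2 : ∀ a b : V, D.B a v = 0 → D.B b v = 0 → D.ρ (D.τ (a + b)) v = v := by
    intro a b h h'
    rw [D.hτ, D.symm, B_add, h, h', zero_add, zero_smul, add_zero]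
  obtain ⟨y1, hy1, h1⟩ := sep D hw
  obtain ⟨y2, hy2, h2⟩ := sep D hw'
  rw [mem_perp_ln] at hy1 hy2
  have : ∃ y, D.B y v = 0 ∧ D.B w y = 1 ∧ D.B y w' = 1 := by
    rcases z2 (D.B y1 w') with h3 | h3
    · rcases z2 (D.B y2 w) with h4 | h4
      · refine ⟨y1 + y2, ?_, ?_, ?_⟩
        · rw [B_add, hy1, hy2, add_zero]
        · rw [D.symm, B_add, h1, h4, add_zero]
        · rw [B_add, h2, h3, zero_add]
      · exact ⟨y2, hy2, by rw [D.symm]; exact h4, h2⟩
    · exact ⟨y1, hy1, by rw [D.symm]; exact h1, h3⟩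
  obtain ⟨y, hyv, hy, hy'⟩ := this
  refine ⟨D.τ (y + w') * D.τ (w + y), ?_, ?_, ?_⟩
  · rw [D.ρ_mul, key2 _ _ h hyv, key2 _ _ hyv h']
  · rw [D.ρ_mul, key _ _ hy, key _ _ hy']
  · refine mul_mem (τ_mem_TG D ?_) (τ_mem_TG D ?_)
    · exact (mem_perp_ln D).2 (by rw [B_add, hyv, h', add_zero])
    · exact (mem_perp_ln D).2 (by rw [B_add, hyv, h, add_zero])

theorem trans_pl [Finite V] {v w v' w' : V} (hv : v ≠ 0) (hw : w ∉ ln v) (h : D.B v w = 0)
    (hv' : v' ≠ 0) (hw' : w' ∉ ln v') (h' : D.B v' w' = 0) : ∃ g : X, D.ρ g v = v' ∧ D.ρ g w = w' := by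
  obtain ⟨g, hg⟩ := trans_vec D hv hv'
  have h1 : D.ρ g w ∉ ln v' := by
    rw [mem_ln, ← hg]
    rintro (h1 | h1)
    · rw [← map_zero (D.ρ g)] at h1
      exact ne_zero_of_notMem hw (D.ρ_inj g h1)
    · exact hw (by rw [D.ρ_inj g h1]; exact self_mem_ln v)
  obtain ⟨k, hk, hk', -⟩ := trans_vec_perp D h1 hw' (by rw [← hg, D.inv, D.symm]; exact h)
    (by rw [D.symm]; exact h')
  exact ⟨k * g, by rw [D.ρ_mul, hg, hk], by rw [D.ρ_mul, hk']⟩

end Sp

/-! ### contexts -/

variable {G V : Type*} [Group G] [AddCommGroup V] [Module (ZMod 2) V] (C : Ctx G V)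

theorem t_comm (y : C.L) : (y : G) * C.t = C.t * y := C.commute_of_mem y.2

theorem ne_t_mul (y y' : C.L) : (y : G) ≠ C.t * y' := by
  intro h
  apply C.tL
  have : C.t = (y : G) * (y' : G)⁻¹ := by rw [h]; group
  rw [this]
  exact mul_mem y.2 (inv_mem y'.2)

theorem exists_lift {x : G} (h : x * C.t = C.t * x) : ∃ y : C.L, x = y ∨ x = C.t * y := by
  rcases (C.cent x).1 h with h1 | h1
  · exact ⟨⟨x, h1⟩, Or.inl rfl⟩
  · refine ⟨⟨_, h1⟩, Or.inr ?_⟩
    change x = C.t * (C.t * x)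
    rw [← mul_assoc, C.tt, one_mul]

theorem tt_mid (a b : G) : a * C.t * (C.t * b) = a * b := by
  rw [mul_assoc, ← mul_assoc C.t, C.tt, one_mul]

/-- `⟨t⟩ × A` -/
def TX (A : Subgroup C.L) : Subgroup G where
  carrier := {x | ∃ y : C.L, y ∈ A ∧ (x = y ∨ x = C.t * y)}
  one_mem' := ⟨1, one_mem _, Or.inl rfl⟩
  mul_mem' := by
    rintro a b ⟨x, hx, hx'⟩ ⟨y, hy, hy'⟩
    refine ⟨x * y, mul_mem hx hy, ?_⟩
    rcases hx' with rfl | rfl <;> rcases hy' with rfl | rfl
    · left; rfl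
    · right; rw [← mul_assoc, t_comm, mul_assoc]; rfl
    · right; rw [mul_assoc]; rfl
    · left
      calc C.t * (x : G) * (C.t * y) = C.t * ((x : G) * C.t) * y := by group
        _ = (C.t * C.t) * (x * y) := by rw [t_comm]; group
        _ = _ := by rw [C.tt, one_mul]; rfl
  inv_mem' := by
    rintro a ⟨x, hx, hx'⟩
    refine ⟨x⁻¹, inv_mem hx, ?_⟩
    rcases hx' with rfl | rfl
    · left; rfl
    · right
      rw [mul_inv_rev, C.t_inv]
      have := t_comm C x⁻¹
      exact this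

theorem mem_TX {A : Subgroup C.L} {x : G} : x ∈ TX C A ↔ ∃ y : C.L, y ∈ A ∧ (x = y ∨ x = C.t * y) := Iff.rfl

theorem coe_mem_TX {A : Subgroup C.L} {y : C.L} : (y : G) ∈ TX C A ↔ y ∈ A := by
  constructor
  · rintro ⟨z, hz, h | h⟩
    · rwa [Subtype.ext h]
    · exact absurd h (ne_t_mul C _ _)
  · intro h; exact ⟨y, h, Or.inl rfl⟩

theorem t_mem_TX {A : Subgroup C.L} : C.t ∈ TX C A := ⟨1, one_mem _, Or.inr (mul_one _).symm⟩

theorem TX_comm_t {A : Subgroup C.L} {x : G} (h : x ∈ TX C A) : x * C.t = C.t * x := by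
  obtain ⟨y, -, rfl | rfl⟩ := h
  · exact t_comm C y
  · rw [mul_assoc, t_comm]

theorem TX_isPGroup {A : Subgroup C.L} (h : IsPGroup 2 A) : IsPGroup 2 (TX C A) := by
  rintro ⟨x, y, hy, hx⟩
  obtain ⟨k, hk⟩ := h ⟨y, hy⟩
  have hk' : (y : G) ^ 2 ^ k = 1 := by
    have := congrArg Subtype.val hk
    have h3 : y ^ 2 ^ k = 1 := this
    exact congrArg Subtype.val h3
  have hc : Commute C.t (y : G) := (t_comm C y).symm
  refine ⟨k + 1, ?_⟩
  apply Subtype.ext
  change x ^ 2 ^ (k + 1) = 1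
  have h2 : (y : G) ^ 2 ^ (k + 1) = 1 := by
    rw [pow_succ 2, pow_mul, hk', one_pow]
  rcases hx with rfl | rfl
  · exact h2
  · rw [hc.mul_pow, h2, mul_one, pow_succ 2, mul_comm, pow_mul, pow_two, C.tt, one_pow]

theorem TX_top : TX C ⊤ = Subgroup.centralizer {C.t} := by
  ext x
  rw [Subgroup.mem_centralizer_singleton_iff]
  constructor
  · intro h; exact TX_comm_t C h
  · intro h
    obtain ⟨y, hy⟩ := exists_lift C h
    exact ⟨y, Subgroup.mem_top _, hy⟩

theorem TX_mono {A B : Subgroup C.L} (h : A ≤ B) : TX C A ≤ TX C B :=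
  fun _ ⟨y, hy, hx⟩ => ⟨y, h hy, hx⟩

theorem TX_sylow (S : Sylow 2 C.L) :
    ∃ P : Sylow 2 (Subgroup.centralizer {C.t} : Subgroup G),
      (P : Subgroup (Subgroup.centralizer {C.t} : Subgroup G)).map (Subgroup.centralizer {C.t}).subtype =
        TX C (S : Subgroup C.L) := by
  rw [Blocks.SylowIn.exists_sylow_map_eq_iff]
  refine ⟨?_, TX_isPGroup C S.isPGroup', ?_⟩
  · rw [← TX_top]; exact TX_mono C le_top
  · intro Q hQ hQp hle
    let A : Subgroup C.L := Q.comap C.L.subtype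
    have hA : IsPGroup 2 A := hQp.comap_subtype
    have hSA : (S : Subgroup C.L) ≤ A := by
      intro s hs
      exact hle ((coe_mem_TX C).2 hs)
    have h1 := S.is_maximal' hA hSA
    apply le_antisymm _ hle
    intro x hx
    have h2 := hQ hx
    rw [Subgroup.mem_centralizer_singleton_iff] at h2
    obtain ⟨y, hy⟩ := exists_lift C h2
    have hyQ : (y : G) ∈ Q := by
      rcases hy with rfl | rfl
      · exact hx
      · have h3 : C.t ∈ Q := hle (t_mem_TX C)
        have := mul_mem h3 hx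
        rwa [← mul_assoc, C.tt, one_mul] at this
    have h4 : y ∈ A := hyQ
    rw [h1] at h4
    exact ⟨y, h4, hy⟩

/-- the normaliser step -/
theorem exists_norm [Finite G] (S : Sylow 2 C.L) {z : C.L} (hz : ∀ s ∈ (S : Subgroup C.L), z * s = s * z)
    {g : G} (hg : g * C.t * g⁻¹ = C.t * z) :
    ∃ n : G, (TX C (S : Subgroup C.L)).map (MulAut.conj n).toMonoidHom = TX C (S : Subgroup C.L) ∧
      n * C.t * n⁻¹ = C.t * z := by
  have h1 := TX_sylow C S
  have hcard := Blocks.SylowIn.card_of_sylow_map_eq h1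
  have hcc : Nat.card (Subgroup.centralizer {C.t * (z : G)} : Subgroup G) =
      Nat.card (Subgroup.centralizer {C.t} : Subgroup G) := by
    rw [← hg]; exact Blocks.SylowIn.card_centralizer_singleton_conj _ _
  have hTz : TX C (S : Subgroup C.L) ≤ Subgroup.centralizer {C.t * (z : G)} := by
    intro x hx
    rw [Subgroup.mem_centralizer_singleton_iff]
    have hxt := TX_comm_t C hx
    obtain ⟨y, hy, hxy⟩ := hx
    have hzy : (z : G) * y = y * z := congrArg Subtype.val (hz y hy)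
    rcases hxy with rfl | rfl
    · rw [← mul_assoc, hxt, mul_assoc, ← hzy, ← mul_assoc]
    · calc C.t * (y : G) * (C.t * z) = C.t * ((y : G) * C.t) * z := by group
        _ = C.t * C.t * ((y : G) * z) := by rw [t_comm]; group
        _ = C.t * C.t * ((z : G) * y) := by rw [hzy]
        _ = C.t * (C.t * z) * y := by group
        _ = C.t * (z * C.t) * y := by rw [t_comm]
        _ = _ := by group
  have h2 : ∃ P : Sylow 2 (Subgroup.centralizer {C.t * (z : G)} : Subgroup G),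
      (P : Subgroup (Subgroup.centralizer {C.t * (z : G)} : Subgroup G)).map
        (Subgroup.centralizer {C.t * (z : G)}).subtype = TX C (S : Subgroup C.L) := by
    apply Blocks.SylowIn.exists_sylow_map_eq_of_card hTz
    rw [hcard, hcc]
  have h3 : ∃ P : Sylow 2 (Subgroup.centralizer {C.t * (z : G)} : Subgroup G),
      (P : Subgroup (Subgroup.centralizer {C.t * (z : G)} : Subgroup G)).map
        (Subgroup.centralizer {C.t * (z : G)}).subtype =
          (TX C (S : Subgroup C.L)).map (MulAut.conj g).toMonoidHom := by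
    apply Blocks.SylowIn.exists_sylow_map_eq_of_card
    · rw [← hg, ← Blocks.SylowIn.centralizer_singleton_conj, ← TX_top]
      exact Subgroup.map_mono (TX_mono C le_top)
    · rw [hcc, ← hcard]
      exact (Nat.card_congr ((TX C (S : Subgroup C.L)).equivMapOfInjective _
        (MulAut.conj g).injective).toEquiv).symm
  obtain ⟨k, hk, hk'⟩ := Blocks.SylowIn.exists_conj_of_sylow_map_eq h3 h2
  refine ⟨k * g, ?_, ?_⟩
  · rw [Subgroup.map_map] at hk'
    rw [← hk']
    congr 1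
    rw [map_mul]; rfl
  · rw [Subgroup.mem_centralizer_singleton_iff] at hk
    calc k * g * C.t * (k * g)⁻¹ = k * (g * C.t * g⁻¹) * k⁻¹ := by group
      _ = k * (C.t * z) * k⁻¹ := by rw [hg]
      _ = _ := by rw [hk]; group

/-- `[⟨t⟩S, ⟨t⟩S] = [S, S]` -/
theorem commutator_TX_le (S : Subgroup C.L) : ⁅TX C S, TX C S⁆ ≤ S.map C.L.subtype := by
  rw [Subgroup.commutator_le]
  rintro a ⟨x, hx, hax⟩ b ⟨y, hy, hby⟩
  have h1 : ⁅a, b⁆ = ((⁅x, y⁆ : C.L) : G) := by
    rw [commutatorElement_def, commutatorElement_def]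
    change _ = (x : G) * y * (x : G)⁻¹ * (y : G)⁻¹
    have e1 : a * b * a⁻¹ * b⁻¹ = (a * b * a⁻¹) * b⁻¹ := rfl
    rcases hax with rfl | rfl <;> rcases hby with rfl | rfl
    · rfl
    · have h2 : (x : G) * (C.t * y) * (x : G)⁻¹ = C.t * (x * y * (x : G)⁻¹) := by
        rw [← mul_assoc, t_comm]; group
      rw [h2, mul_inv_rev, C.t_inv]
      have h3 := t_comm C y⁻¹
      have h3' : (y : G)⁻¹ * C.t = C.t * (y : G)⁻¹ := h3
      have h4 := t_comm C (x * y * x⁻¹)
      have h4' : (x : G) * y * (x : G)⁻¹ * C.t = C.t * (x * y * (x : G)⁻¹) := h4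
      rw [h3', ← h4', tt_mid]
    · have h2 : C.t * (x : G) * y * (C.t * (x : G))⁻¹ = (x * y * (x : G)⁻¹) := by
        have h4 := t_comm C (x * y * x⁻¹)
        have h4' : (x : G) * y * (x : G)⁻¹ * C.t = C.t * (x * y * (x : G)⁻¹) := h4
        rw [mul_inv_rev, C.t_inv]
        calc C.t * (x : G) * y * ((x : G)⁻¹ * C.t) = C.t * (x * y * (x : G)⁻¹ * C.t) := by group
          _ = _ := by rw [h4', ← mul_assoc, C.tt, one_mul]
      rw [h2]
    · have h2 : C.t * (x : G) * (C.t * y) * (C.t * (x : G))⁻¹ = C.t * (x * y * (x : G)⁻¹) := by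
        have h4 := t_comm C (x * y * x⁻¹)
        have h4' : (x : G) * y * (x : G)⁻¹ * C.t = C.t * (x * y * (x : G)⁻¹) := h4
        rw [mul_inv_rev, C.t_inv]
        calc C.t * (x : G) * (C.t * y) * ((x : G)⁻¹ * C.t) = C.t * ((x : G) * C.t) * y * (x : G)⁻¹ * C.t := by
              group
          _ = C.t * C.t * (x * y * (x : G)⁻¹ * C.t) := by rw [t_comm]; group
          _ = _ := by rw [h4', C.tt, one_mul]
      rw [h2, mul_inv_rev, C.t_inv]
      have h3 := t_comm C y⁻¹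
      have h3' : (y : G)⁻¹ * C.t = C.t * (y : G)⁻¹ := h3
      have h4 := t_comm C (x * y * x⁻¹)
      have h4' : (x : G) * y * (x : G)⁻¹ * C.t = C.t * (x * y * (x : G)⁻¹) := h4
      rw [h3', ← h4', tt_mid]
  rw [h1]
  exact ⟨_, S.mul_mem (S.mul_mem (S.mul_mem hx hy) (S.inv_mem hx)) (S.inv_mem hy), rfl⟩

theorem card_TX [Finite G] (A : Subgroup C.L) : Nat.card (TX C A) = 2 * Nat.card A := by
  let F : A ⊕ A → TX C A := fun x => match x with
    | Sum.inl a => ⟨((a : C.L) : G), (coe_mem_TX C).2 a.2⟩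
    | Sum.inr a => ⟨C.t * ((a : C.L) : G), ⟨a, a.2, Or.inr rfl⟩⟩
  have hF : Function.Bijective F := by
    constructor
    · rintro (⟨a, ha⟩ | ⟨a, ha⟩) (⟨b, hb⟩ | ⟨b, hb⟩) h
      · have h1 : (a : G) = b := congrArg (fun z : TX C A => (z : G)) h
        have h2 : a = b := Subtype.ext h1
        subst h2; rfl
      · have h1 : (a : G) = C.t * b := congrArg (fun z : TX C A => (z : G)) h
        exact absurd h1 (ne_t_mul C _ _)
      · have h1 : C.t * (a : G) = b := congrArg (fun z : TX C A => (z : G)) h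
        exact absurd h1.symm (ne_t_mul C _ _)
      · have h1 : C.t * (a : G) = C.t * b := congrArg (fun z : TX C A => (z : G)) h
        have h2 : a = b := Subtype.ext (mul_left_cancel h1)
        subst h2; rfl
    · rintro ⟨x, y, hy, hx | hx⟩
      · exact ⟨Sum.inl ⟨y, hy⟩, Subtype.ext hx.symm⟩
      · exact ⟨Sum.inr ⟨y, hy⟩, Subtype.ext hx.symm⟩
  have := Nat.card_congr (Equiv.ofBijective F hF)
  rw [← this, Nat.card_sum, two_mul]

end Cfsg.Agent.OddHalf.SpTwo

end

-- merged: Cfsg.Agent.OddHalf.SpTwo.Fix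
section

/-!
# The start, second part

`start_long`, `start_short`: an element `n` with `n t n⁻¹ = t z` and `n z n⁻¹ = z`.
-/

set_option autoImplicit false
set_option linter.unusedSimpArgs false

open scoped commutatorElement

namespace Cfsg.Agent.OddHalf.SpTwo

open Cfsg.Agent.StandardComponent.SpTwo
open Cfsg.Agent.OddHalf.SpTwoN

variable {G V : Type*} [Group G] [AddCommGroup V] [Module (ZMod 2) V] (C : Ctx G V)

theorem mem_TX_cent {z : C.L} {x : G} :
    x ∈ TX C (Subgroup.centralizer {z}) ↔ x * C.t = C.t * x ∧ x * z = z * x := by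
  constructor
  · intro h
    refine ⟨TX_comm_t C h, ?_⟩
    obtain ⟨y, hy, hxy⟩ := h
    rw [Subgroup.mem_centralizer_singleton_iff] at hy
    have hy' : (y : G) * z = z * y := congrArg Subtype.val hy
    rcases hxy with rfl | rfl
    · exact hy'
    · rw [mul_assoc, hy', ← mul_assoc, ← t_comm, mul_assoc]
  · rintro ⟨h1, h2⟩
    obtain ⟨y, hy⟩ := exists_lift C h1
    refine ⟨y, ?_, hy⟩
    rw [Subgroup.mem_centralizer_singleton_iff]
    apply Subtype.ext
    change (y : G) * z = z * y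
    rcases hy with rfl | rfl
    · exact h2
    · have h3 : C.t * ((y : G) * z) = C.t * (z * y) := by
        rw [← mul_assoc, h2, ← mul_assoc, t_comm, mul_assoc]
      exact mul_left_cancel h3

theorem card_cent_eq [Finite G] {z z' : C.L} {n : G} (hzz : z' * z' = 1) (hz : n * z * n⁻¹ = (z' : G))
    (ht : n * C.t * n⁻¹ = C.t * z') :
    Nat.card (Subgroup.centralizer {z}) = Nat.card (Subgroup.centralizer {z'}) := by
  have hzz' : (z' : G) * z' = 1 := congrArg Subtype.val hzz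
  have h1 : (TX C (Subgroup.centralizer {z})).map (MulAut.conj n).toMonoidHom =
      TX C (Subgroup.centralizer {z'}) := by
    ext x
    rw [mem_TX_cent]
    constructor
    · rintro ⟨y, hy, rfl⟩
      obtain ⟨h1, h2⟩ := (mem_TX_cent C).1 hy
      change n * y * n⁻¹ * C.t = C.t * (n * y * n⁻¹) ∧ n * y * n⁻¹ * z' = z' * (n * y * n⁻¹)
      have h3 : n * y * n⁻¹ * z' = z' * (n * y * n⁻¹) := by
        rw [← hz]
        calc n * y * n⁻¹ * (n * z * n⁻¹) = n * (y * z) * n⁻¹ := by group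
          _ = n * (z * y) * n⁻¹ := by rw [h2]
          _ = _ := by group
      have h4 : n * y * n⁻¹ * (C.t * z') = (C.t * z') * (n * y * n⁻¹) := by
        rw [← ht]
        calc n * y * n⁻¹ * (n * C.t * n⁻¹) = n * (y * C.t) * n⁻¹ := by group
          _ = n * (C.t * y) * n⁻¹ := by rw [h1]
          _ = _ := by group
      refine ⟨?_, h3⟩
      have h5 : n * y * n⁻¹ * C.t * z' = C.t * (n * y * n⁻¹) * z' := by
        calc n * y * n⁻¹ * C.t * z' = n * y * n⁻¹ * (C.t * z') := by group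
          _ = C.t * (z' * (n * y * n⁻¹)) := by rw [h4]; group
          _ = C.t * (n * y * n⁻¹) * z' := by rw [← h3]; group
      exact mul_right_cancel h5
    · rintro ⟨h1, h2⟩
      refine ⟨n⁻¹ * x * n, ?_, ?_⟩
      · apply (mem_TX_cent C).2
        have hz2 : (z : G) = n⁻¹ * z' * n := by rw [← hz]; group
        have ht2 : C.t = n⁻¹ * (C.t * z') * n := by rw [← ht]; group
        constructor
        · calc n⁻¹ * x * n * C.t = n⁻¹ * x * n * (n⁻¹ * (C.t * z') * n) := by rw [← ht2]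
            _ = n⁻¹ * (x * C.t * z') * n := by group
            _ = n⁻¹ * (C.t * (x * z')) * n := by rw [h1]; group
            _ = n⁻¹ * (C.t * z') * n * (n⁻¹ * x * n) := by rw [h2]; group
            _ = _ := by rw [← ht2]
        · calc n⁻¹ * x * n * z = n⁻¹ * x * n * (n⁻¹ * z' * n) := by rw [← hz2]
            _ = n⁻¹ * (x * z') * n := by group
            _ = n⁻¹ * z' * n * (n⁻¹ * x * n) := by rw [h2]; group
            _ = _ := by rw [← hz2]
      · change n * (n⁻¹ * x * n) * n⁻¹ = x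
        group
  have h2 : Nat.card (TX C (Subgroup.centralizer {z})) = Nat.card (TX C (Subgroup.centralizer {z'})) := by
    rw [← h1]
    exact Nat.card_congr ((TX C (Subgroup.centralizer {z})).equivMapOfInjective _
      (MulAut.conj n).injective).toEquiv
  rw [card_TX, card_TX] at h2
  omega

theorem exists_fix_flag [Finite G] (S : Sylow 2 C.L) {v w : V} (hv : v ≠ 0) (hvw : C.S.B v w = 0) (hw : w ∉ ln v)
    (hS1 : (S : Subgroup C.L) ≤ PU C.S (ln v)) (hS2 : (S : Subgroup C.L) ≤ PU C.S (pl v w)) (f e : ZMod 2)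
    (hfe : f ≠ 0 ∨ e ≠ 0) {g : G} (hg : g * C.t * g⁻¹ = C.t * (q C.S v (f • w) e : C.L)) :
    ∃ n : G, n * C.t * n⁻¹ = C.t * (q C.S v (f • w) e : C.L) ∧
      n * (q C.S v (f • w) e : C.L) * n⁻¹ = (q C.S v (f • w) e : C.L) := by
  have hfinV := C.finV
  have h256 := C.cardV
  have hwv : C.S.B w v = 0 := by rw [C.S.symm]; exact hvw
  have hQ1 := QU_le_of_sylow C.S S (ln_ti C.S v) hS1
  have hQ2 := QU_le_of_sylow C.S S (pl_ti C.S hvw) hS2
  set z : C.L := q C.S v (f • w) e with hzdef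
  have hfw : ∀ f' : ZMod 2, C.S.B (f' • w) v = 0 := by
    intro f'
    rw [map_smul, LinearMap.smul_apply, hwv, smul_zero]
  have hcen : ∀ f' e' : ZMod 2, ∀ s ∈ (S : Subgroup C.L), q C.S v (f' • w) e' * s = s * q C.S v (f' • w) e' := by
    intro f' e' s hs
    have hb := ((commute_b_iff C.S hv).2 (hS1 hs)).symm
    have hs' := ((commute_s_iff C.S hv hw hvw).2 (hS2 hs)).symm
    have h0 : ∀ e' : ZMod 2, q C.S v 0 e' * s = s * q C.S v 0 e' := by
      intro e'
      rcases z2 e' with rfl | rfl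
      · rw [q_zero, one_mul, mul_one]
      · exact hb
    rcases z2 f' with rfl | rfl
    · rw [zero_smul]; exact h0 e'
    · rw [one_smul]
      have h1 : q C.S v w e' = q C.S v w 0 * q C.S v 0 e' := by
        rw [q_mul C.S hwv (B_zero C.S v)]; simp
      rw [h1, mul_assoc, h0, ← mul_assoc, hs', mul_assoc]
  obtain ⟨m, hm, hmt⟩ := exists_norm C S (hcen f e) hg
  -- work with the inverse
  set n := m⁻¹ with hn
  have hnT : (TX C (S : Subgroup C.L)).map (MulAut.conj n).toMonoidHom = TX C (S : Subgroup C.L) := by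
    conv_lhs => rw [← hm]
    rw [Subgroup.map_map]
    have : (MulAut.conj n).toMonoidHom.comp (MulAut.conj m).toMonoidHom = MonoidHom.id G := by
      ext x
      change n * (m * x * m⁻¹) * n⁻¹ = x
      rw [hn]; group
    rw [this, Subgroup.map_id]
  have hzS : z ∈ ⁅(S : Subgroup C.L), (S : Subgroup C.L)⁆ :=
    mem_commutator C.S h256 hv hvw hw hQ1 hQ2 f e
  have hzT : (z : G) ∈ ⁅TX C (S : Subgroup C.L), TX C (S : Subgroup C.L)⁆ := by
    have h1 : (S : Subgroup C.L).map C.L.subtype ≤ TX C (S : Subgroup C.L) := by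
      rintro x ⟨y, hy, rfl⟩
      exact (coe_mem_TX C).2 hy
    have h2 : (z : G) ∈ (⁅(S : Subgroup C.L), (S : Subgroup C.L)⁆).map C.L.subtype := ⟨z, hzS, rfl⟩
    rw [Subgroup.map_commutator] at h2
    exact Subgroup.commutator_mono h1 h1 h2
  have hzn : n * z * n⁻¹ ∈ ⁅TX C (S : Subgroup C.L), TX C (S : Subgroup C.L)⁆ := by
    have h2 : n * z * n⁻¹ ∈ (⁅TX C (S : Subgroup C.L), TX C (S : Subgroup C.L)⁆).map
        (MulAut.conj n).toMonoidHom := ⟨z, hzT, rfl⟩
    rwa [Subgroup.map_commutator, hnT] at h2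
  obtain ⟨z', hz'S, hz'⟩ := commutator_TX_le C _ hzn
  replace hz' : (z' : G) = n * z * n⁻¹ := hz'
  have hz'c : ∀ s ∈ (S : Subgroup C.L), z' * s = s * z' := by
    intro s hs
    have h1 : (s : G) ∈ (TX C (S : Subgroup C.L)).map (MulAut.conj n).toMonoidHom := by
      rw [hnT]; exact (coe_mem_TX C).2 hs
    obtain ⟨x, ⟨y, hy, hxy⟩, hx⟩ := h1
    replace hx : n * x * n⁻¹ = s := hx
    have h2 : (z : G) * x = x * z := by
      have h3 : (z : G) * y = y * z := congrArg Subtype.val (hcen f e y hy)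
      rcases hxy with rfl | rfl
      · exact h3
      · rw [← mul_assoc, t_comm, mul_assoc, h3, mul_assoc]
    apply Subtype.ext
    change (z' : G) * s = s * z'
    rw [hz', ← hx]
    calc n * z * n⁻¹ * (n * x * n⁻¹) = n * (z * x) * n⁻¹ := by group
      _ = n * (x * z) * n⁻¹ := by rw [h2]
      _ = _ := by group
  obtain ⟨f', e', hfe'⟩ := of_commute_S C.S h256 hv hvw hw hQ1 hQ2 hz'c
  have hzz' : z' * z' = 1 := by rw [hfe']; exact q_sq C.S (hfw f') e'
  have hzz : z * z = 1 := by rw [hzdef]; exact q_sq C.S (hfw f) e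
  have hzzG : (z : G) * z = 1 := congrArg Subtype.val hzz
  have hzzG' : (z' : G) * z' = 1 := congrArg Subtype.val hzz'
  have hnt : n * C.t * n⁻¹ = C.t * z' := by
    have h1 : C.t = n * (C.t * z) * n⁻¹ := by rw [← hmt, hn]; group
    have h2 : C.t = n * C.t * n⁻¹ * z' := by
      rw [hz']
      calc C.t = n * (C.t * z) * n⁻¹ := h1
        _ = _ := by group
    calc n * C.t * n⁻¹ = n * C.t * n⁻¹ * (z' * z') := by rw [hzzG', mul_one]
      _ = n * C.t * n⁻¹ * z' * z' := by group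
      _ = _ := by rw [← h2]
  have hcard := card_cent_eq C hzz' hz'.symm hnt
  -- the orders
  have c1 := card_lt_PU_ln C.S h256 hv hw hvw
  have c2 := card_PU_pl_le C.S hv hw hvw
  have c3 := card_lt_PU_pl C.S hv hw hvw
  have hcb : Subgroup.centralizer {q C.S v 0 1} = PU C.S (ln v) := by
    ext x
    rw [Subgroup.mem_centralizer_singleton_iff]; exact commute_b_iff C.S hv
  have hcs : Subgroup.centralizer {q C.S v w 0} = PU C.S (pl v w) := by
    ext x
    rw [Subgroup.mem_centralizer_singleton_iff]; exact commute_s_iff C.S hv hw hvw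
  have hcc : Subgroup.centralizer {q C.S v w 1} = PU C.S (ln v) ⊓ PU C.S (pl v w) := by
    ext x
    rw [Subgroup.mem_centralizer_singleton_iff]; exact commute_c_iff C.S hv hw hvw
  have hz0 : z' ≠ 1 := by
    intro h
    have h1 : (z : G) = 1 := by
      have : (z : G) = n⁻¹ * z' * n := by rw [hz']; group
      rw [this, h]
      change n⁻¹ * (1 : G) * n = 1
      group
    have h2 : z = 1 := Subtype.ext h1
    have h3 : q C.S v (f • w) e = q C.S v 0 0 := by rw [q_zero]; exact h2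
    have h4 := q_inj C.S hv (hfw f) (B_zero C.S v) h3
    rcases hfe with h5 | h5
    · rw [z2_ne.1 h5, one_smul, add_zero] at h4
      exact hw h4.1
    · exact h5 h4.2
  have hpos : 0 < Nat.card (PU C.S (ln v) ⊓ PU C.S (pl v w) : Subgroup C.L) := Nat.card_pos
  have hne0 : ¬ ((0 : ZMod 2) ≠ 0 ∨ (0 : ZMod 2) ≠ 0) := by simp
  have hzz1 : z' = z := by
    rcases z2 f with hf | hf <;> rcases z2 e with he | he <;> rcases z2 f' with hf' | hf' <;>
      rcases z2 e' with he' | he' <;> rw [hf, he] at hzdef <;> rw [hf', he'] at hfe' <;>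
      simp only [zero_smul, one_smul] at hzdef hfe' <;>
      first
      | exact hfe'.trans hzdef.symm
      | (exfalso; rw [q_zero] at hfe'; exact hz0 hfe')
      | (exfalso; rw [hf, he] at hfe; exact hne0 hfe)
      | (exfalso; rw [hzdef, hfe'] at hcard; simp only [hcb, hcs, hcc] at hcard; omega)
  rw [hzz1] at hz' hnt
  refine ⟨m, hmt, ?_⟩
  have : (z : G) = m⁻¹ * z * m⁻¹⁻¹ := hz'
  calc m * (z : G) * m⁻¹ = m * (m⁻¹ * z * m⁻¹⁻¹) * m⁻¹ := by rw [← this]
    _ = z := by group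

theorem exists_fix [Finite G] {v w : V} (hv : v ≠ 0) (hvw : C.S.B v w = 0) (hw : w ∉ ln v) (f e : ZMod 2)
    (hfe : f ≠ 0 ∨ e ≠ 0) {v' w' : V} (hv' : v' ≠ 0) (hvw' : C.S.B v' w' = 0) (hw' : w' ∉ ln v')
    {g : G} (hg : g * C.t * g⁻¹ = C.t * (q C.S v' (f • w') e : C.L)) :
    ∃ n : G, n * C.t * n⁻¹ = C.t * (q C.S v (f • w) e : C.L) ∧
      n * (q C.S v (f • w) e : C.L) * n⁻¹ = (q C.S v (f • w) e : C.L) := by
  have hfinV := C.finV
  have h256 := C.cardV
  obtain ⟨S⟩ : Nonempty (Sylow 2 C.L) := inferInstance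
  obtain ⟨v0, w0, h1, h2, h3, h4, h5⟩ := exists_flag C.S h256 S
  obtain ⟨k, hkv, hkw⟩ := trans_pl C.S hv' hw' hvw' h1 h3 h2
  obtain ⟨l, hlv, hlw⟩ := trans_pl C.S h1 h3 h2 hv hw hvw
  have e1 : k * q C.S v' (f • w') e * k⁻¹ = q C.S v0 (f • w0) e := by
    rw [q_conj, hkv, map_smul, hkw]
  have e2 : l * q C.S v0 (f • w0) e * l⁻¹ = q C.S v (f • w) e := by
    rw [q_conj, hlv, map_smul, hlw]
  have e1' : (k : G) * (q C.S v' (f • w') e : C.L) * (k : G)⁻¹ = (q C.S v0 (f • w0) e : C.L) :=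
    congrArg Subtype.val e1
  have e2' : (l : G) * (q C.S v0 (f • w0) e : C.L) * (l : G)⁻¹ = (q C.S v (f • w) e : C.L) :=
    congrArg Subtype.val e2
  have hkt := t_comm C k
  have hlt := t_comm C l
  have hg0 : (k * g) * C.t * (k * g)⁻¹ = C.t * (q C.S v0 (f • w0) e : C.L) := by
    rw [← e1']
    calc (k * g) * C.t * (k * g)⁻¹ = k * (g * C.t * g⁻¹) * (k : G)⁻¹ := by group
      _ = (k : G) * C.t * ((q C.S v' (f • w') e : C.L) : G) * (k : G)⁻¹ := by rw [hg]; group
      _ = _ := by rw [hkt]; group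
  obtain ⟨n, hn, hn'⟩ := exists_fix_flag C S h1 h2 h3 h4 h5 f e hfe hg0
  have hlt' : (l : G)⁻¹ * C.t * l = C.t := by rw [mul_assoc, ← hlt]; group
  refine ⟨l * n * (l : G)⁻¹, ?_, ?_⟩
  · calc l * n * (l : G)⁻¹ * C.t * (l * n * (l : G)⁻¹)⁻¹ = l * n * ((l : G)⁻¹ * C.t * l) * n⁻¹ * (l : G)⁻¹ := by
          group
      _ = l * (n * C.t * n⁻¹) * (l : G)⁻¹ := by rw [hlt']; group
      _ = (l : G) * C.t * ((q C.S v0 (f • w0) e : C.L) : G) * (l : G)⁻¹ := by rw [hn]; group
      _ = C.t * ((l : G) * ((q C.S v0 (f • w0) e : C.L) : G) * (l : G)⁻¹) := by rw [hlt]; group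
      _ = _ := by rw [e2']
  · rw [← e2']
    calc l * n * (l : G)⁻¹ * ((l : G) * ((q C.S v0 (f • w0) e : C.L) : G) * (l : G)⁻¹) * (l * n * (l : G)⁻¹)⁻¹
        = l * (n * ((q C.S v0 (f • w0) e : C.L) : G) * n⁻¹) * (l : G)⁻¹ := by group
      _ = _ := by rw [hn']

theorem start_long [Finite G] (h : ∃ g v, v ≠ 0 ∧ g * C.t * g⁻¹ = C.t * C.b v) {v : V} (hv : v ≠ 0) :
    ∃ n : G, n * C.t * n⁻¹ = C.t * C.b v ∧ n * C.b v * n⁻¹ = C.b v := by
  have hfinV := C.finV
  have h256 := C.cardV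
  obtain ⟨g, v', hv', hg⟩ := h
  have key : ∀ a : V, a ≠ 0 → ∃ b, C.S.B a b = 0 ∧ b ∉ ln a := by
    intro a _
    obtain ⟨b, hb, hb'⟩ := room C.S h256 (A := ln a) (A' := ln a) (by
      have := finrank_ln_le a; omega)
    exact ⟨b, by rw [C.S.symm]; exact (mem_perp_ln C.S).1 hb, hb'⟩
  obtain ⟨w, hw1, hw2⟩ := key v hv
  obtain ⟨w', hw1', hw2'⟩ := key v' hv'
  have e : ∀ a b : V, (q C.S a ((0 : ZMod 2) • b) 1 : C.L) = C.S.τ a := by
    intro a b
    rw [zero_smul, q_zero_one]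
  have hg' : g * C.t * g⁻¹ = C.t * (q C.S v' ((0 : ZMod 2) • w') 1 : C.L) := by
    rw [e]; exact hg
  have := exists_fix C hv hw1 hw2 0 1 (Or.inr one_ne_zero) hv' hw1' hw2' hg'
  rwa [e] at this

theorem start_short [Finite G] {v' w' : V} (hv' : v' ≠ 0) (hvw' : C.S.B v' w' = 0) (hw' : w' ∉ ln v')
    (h : ∃ g, g * C.t * g⁻¹ = C.t * (q C.S v' w' 0 : C.L))
    {v w : V} (hv : v ≠ 0) (hvw : C.S.B v w = 0) (hw : w ∉ ln v) :
    ∃ n : G, n * C.t * n⁻¹ = C.t * (q C.S v w 0 : C.L) ∧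
      n * (q C.S v w 0 : C.L) * n⁻¹ = (q C.S v w 0 : C.L) := by
  obtain ⟨g, hg⟩ := h
  have e : ∀ a b : V, (q C.S a ((1 : ZMod 2) • b) 0 : C.L) = q C.S a b 0 := by
    intro a b
    rw [one_smul]
  rw [← e] at hg
  have := exists_fix C hv hvw hw 1 0 (Or.inl one_ne_zero) hv' hvw' hw' hg
  rwa [e] at this

end Cfsg.Agent.OddHalf.SpTwo

end

-- merged: Cfsg.Agent.OddHalf.SpTwo.Core
section

/-!
# The action of `g` (with `t ↦ t z`, `z ↦ z`) on the stabilizer of a totally isotropic subspace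

`Nrm C U z g`: `z` is an involution with `C_L(z) = Stab(U)`, and `g t g⁻¹ = t z`, `g z g⁻¹ = z`.
Then `g` normalises `⟨t⟩ × Stab(U)` and `⟨t⟩ × Q_U`.
-/

set_option autoImplicit false
set_option linter.unusedSimpArgs false

open scoped commutatorElement

namespace Cfsg.Agent.OddHalf.SpTwo

open Cfsg.Agent.StandardComponent.SpTwo
open Cfsg.Agent.OddHalf.SpTwoN

theorem eq_one_of_three {G : Type*} [Group G] {N : Subgroup G} (hN : IsPGroup 2 N) {c : G} (hc : c ∈ N)
    (h3 : c * c * c = 1) : c = 1 := by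
  obtain ⟨k, hk⟩ := hN ⟨c, hc⟩
  have hk' : c ^ 2 ^ k = 1 := congrArg Subtype.val hk
  have h3' : c ^ 3 = 1 := by rw [pow_succ, pow_two]; exact h3
  have h1 : orderOf c ∣ 2 ^ k := orderOf_dvd_of_pow_eq_one hk'
  have h2 : orderOf c ∣ 3 := orderOf_dvd_of_pow_eq_one h3'
  have h4 : orderOf c ∣ 1 := by
    have : Nat.Coprime (2 ^ k) 3 := Nat.Coprime.pow_left k (by norm_num)
    rw [← this.gcd_eq_one]; exact Nat.dvd_gcd h1 h2
  rw [Nat.dvd_one, orderOf_eq_one_iff] at h4
  exact h4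

section Sp

variable {X V : Type*} [Group X] [AddCommGroup V] [Module (ZMod 2) V] (D : SpData X V)

theorem τ_conj (a b : V) : D.τ a * D.τ b * D.τ a = D.τ (b + D.B b a • a) := by
  have := D.conj_τ (D.τ a) b
  rwa [D.τ_inv, D.hτ] at this

theorem ττ_three {a b : V} (h : D.B a b = 1) : (D.τ a * D.τ b) * (D.τ a * D.τ b) * (D.τ a * D.τ b) = 1 := by
  have h1 : D.τ a * D.τ b * D.τ a = D.τ (b + a) := by rw [τ_conj, D.symm, h, one_smul]
  have h2 : D.τ b * D.τ a * D.τ b = D.τ (b + a) := by rw [τ_conj, h, one_smul, add_comm]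
  calc (D.τ a * D.τ b) * (D.τ a * D.τ b) * (D.τ a * D.τ b) =
      (D.τ a * D.τ b * D.τ a) * (D.τ b * D.τ a * D.τ b) := by simp only [mul_assoc]
    _ = 1 := by rw [h1, h2, D.τ_sq]

theorem ττ_ne_one {a b : V} (h : D.B a b = 1) : D.τ a * D.τ b ≠ 1 := by
  intro h1
  have h2 : D.τ a = D.τ b := by rw [← D.τ_inv b]; exact eq_inv_of_mul_eq_one_left h1
  have h3 := D.τ_injective h2
  rw [h3, D.alt] at h
  exact zero_ne_one h

/-- the seven-term relation -/
theorem seven {a b c : V} (hab : D.B a b = 0) (hac : D.B a c = 0) (hbc : D.B b c = 0) :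
    D.τ a * D.τ b * D.τ c * D.τ (a + b) * D.τ (a + c) * D.τ (b + c) * D.τ (a + b + c) = 1 := by
  have hba : D.B b a = 0 := by rw [D.symm]; exact hab
  have hca : D.B c a = 0 := by rw [D.symm]; exact hac
  have hcb : D.B c b = 0 := by rw [D.symm]; exact hbc
  apply D.ext_iff
  intro x
  apply ext_B D
  intro z
  simp only [D.ρ_mul, D.ρ_one, D.hτ, map_add, LinearMap.add_apply, map_smul, LinearMap.smul_apply, smul_eq_mul,
    D.alt, hab, hac, hbc, hba, hca, hcb, mul_zero, add_zero, zero_add]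
  generalize D.B x a = x1
  generalize D.B x b = x2
  generalize D.B x c = x3
  generalize D.B a z = z1
  generalize D.B b z = z2
  generalize D.B c z = z3
  generalize D.B x z = k
  revert x1 x2 x3 z1 z2 z3 k
  decide

end Sp

variable {G V : Type*} [Group G] [AddCommGroup V] [Module (ZMod 2) V] (C : Ctx G V)

/-- conjugation by an element of `⟨t⟩ × L` -/
theorem conj_lift {x : G} {x0 : C.L} (h : x = x0 ∨ x = C.t * x0) (y : C.L) :
    x * y * x⁻¹ = ((x0 * y * x0⁻¹ : C.L) : G) := by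
  have e : ((x0 * y * x0⁻¹ : C.L) : G) = (x0 : G) * y * (x0 : G)⁻¹ := rfl
  rw [e]
  rcases h with rfl | rfl
  · rfl
  · have h4 : (x0 : G) * y * (x0 : G)⁻¹ * C.t = C.t * (x0 * y * (x0 : G)⁻¹) := t_comm C (x0 * y * x0⁻¹)
    calc C.t * (x0 : G) * y * (C.t * (x0 : G))⁻¹ = C.t * (x0 * y * (x0 : G)⁻¹) * C.t⁻¹ := by group
      _ = _ := by rw [← h4]; group

theorem O2_step {U : Submodule (ZMod 2) V} {N : Subgroup G} (hN : IsPGroup 2 N)
    (hn : ∀ m ∈ PU C.S U, ∀ x ∈ N, (m : G) * x * (m : G)⁻¹ ∈ N) {x : G} (hx : x ∈ N) {x0 : C.L}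
    (hx0 : x0 ∈ PU C.S U) (h : x = x0 ∨ x = C.t * x0) : ∀ w ∈ perp C.S U, C.S.ρ x0 w + w ∈ U := by
  have hfinV := C.finV
  intro w hw
  by_contra hcon
  set w' := C.S.ρ x0 w with hw'
  have hw'P : w' ∈ perp C.S U := PU_perp C.S hx0 hw
  have hnot : w' ∉ U ⊔ ln w := by
    intro h1
    rcases mem_sup_ln.1 h1 with h2 | h2
    · exact hcon (add_mem h2 ((hx0 w).1 h2))
    · exact hcon h2
  -- the commutator
  have hc : ((C.S.τ w' * C.S.τ w : C.L) : G) ∈ N := by
    have h1 : x * ((C.S.τ w : C.L) : G) * x⁻¹ = (C.S.τ w' : C.L) := by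
      rw [conj_lift C h, C.S.conj_τ]
    have h2 : ((C.S.τ w' * C.S.τ w : C.L) : G) =
        x * (((C.S.τ w : C.L) : G) * x⁻¹ * ((C.S.τ w : C.L) : G)⁻¹) := by
      have h3 : ((C.S.τ w : C.L) : G)⁻¹ = (C.S.τ w : C.L) := congrArg Subtype.val (C.S.τ_inv w)
      rw [h3]
      change ((C.S.τ w' : C.L) : G) * (C.S.τ w : C.L) = _
      rw [← h1]; group
    rw [h2]
    exact mul_mem hx (hn _ (τ_mem_PU C.S hw) _ (inv_mem hx))
  rcases z2 (C.S.B w' w) with hb | hb
  · obtain ⟨u, hu, huw⟩ := sep C.S hnot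
    rw [mem_perp_sup, mem_perp_ln] at hu
    have hc2 := hn _ (τ_mem_PU C.S hu.1) _ hc
    have hc3 := mul_mem hc hc2
    have e : (C.S.τ w' * C.S.τ w) * (C.S.τ u * (C.S.τ w' * C.S.τ w) * (C.S.τ u)⁻¹) =
        C.S.τ w' * C.S.τ (w' + u) := by
      have e1 : C.S.τ u * (C.S.τ w' * C.S.τ w) * (C.S.τ u)⁻¹ =
          (C.S.τ u * C.S.τ w' * (C.S.τ u)⁻¹) * (C.S.τ u * C.S.τ w * (C.S.τ u)⁻¹) := by group
      have e2 : C.S.τ u * C.S.τ w' * (C.S.τ u)⁻¹ = C.S.τ (w' + u) := by
        rw [C.S.conj_τ, C.S.hτ, C.S.symm w' u, huw, one_smul]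
      have e3 : C.S.τ u * C.S.τ w * (C.S.τ u)⁻¹ = C.S.τ w := by
        rw [C.S.conj_τ, C.S.hτ, C.S.symm w u, hu.2, zero_smul, add_zero]
      have e4 : C.S.τ w * C.S.τ (w' + u) = C.S.τ (w' + u) * C.S.τ w := by
        apply C.S.τ_commute
        rw [map_add, C.S.symm w w', hb, C.S.symm w u, hu.2, add_zero]
      rw [e1, e2, e3, mul_assoc (C.S.τ w'), ← mul_assoc (C.S.τ w), e4, mul_assoc (C.S.τ (w' + u)),
        C.S.τ_sq, mul_one]
    have hB : C.S.B w' (w' + u) = 1 := by rw [map_add, C.S.alt, zero_add, C.S.symm, huw]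
    have e' : ((C.S.τ w' * C.S.τ w : C.L) : G) * ((C.S.τ u : G) * ((C.S.τ w' * C.S.τ w : C.L) : G) *
        (C.S.τ u : G)⁻¹) = ((C.S.τ w' * C.S.τ (w' + u) : C.L) : G) := congrArg Subtype.val e
    rw [e'] at hc3
    have h3 := eq_one_of_three hN hc3 (congrArg Subtype.val (ττ_three C.S hB))
    exact ττ_ne_one C.S hB (Subtype.ext h3)
  · have h3 := eq_one_of_three hN hc (congrArg Subtype.val (ττ_three C.S hb))
    exact ττ_ne_one C.S hb (Subtype.ext h3)

/-- `g` moves `t` to `t z` and fixes `z`; `C_L(z) = Stab(U)` -/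
structure Nrm (U : Submodule (ZMod 2) V) (z : C.L) (g : G) : Prop where
  cz : ∀ x : C.L, x * z = z * x ↔ x ∈ PU C.S U
  zz : z * z = 1
  ht : g * C.t * g⁻¹ = C.t * z
  hz : g * z * g⁻¹ = z

namespace Nrm

variable {C}
variable {U : Submodule (ZMod 2) V} {z : C.L} {g : G}

theorem zzG (H : Nrm C U z g) : (z : G) * z = 1 := congrArg Subtype.val H.zz

theorem inv (H : Nrm C U z g) : Nrm C U z g⁻¹ := by
  have h1 : g⁻¹ * z * g = (z : G) := by
    calc g⁻¹ * (z : G) * g = g⁻¹ * (g * z * g⁻¹) * g := by rw [H.hz]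
      _ = z := by group
  refine ⟨H.cz, H.zz, ?_, ?_⟩
  · rw [inv_inv]
    have h2 : C.t = g⁻¹ * C.t * g * z := by
      calc C.t = g⁻¹ * (g * C.t * g⁻¹) * g := by group
        _ = g⁻¹ * (C.t * z) * g := by rw [H.ht]
        _ = g⁻¹ * C.t * g * (g⁻¹ * z * g) := by group
        _ = _ := by rw [h1]
    calc g⁻¹ * C.t * g = g⁻¹ * C.t * g * (z * z) := by rw [H.zzG, mul_one]
      _ = g⁻¹ * C.t * g * z * z := by group
      _ = _ := by rw [← h2]
  · rw [inv_inv]; exact h1

theorem t_mul (H : Nrm C U z g) : Nrm C U z (C.t * g) := by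
  have h := t_comm C z
  refine ⟨H.cz, H.zz, ?_, ?_⟩
  · calc C.t * g * C.t * (C.t * g)⁻¹ = C.t * (g * C.t * g⁻¹) * C.t⁻¹ := by group
      _ = C.t * (C.t * z) * C.t⁻¹ := by rw [H.ht]
      _ = C.t * (z * C.t) * C.t⁻¹ := by rw [h]
      _ = _ := by group
  · calc C.t * g * z * (C.t * g)⁻¹ = C.t * (g * z * g⁻¹) * C.t⁻¹ := by group
      _ = C.t * z * C.t⁻¹ := by rw [H.hz]
      _ = _ := by rw [← h]; group

theorem mul_left (H : Nrm C U z g) {m : C.L} (hm : m ∈ PU C.S U) : Nrm C U z (m * g) := by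
  have h := t_comm C m
  have h2 : (m : G) * z = z * m := congrArg Subtype.val ((H.cz m).2 hm)
  refine ⟨H.cz, H.zz, ?_, ?_⟩
  · calc m * g * C.t * (m * g)⁻¹ = m * (g * C.t * g⁻¹) * (m : G)⁻¹ := by group
      _ = m * (C.t * z) * (m : G)⁻¹ := by rw [H.ht]
      _ = (m * C.t) * z * (m : G)⁻¹ := by group
      _ = C.t * (m * z) * (m : G)⁻¹ := by rw [h]; group
      _ = _ := by rw [h2]; group
  · calc m * g * z * (m * g)⁻¹ = m * (g * z * g⁻¹) * (m : G)⁻¹ := by group
      _ = _ := by rw [H.hz, h2]; group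

theorem PUmem (H : Nrm C U z g) {x : G} (hx : x ∈ TX C (PU C.S U)) : g * x * g⁻¹ ∈ TX C (PU C.S U) := by
  have h1 := TX_comm_t C hx
  have h2 : x * z = z * x := by
    obtain ⟨y, hy, hxy⟩ := hx
    have h3 : (y : G) * z = z * y := congrArg Subtype.val ((H.cz y).2 hy)
    rcases hxy with rfl | rfl
    · exact h3
    · rw [mul_assoc, h3, ← mul_assoc, ← t_comm, mul_assoc]
  have h3 : g * x * g⁻¹ * z = z * (g * x * g⁻¹) := by
    calc g * x * g⁻¹ * z = g * x * g⁻¹ * (g * z * g⁻¹) := by rw [H.hz]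
      _ = g * (x * z) * g⁻¹ := by group
      _ = (g * z * g⁻¹) * (g * x * g⁻¹) := by rw [h2]; group
      _ = _ := by rw [H.hz]
  have h4 : g * x * g⁻¹ * (C.t * z) = (C.t * z) * (g * x * g⁻¹) := by
    rw [← H.ht]
    calc g * x * g⁻¹ * (g * C.t * g⁻¹) = g * (x * C.t) * g⁻¹ := by group
      _ = _ := by rw [h1]; group
  have h5 : g * x * g⁻¹ * C.t = C.t * (g * x * g⁻¹) := by
    have h5 : g * x * g⁻¹ * C.t * z = C.t * (g * x * g⁻¹) * z := by
      calc g * x * g⁻¹ * C.t * z = g * x * g⁻¹ * (C.t * z) := by group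
        _ = C.t * (z * (g * x * g⁻¹)) := by rw [h4]; group
        _ = C.t * (g * x * g⁻¹) * z := by rw [← h3]; group
    exact mul_right_cancel h5
  obtain ⟨y, hy⟩ := exists_lift C h5
  refine ⟨y, ?_, hy⟩
  rw [← H.cz]
  apply Subtype.ext
  change (y : G) * z = z * y
  rcases hy with hy | hy
  · rw [← hy]; exact h3
  · have h6 : C.t * ((y : G) * z) = C.t * (z * y) := by
      rw [← mul_assoc, ← hy, h3, hy, ← mul_assoc, t_comm, mul_assoc]
    exact mul_left_cancel h6

theorem exists_PU (H : Nrm C U z g) {x : C.L} (hx : x ∈ PU C.S U) :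
    ∃ y : C.L, y ∈ PU C.S U ∧ (g * x * g⁻¹ = y ∨ g * x * g⁻¹ = C.t * y) :=
  H.PUmem ((coe_mem_TX C).2 hx)

/-- the technical condition: normal 2-subgroups of the stabilizer are trivial on `U` -/
def Triv (C : Ctx G V) (U : Submodule (ZMod 2) V) : Prop :=
  ∀ N : Subgroup G, IsPGroup 2 N → (∀ m ∈ PU C.S U, ∀ x ∈ N, (m : G) * x * (m : G)⁻¹ ∈ N) →
    ∀ x ∈ N, ∀ x0 ∈ PU C.S U, (x = x0 ∨ x = C.t * x0) → ∀ u ∈ U, C.S.ρ x0 u = u

theorem QUmem (H : Nrm C U z g) (hU : U ≤ perp C.S U) (hT : Triv C U) {x : G}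
    (hx : x ∈ TX C (QU C.S U)) : g * x * g⁻¹ ∈ TX C (QU C.S U) := by
  set N : Subgroup G := (TX C (QU C.S U)).map (MulAut.conj g).toMonoidHom with hN
  have hxN : g * x * g⁻¹ ∈ N := ⟨x, hx, rfl⟩
  have hNp : IsPGroup 2 N := by
    apply IsPGroup.map
    apply TX_isPGroup
    intro y
    exact ⟨2, Subtype.ext (QU_pow_four C.S hU y.2)⟩
  have hNn : ∀ m ∈ PU C.S U, ∀ y ∈ N, (m : G) * y * (m : G)⁻¹ ∈ N := by
    rintro m hm y ⟨a, ha, rfl⟩
    have h1 := H.inv.PUmem ((coe_mem_TX C).2 hm)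
    rw [inv_inv] at h1
    refine ⟨(g⁻¹ * m * g) * a * (g⁻¹ * m * g)⁻¹, ?_, ?_⟩
    · obtain ⟨k, hk, hk'⟩ := h1
      obtain ⟨b, hb, hab⟩ := ha
      have hkt : g⁻¹ * m * g * C.t * (g⁻¹ * m * g)⁻¹ = C.t := by
        have : g⁻¹ * m * g ∈ TX C (PU C.S U) := ⟨k, hk, hk'⟩
        rw [TX_comm_t C this]; group
      have h2 := conj_lift C hk' b
      refine ⟨k * b * k⁻¹, QU_conj C.S hk hb, ?_⟩
      rcases hab with rfl | rfl
      · left; exact h2
      · right
        rw [← h2]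
        calc g⁻¹ * m * g * (C.t * b) * (g⁻¹ * m * g)⁻¹ =
            (g⁻¹ * m * g * C.t * (g⁻¹ * m * g)⁻¹) * (g⁻¹ * m * g * b * (g⁻¹ * m * g)⁻¹) := by group
          _ = _ := by rw [hkt]
    · change g * ((g⁻¹ * m * g) * a * (g⁻¹ * m * g)⁻¹) * g⁻¹ = m * (g * a * g⁻¹) * (m : G)⁻¹
      group
  have hxP : g * x * g⁻¹ ∈ TX C (PU C.S U) := H.PUmem (TX_mono C (QU_le_PU C.S) hx)
  obtain ⟨x0, hx0, hx0'⟩ := hxP
  exact ⟨x0, ⟨hT N hNp hNn _ hxN x0 hx0 hx0', O2_step C hNp hNn hxN hx0 hx0'⟩, hx0'⟩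

/-- the elements of `Q_U` mapped into `Q_U` -/
def QF (_H : Nrm C U z g) : Subgroup C.L where
  carrier := {x | x ∈ QU C.S U ∧ ∃ y ∈ QU C.S U, g * (x : G) * g⁻¹ = (y : G)}
  one_mem' := ⟨one_mem _, 1, one_mem _, by
    change g * (1 : G) * g⁻¹ = 1
    group⟩
  mul_mem' := by
    rintro a b ⟨ha, y, hy, hay⟩ ⟨hb, y', hy', hby⟩
    refine ⟨mul_mem ha hb, y * y', mul_mem hy hy', ?_⟩
    change g * ((a : G) * b) * g⁻¹ = (y : G) * y'
    rw [← hay, ← hby]; group
  inv_mem' := by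
    rintro a ⟨ha, y, hy, hay⟩
    refine ⟨inv_mem ha, y⁻¹, inv_mem hy, ?_⟩
    change g * (a : G)⁻¹ * g⁻¹ = (y : G)⁻¹
    rw [← hay]; group

theorem commutator_mem_QF (H : Nrm C U z g) (hU : U ≤ perp C.S U) (hT : Triv C U) {x m : C.L}
    (hx : x ∈ QU C.S U) (hm : m ∈ PU C.S U) : x * (m * x⁻¹ * m⁻¹) ∈ H.QF := by
  refine ⟨mul_mem hx (QU_conj C.S hm (inv_mem hx)), ?_⟩
  obtain ⟨y, hy, hy'⟩ := H.QUmem hU hT ((coe_mem_TX C).2 hx)
  obtain ⟨k, hk, hk'⟩ := H.exists_PU hm
  refine ⟨y * (k * y⁻¹ * k⁻¹), mul_mem hy (QU_conj C.S hk (inv_mem hy)), ?_⟩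
  change g * ((x : G) * (m * (x : G)⁻¹ * (m : G)⁻¹)) * g⁻¹ = (y : G) * ((k * y⁻¹ * k⁻¹ : C.L) : G)
  have h1 : g * ((x : G) * (m * (x : G)⁻¹ * (m : G)⁻¹)) * g⁻¹ =
      (g * x * g⁻¹) * ((g * m * g⁻¹) * (g * x * g⁻¹)⁻¹ * (g * m * g⁻¹)⁻¹) := by group
  have hkt : (g * m * g⁻¹) * C.t = C.t * (g * m * g⁻¹) := TX_comm_t C (A := PU C.S U) ⟨k, hk, hk'⟩
  have h2 := conj_lift C hk' y⁻¹
  have h2' : g * m * g⁻¹ * (y : G)⁻¹ * (g * m * g⁻¹)⁻¹ = ((k * y⁻¹ * k⁻¹ : C.L) : G) := h2
  rw [h1]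
  rcases hy' with hy' | hy'
  · rw [hy', h2']
  · rw [hy', mul_inv_rev]
    have hkt' : C.t * (g * m * g⁻¹)⁻¹ = (g * m * g⁻¹)⁻¹ * C.t := by
      rw [eq_inv_mul_iff_mul_eq, ← mul_assoc, hkt, mul_inv_cancel_right]
    have h3 : (g * m * g⁻¹) * ((y : G)⁻¹ * C.t⁻¹) * (g * m * g⁻¹)⁻¹ =
        (g * m * g⁻¹ * (y : G)⁻¹ * (g * m * g⁻¹)⁻¹) * C.t := by
      rw [C.t_inv, mul_assoc _ _ (g * m * g⁻¹)⁻¹, mul_assoc (y : G)⁻¹, hkt']
      simp only [mul_assoc]
    rw [h3, h2', mul_assoc C.t, ← mul_assoc (y : G)]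
    have h4 : ((y : G) * ((k * y⁻¹ * k⁻¹ : C.L) : G)) * C.t = C.t * ((y : G) * ((k * y⁻¹ * k⁻¹ : C.L) : G)) :=
      t_comm C (y * (k * y⁻¹ * k⁻¹))
    rw [h4, ← mul_assoc, C.tt, one_mul]

end Nrm

end Cfsg.Agent.OddHalf.SpTwo

end

-- merged: Cfsg.Agent.OddHalf.SpTwo.Long
section

/-!
# Existence of `y_v` (long roots)

If `t` is conjugate to some `t b_v`, then for every `v ≠ 0` there is an involution `y` with `t^y = t b_v`
centralising `Q_v`.
-/

set_option autoImplicit false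
set_option linter.unusedSimpArgs false

open scoped commutatorElement

namespace Cfsg.Agent.OddHalf.SpTwo

open Cfsg.Agent.StandardComponent.SpTwo
open Cfsg.Agent.OddHalf.SpTwoN

variable {G V : Type*} [Group G] [AddCommGroup V] [Module (ZMod 2) V] (C : Ctx G V)

/-- the properties of `y_v` -/
structure IsY (v : V) (y : G) : Prop where
  sq : y * y = 1
  conj_t : y * C.t * y = C.t * C.b v
  comm_b : y * C.b v = C.b v * y
  comm : ∀ u, C.S.B u v = 0 → y * (q C.S v u 0 : C.L) = (q C.S v u 0 : C.L) * y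

theorem triv_ln {v : V} (hv : v ≠ 0) : Nrm.Triv C (ln v) := by
  intro N _ _ x _ x0 hx0 _ u hu
  rcases mem_ln.1 hu with rfl | rfl
  · exact map_zero _
  · exact (mem_PU_ln C.S hv).1 hx0

theorem nrm_ln {v : V} (hv : v ≠ 0) {g : G} (ht : g * C.t * g⁻¹ = C.t * C.b v)
    (hb : g * C.b v * g⁻¹ = C.b v) : Nrm C (ln v) (C.S.τ v) g := by
  refine ⟨fun x => ?_, C.S.τ_sq v, ht, hb⟩
  rw [commute_τ_iff, mem_PU_ln C.S hv]

variable {C}
variable {v : V} {g : G}

theorem q_zero_conj (H : Nrm C (ln v) (C.S.τ v) g) (e : ZMod 2) :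
    g * (q C.S v 0 e : C.L) * g⁻¹ = (q C.S v 0 e : C.L) := by
  rcases z2 e with rfl | rfl
  · rw [q_zero]
    change g * (1 : G) * g⁻¹ = 1
    group
  · rw [q_zero_one]; exact H.hz

theorem τ_mem_QF (_hv : v ≠ 0) (H : Nrm C (ln v) (C.S.τ v) g) : C.S.τ v ∈ H.QF := by
  have h1 : C.S.τ v ∈ QU C.S (ln v) := τ_mem_QU C.S (ln_ti C.S v) (self_mem_ln v)
  exact ⟨h1, C.S.τ v, h1, H.hz⟩

theorem q_zero_mem_QF (hv : v ≠ 0) (H : Nrm C (ln v) (C.S.τ v) g) (e : ZMod 2) : q C.S v 0 e ∈ H.QF := by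
  rcases z2 e with rfl | rfl
  · rw [q_zero]; exact one_mem _
  · rw [q_zero_one]; exact τ_mem_QF hv H

theorem q_ln (C : Ctx G V) {v u : V} (hu : u ∈ ln v) (e : ZMod 2) : q C.S v u e = q C.S v 0 e := by
  rcases mem_ln.1 hu with rfl | rfl
  · rfl
  · exact q_self C.S _ e

theorem q_mem_QF (hv : v ≠ 0) (H : Nrm C (ln v) (C.S.τ v) g) {w : V} (hw : C.S.B w v = 0) (e : ZMod 2) :
    q C.S v w e ∈ H.QF := by
  have hfinV := C.finV
  by_cases hwl : w ∈ ln v
  · rw [q_ln C hwl]; exact q_zero_mem_QF hv H e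
  · obtain ⟨u, hu, huw⟩ := sep C.S hwl
    rw [mem_perp_ln] at hu
    have h1 := H.commutator_mem_QF (ln_ti C.S v) (triv_ln C hv) (q_mem_QU C.S hv hu 0)
      (τ_mem_PU C.S ((mem_perp_ln C.S).2 hw))
    rw [q_inv C.S hu, C.S.τ_inv] at h1
    have h2 : q C.S v u 0 * (C.S.τ w * q C.S v u 0 * C.S.τ w) = q C.S v w 1 := by
      have := q_comm_τ C.S hw hu (0 : ZMod 2)
      rw [huw, one_smul] at this
      rw [← this]; simp only [mul_assoc]
    rw [h2] at h1
    have h3 : q C.S v w e = q C.S v w 1 * q C.S v 0 (1 + e) := by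
      rw [q_mul C.S hw (B_zero C.S v), map_zero]
      simp only [add_zero]
      rw [z2_add']
    rw [h3]
    exact mul_mem h1 (q_zero_mem_QF hv H _)

theorem exists_f (hv : v ≠ 0) (H : Nrm C (ln v) (C.S.τ v) g) {u : V} (hu : C.S.B u v = 0) (e : ZMod 2) :
    ∃ u' e', C.S.B u' v = 0 ∧ g * (q C.S v u e : C.L) * g⁻¹ = (q C.S v u' e' : C.L) := by
  have hfinV := C.finV
  obtain ⟨-, y, hy, hy'⟩ := q_mem_QF hv H hu e
  obtain ⟨u', e', hu', rfl⟩ := mem_QU_ln C.S hv hy
  exact ⟨u', e', hu', hy'⟩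

theorem long_p (hv : v ≠ 0) (H : Nrm C (ln v) (C.S.τ v) g) :
    ∃ p ∈ TG C.S (perp C.S (ln v) : Set V), ∀ u, C.S.B u v = 0 → ∃ e : ZMod 2,
      ((p : G)⁻¹ * g) * (q C.S v u 0 : C.L) * ((p : G)⁻¹ * g)⁻¹ = (q C.S v u e : C.L) := by
  have hfinV := C.finV
  have h0 : ∀ u, C.S.B u v = 0 → ∃ u' e', C.S.B u' v = 0 ∧
      g * (q C.S v u 0 : C.L) * g⁻¹ = (q C.S v u' e' : C.L) := fun u hu => exists_f hv H hu 0
  choose! f e hfv hf using h0
  -- the image of a general element
  have hfe : ∀ u, C.S.B u v = 0 → ∀ c : ZMod 2,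
      g * (q C.S v u c : C.L) * g⁻¹ = (q C.S v (f u) (e u + c) : C.L) := by
    intro u hu c
    have h1 : q C.S v u c = q C.S v u 0 * q C.S v 0 c := by
      rw [q_mul C.S hu (B_zero C.S v), map_zero]; simp
    have h2 : q C.S v (f u) (e u + c) = q C.S v (f u) (e u) * q C.S v 0 c := by
      rw [q_mul C.S (hfv u hu) (B_zero C.S v), map_zero]; simp
    rw [h1, h2]
    change g * (((q C.S v u 0 : C.L) : G) * (q C.S v 0 c : C.L)) * g⁻¹ =
      ((q C.S v (f u) (e u) : C.L) : G) * (q C.S v 0 c : C.L)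
    have e1 := hf u hu
    have e2 := q_zero_conj H c
    calc g * (((q C.S v u 0 : C.L) : G) * (q C.S v 0 c : C.L)) * g⁻¹ =
        (g * (q C.S v u 0 : C.L) * g⁻¹) * (g * (q C.S v 0 c : C.L) * g⁻¹) := by group
      _ = _ := by rw [e1, e2]
  -- additivity
  have hadd : ∀ u u', C.S.B u v = 0 → C.S.B u' v = 0 → f (u + u') + (f u + f u') ∈ ln v := by
    intro u u' hu hu'
    have h1 : q C.S v u 0 * q C.S v u' 0 = q C.S v (u + u') (C.S.B u u') := by
      rw [q_mul C.S hu hu']; simp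
    have huu : C.S.B (u + u') v = 0 := by rw [B_add, hu, hu', add_zero]
    have h2 := hfe (u + u') huu (C.S.B u u')
    rw [← h1] at h2
    have h3 : g * ((q C.S v u 0 * q C.S v u' 0 : C.L) : G) * g⁻¹ =
        (g * (q C.S v u 0 : C.L) * g⁻¹) * (g * (q C.S v u' 0 : C.L) * g⁻¹) := by
      change g * (((q C.S v u 0 : C.L) : G) * (q C.S v u' 0 : C.L)) * g⁻¹ = _
      group
    rw [h3, hf u hu, hf u' hu'] at h2
    have h4 : q C.S v (f u) (e u) * q C.S v (f u') (e u') =
        q C.S v (f (u + u')) (e (u + u') + C.S.B u u') := Subtype.ext h2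
    rw [q_mul C.S (hfv u hu) (hfv u' hu')] at h4
    have h5 := (q_inj C.S hv (by rw [B_add, hfv u hu, hfv u' hu', add_zero]) (hfv _ huu) h4).1
    rwa [add_comm] at h5
  -- the values on `ln v`
  have hln : ∀ u ∈ ln v, f u ∈ ln v := by
    intro u hu
    have huv : C.S.B u v = 0 := (mem_perp_ln C.S).1 (ln_ti C.S v hu)
    have h1 := hf u huv
    rw [q_ln C hu, q_zero_conj H] at h1
    have h2 := (q_inj C.S hv (B_zero C.S v) (hfv u huv) (Subtype.ext h1)).1
    rwa [zero_add] at h2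
  -- surjectivity
  have hsurj : ∀ x, C.S.B x v = 0 → ∃ u, C.S.B u v = 0 ∧ x + f u ∈ ln v := by
    intro x hx
    obtain ⟨u, c, hu, huc⟩ := exists_f hv H.inv hx 0
    refine ⟨u, hu, ?_⟩
    have h1 := hfe u hu c
    rw [← huc] at h1
    have h2 : ((q C.S v x 0 : C.L) : G) = (q C.S v (f u) (e u + c) : C.L) := by
      rw [← h1]; group
    exact (q_inj C.S hv hx (hfv u hu) (Subtype.ext h2)).1
  have hinj : ∀ w, C.S.B w v = 0 → f w ∈ ln v → w ∈ ln v := by
    intro w hw hfw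
    have h1 := hf w hw
    rw [q_ln C hfw, ← q_zero_conj H] at h1
    have h2 : ((q C.S v w 0 : C.L) : G) = (q C.S v 0 (e w) : C.L) := by
      have := congrArg (fun x => g⁻¹ * x * g) h1
      simpa [mul_assoc] using this
    have h3 := (q_inj C.S hv hw (B_zero C.S v) (Subtype.ext h2)).1
    rwa [add_zero] at h3
  have hBln : ∀ x y, C.S.B x v = 0 → y ∈ ln v → C.S.B x y = 0 := by
    intro x y hx hy
    exact (mem_perp_ln C.S).2 hx y hy
  have hfs : ∀ u w, C.S.B u v = 0 → C.S.B w v = 0 → ∀ c : ZMod 2, f (u + c • w) + (f u + c • f w) ∈ ln v := by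
    intro u w hu hw c
    rcases z2 c with rfl | rfl
    · rw [zero_smul, zero_smul, add_zero, add_zero, aa]; exact zero_mem _
    · rw [one_smul, one_smul]; exact hadd u w hu hw
  -- conjugation by transvections
  have hstar : ∀ w u u', C.S.B w v = 0 → C.S.B u v = 0 → C.S.B u' v = 0 →
      C.S.B u' w * C.S.B (f u) (f w) = C.S.B u w * C.S.B (f w) (f u') := by
    intro w u u' hw hu hu'
    obtain ⟨y, hy, hy'⟩ := H.exists_PU (τ_mem_PU C.S ((mem_perp_ln C.S).2 hw))
    have hyv := (mem_PU_ln C.S hv).1 hy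
    have key : ∀ a, C.S.B a v = 0 → C.S.ρ y (f a) + (f a + C.S.B a w • f w) ∈ ln v := by
      intro a ha
      have h1 : (y * q C.S v (f a) (e a) * y⁻¹ : C.L) = q C.S v (C.S.ρ y (f a)) (e a) := by
        rw [q_conj, hyv]
      have h2 := conj_lift C hy' (q C.S v (f a) (e a))
      rw [h1, ← hf a ha] at h2
      have h3 : g * ((C.S.τ w : C.L) : G) * g⁻¹ * (g * (q C.S v a 0 : C.L) * g⁻¹) *
          (g * ((C.S.τ w : C.L) : G) * g⁻¹)⁻¹ = g * (q C.S v (a + C.S.B a w • w) 0 : C.L) * g⁻¹ := by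
        rw [← τ_conj_q C.S hw]
        have h4 : ((C.S.τ w : C.L) : G)⁻¹ = (C.S.τ w : C.L) := congrArg Subtype.val (C.S.τ_inv w)
        change _ = g * (((C.S.τ w : C.L) : G) * (q C.S v a 0 : C.L) * (C.S.τ w : C.L)) * g⁻¹
        calc g * ((C.S.τ w : C.L) : G) * g⁻¹ * (g * (q C.S v a 0 : C.L) * g⁻¹) *
            (g * ((C.S.τ w : C.L) : G) * g⁻¹)⁻¹ =
            g * (((C.S.τ w : C.L) : G) * (q C.S v a 0 : C.L) * ((C.S.τ w : C.L) : G)⁻¹) * g⁻¹ := by group
          _ = _ := by rw [h4]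
      have haw : C.S.B (a + C.S.B a w • w) v = 0 := by
        rw [B_add, map_smul, LinearMap.smul_apply, ha, hw, smul_zero, add_zero]
      rw [h3, hf _ haw] at h2
      have h5 := (q_inj C.S hv (hfv _ haw) (by rw [← hyv, C.S.inv]; exact hfv a ha) (Subtype.ext h2)).1
      have h6 := add_mem h5 (hfs a w ha hw (C.S.B a w))
      have h7 : f (a + C.S.B a w • w) + C.S.ρ y (f a) + (f (a + C.S.B a w • w) + (f a + C.S.B a w • f w)) =
          C.S.ρ y (f a) + (f a + C.S.B a w • f w) +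
            (f (a + C.S.B a w • w) + f (a + C.S.B a w • w)) := by abel
      rwa [h7, aa, add_zero] at h6
    have hval : ∀ a, C.S.B a v = 0 → ∃ l ∈ ln v, C.S.ρ y (f a) = f a + C.S.B a w • f w + l := by
      intro a ha
      refine ⟨_, key a ha, ?_⟩
      have : f a + C.S.B a w • f w + (C.S.ρ y (f a) + (f a + C.S.B a w • f w)) =
          C.S.ρ y (f a) + ((f a + C.S.B a w • f w) + (f a + C.S.B a w • f w)) := by abel
      rw [this, aa, add_zero]
    obtain ⟨l, hl, hl'⟩ := hval u hu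
    obtain ⟨l', hm, hm'⟩ := hval u' hu'
    have h1 := C.S.inv y (f u) (f u')
    rw [hl', hm'] at h1
    have e1 : C.S.B l (f u') = 0 := by rw [C.S.symm]; exact hBln _ _ (hfv u' hu') hl
    have e2 : C.S.B l (f w) = 0 := by rw [C.S.symm]; exact hBln _ _ (hfv w hw) hl
    have e3 : C.S.B l l' = 0 := hBln _ _ ((mem_perp_ln C.S).1 (ln_ti C.S v hl)) hm
    have e4 : C.S.B (f u) l' = 0 := hBln _ _ (hfv u hu) hm
    have e5 : C.S.B (f w) l' = 0 := hBln _ _ (hfv w hw) hm
    simp only [map_add, LinearMap.add_apply, map_smul, LinearMap.smul_apply, smul_eq_mul, C.S.alt, e1, e2, e3, e4,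
      e5, mul_zero, add_zero, zero_add] at h1
    revert h1
    generalize C.S.B u' w = a1
    generalize C.S.B (f u) (f w) = a2
    generalize C.S.B u w = a3
    generalize C.S.B (f w) (f u') = a4
    generalize C.S.B (f u) (f u') = a5
    revert a1 a2 a3 a4 a5
    decide
  have hiso : ∀ u w, C.S.B u v = 0 → C.S.B w v = 0 → C.S.B (f u) (f w) = C.S.B u w := by
    intro u w hu hw
    by_cases hwl : w ∈ ln v
    · rw [hBln u w hu hwl, hBln _ _ (hfv u hu) (hln w hwl)]
    · obtain ⟨u', hu', huw'⟩ := sep C.S hwl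
      rw [mem_perp_ln] at hu'
      have h1 : ∀ a, C.S.B a v = 0 → C.S.B (f a) (f w) = C.S.B a w * C.S.B (f w) (f u') := by
        intro a ha
        have := hstar w a u' hw ha hu'
        rwa [huw', one_mul] at this
      have h2 : C.S.B (f w) (f u') = 1 := by
        rcases z2 (C.S.B (f w) (f u')) with h3 | h3
        · exfalso
          apply hwl
          apply hinj w hw
          apply mem_of_perp C.S
          intro x hx
          rw [mem_perp_ln] at hx
          obtain ⟨a, ha, hax⟩ := hsurj x hx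
          have h4 := h1 a ha
          rw [h3, mul_zero] at h4
          have h5 : C.S.B (f w) (x + f a) = 0 := hBln _ _ (hfv w hw) hax
          rw [map_add, C.S.symm (f w) (f a), h4, add_zero] at h5
          rw [C.S.symm]; exact h5
        · exact h3
      rw [h1 u hu, h2, mul_one]
  obtain ⟨p, hp, hpf⟩ := gen C.S (ln_ti C.S v) f
    (fun x hx => (mem_perp_ln C.S).2 (hfv x ((mem_perp_ln C.S).1 hx)))
    hln
    (fun x hx y hy => hadd x y ((mem_perp_ln C.S).1 hx) ((mem_perp_ln C.S).1 hy))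
    (fun x hx y hy => hiso x y ((mem_perp_ln C.S).1 hx) ((mem_perp_ln C.S).1 hy))
  refine ⟨p, hp, fun u hu => ⟨e u, ?_⟩⟩
  have hpi : p⁻¹ ∈ TG C.S (perp C.S (ln v) : Set V) := inv_mem hp
  have hpv : C.S.ρ p⁻¹ v = v := TG_fix C.S hpi (self_mem_ln v)
  have h1 : ((p : G)⁻¹ * g) * (q C.S v u 0 : C.L) * ((p : G)⁻¹ * g)⁻¹ =
      (p : G)⁻¹ * (g * (q C.S v u 0 : C.L) * g⁻¹) * p := by group
  rw [h1, hf u hu]
  have h2 : p⁻¹ * q C.S v (f u) (e u) * p⁻¹⁻¹ = q C.S v (C.S.ρ p⁻¹ (f u)) (e u) := by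
    rw [q_conj, hpv]
  rw [inv_inv] at h2
  have h3 : C.S.ρ p⁻¹ (f u) + u ∈ ln v := by
    have h4 := hpf u ((mem_perp_ln C.S).2 hu)
    have h5 := ((TG_le_PU C.S hpi) _).2 h4
    rwa [map_add, C.S.ρ_inv_apply, add_comm] at h5
  have h4 : q C.S v (C.S.ρ p⁻¹ (f u)) (e u) = q C.S v u (e u) := by
    rcases mem_ln.1 h3 with h5 | h5
    · rw [eq_of_add _ _ h5]
    · have : C.S.ρ p⁻¹ (f u) = u + v := by rw [← h5, add_comm u, aab]
      rw [this, q_add_self C.S hu]
  rw [h4] at h2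
  exact congrArg Subtype.val h2

end Cfsg.Agent.OddHalf.SpTwo

end

-- merged: Cfsg.Agent.OddHalf.SpTwo.LongY
section

/-!
# Existence of `y_v` (long roots), second part
-/

set_option autoImplicit false
set_option linter.unusedSimpArgs false

open scoped commutatorElement

namespace Cfsg.Agent.OddHalf.SpTwo

open Cfsg.Agent.StandardComponent.SpTwo
open Cfsg.Agent.OddHalf.SpTwoN

variable {G V : Type*} [Group G] [AddCommGroup V] [Module (ZMod 2) V] {C : Ctx G V}
variable {v : V} {g : G}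

/-- `q v u e = q v u 0 * q v 0 e` -/
theorem q_split (C : Ctx G V) {v u : V} (hu : C.S.B u v = 0) (e : ZMod 2) :
    q C.S v u e = q C.S v u 0 * q C.S v 0 e := by
  rw [q_mul C.S hu (B_zero C.S v), map_zero]; simp

/-- if `g` is trivial on `Q_v / b_v`, then `g m g⁻¹ m⁻¹ ∈ ⟨t⟩ Q_v` for `m` in the stabilizer -/
theorem exists_q (hv : v ≠ 0) (H : Nrm C (ln v) (C.S.τ v) g)
    (hq : ∀ u, C.S.B u v = 0 → ∃ e : ZMod 2, g * (q C.S v u 0 : C.L) * g⁻¹ = (q C.S v u e : C.L))
    {m : C.L} (hm : m ∈ PU C.S (ln v)) :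
    ∃ a ∈ QU C.S (ln v), g * m * g⁻¹ = ((a * m : C.L) : G) ∨ g * m * g⁻¹ = C.t * ((a * m : C.L) : G) := by
  have hfinV := C.finV
  obtain ⟨y, hy, hy'⟩ := H.exists_PU hm
  have hyv := (mem_PU_ln C.S hv).1 hy
  have hmv := (mem_PU_ln C.S hv).1 hm
  have hqe : ∀ u, C.S.B u v = 0 → ∀ c : ZMod 2, ∃ e : ZMod 2,
      g * (q C.S v u c : C.L) * g⁻¹ = (q C.S v u e : C.L) := by
    intro u hu c
    obtain ⟨e, he⟩ := hq u hu
    refine ⟨e + c, ?_⟩
    have h2 : q C.S v u (e + c) = q C.S v u e * q C.S v 0 c := by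
      rw [q_mul C.S hu (B_zero C.S v), map_zero]; simp
    rw [q_split C hu c, h2]
    have e2 := q_zero_conj H c
    calc g * (((q C.S v u 0 : C.L) : G) * (q C.S v 0 c : C.L)) * g⁻¹ =
        (g * (q C.S v u 0 : C.L) * g⁻¹) * (g * (q C.S v 0 c : C.L) * g⁻¹) := by group
      _ = _ := by rw [he, e2]; rfl
  have hqi : ∀ u, C.S.B u v = 0 → ∃ e : ZMod 2, g⁻¹ * (q C.S v u 0 : C.L) * g = (q C.S v u e : C.L) := by
    intro u hu
    obtain ⟨e, he⟩ := hq u hu
    refine ⟨e, ?_⟩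
    have h2 : q C.S v u 0 = q C.S v u e * q C.S v 0 e := by
      rw [q_mul C.S hu (B_zero C.S v), map_zero, z2_add]; simp
    have e2 := q_zero_conj H.inv e
    rw [inv_inv] at e2
    have e3 : g⁻¹ * (q C.S v u e : C.L) * g = (q C.S v u 0 : C.L) := by rw [← he]; group
    have h4 : q C.S v u e = q C.S v u 0 * q C.S v 0 e := q_split C hu e
    calc g⁻¹ * ((q C.S v u 0 : C.L) : G) * g = g⁻¹ * (((q C.S v u e : C.L) : G) * (q C.S v 0 e : C.L)) * g := by
          nth_rewrite 1 [h2]; rfl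
      _ = (g⁻¹ * (q C.S v u e : C.L) * g) * (g⁻¹ * (q C.S v 0 e : C.L) * g) := by group
      _ = ((q C.S v u 0 * q C.S v 0 e : C.L) : G) := by rw [e3, e2]; rfl
      _ = _ := by rw [← h4]
  have hmem : y * m⁻¹ ∈ QU C.S (ln v) := by
    constructor
    · intro u hu
      rcases mem_ln.1 hu with rfl | rfl
      · exact map_zero _
      · rw [C.S.ρ_mul, ← hmv, C.S.ρ_inv_apply, hmv, hyv]
    · intro x hx
      have hmi : m⁻¹ ∈ PU C.S (ln v) := inv_mem hm
      set u := C.S.ρ m⁻¹ x with hu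
      have huP : C.S.B u v = 0 := (mem_perp_ln C.S).1 (PU_perp C.S hmi hx)
      have hmu : C.S.ρ m u = x := C.S.ρ_apply_inv m x
      have h1 : (y * q C.S v u 0 * y⁻¹ : C.L) = q C.S v (C.S.ρ y u) 0 := by rw [q_conj, hyv]
      have h2 := conj_lift C hy' (q C.S v u 0)
      rw [h1] at h2
      obtain ⟨e1, he1⟩ := hqi u huP
      have hmq : m * q C.S v u e1 * m⁻¹ = q C.S v x e1 := by rw [q_conj, hmv, hmu]
      have hmq' : (m : G) * (q C.S v u e1 : C.L) * (m : G)⁻¹ = (q C.S v x e1 : C.L) := congrArg Subtype.val hmq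
      have hxv : C.S.B x v = 0 := (mem_perp_ln C.S).1 hx
      obtain ⟨e2, he2⟩ := hqe x hxv e1
      have h3 : g * (m : G) * g⁻¹ * (q C.S v u 0 : C.L) * (g * (m : G) * g⁻¹)⁻¹ = (q C.S v x e2 : C.L) := by
        calc g * (m : G) * g⁻¹ * (q C.S v u 0 : C.L) * (g * (m : G) * g⁻¹)⁻¹ =
            g * (m * (g⁻¹ * (q C.S v u 0 : C.L) * g) * (m : G)⁻¹) * g⁻¹ := by group
          _ = _ := by rw [he1, hmq', he2]
      rw [h3] at h2
      have h4 := (q_inj C.S hv hxv (by rw [← hyv, C.S.inv]; exact huP) (Subtype.ext h2)).1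
      rw [C.S.ρ_mul, add_comm]; exact h4
  refine ⟨y * m⁻¹, hmem, ?_⟩
  rw [inv_mul_cancel_right]
  exact hy'

theorem commute_q (hv : v ≠ 0) (H : Nrm C (ln v) (C.S.τ v) g)
    (hq : ∀ u, C.S.B u v = 0 → ∃ e : ZMod 2, g * (q C.S v u 0 : C.L) * g⁻¹ = (q C.S v u e : C.L))
    {u : V} (hu : C.S.B u v = 0) (e : ZMod 2) : g * (q C.S v u e : C.L) * g⁻¹ = (q C.S v u e : C.L) := by
  have hfinV := C.finV
  by_cases hul : u ∈ ln v
  · rw [q_ln C hul]; exact q_zero_conj H e
  · obtain ⟨w, hw, hwu⟩ := sep C.S hul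
    rw [mem_perp_ln] at hw
    -- `q v u 1 = [q v w 0, τ u]`
    have h1 : q C.S v u 1 = q C.S v w 0 * (C.S.τ u * q C.S v w 0 * (C.S.τ u)⁻¹) := by
      have := q_comm_τ C.S hu hw (0 : ZMod 2)
      rw [hwu, one_smul] at this
      rw [← this, C.S.τ_inv]; simp only [mul_assoc]
    obtain ⟨c, hc⟩ := hq w hw
    obtain ⟨a, ha, ha'⟩ := exists_q hv H hq (τ_mem_PU C.S ((mem_perp_ln C.S).2 hu))
    have h2 := conj_lift C ha' (q C.S v w c)
    obtain ⟨a', a'', ha1, rfl⟩ := mem_QU_ln C.S hv ha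
    have h3 : q C.S v a' a'' * C.S.τ u * q C.S v w c * (q C.S v a' a'' * C.S.τ u)⁻¹ = q C.S v (w + u) c := by
      have e1 : q C.S v a' a'' * C.S.τ u * q C.S v w c * (q C.S v a' a'' * C.S.τ u)⁻¹ =
          q C.S v a' a'' * (C.S.τ u * q C.S v w c * (C.S.τ u)⁻¹) * (q C.S v a' a'')⁻¹ := by group
      rw [e1, C.S.τ_inv, τ_conj_q C.S hu, hwu, one_smul,
        q_comm C.S ha1 (by rw [B_add, hw, hu, add_zero]), mul_inv_cancel_right]
    rw [h3] at h2
    have h4 : g * (q C.S v u 1 : C.L) * g⁻¹ = (q C.S v u 1 : C.L) := by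
      have e1 : q C.S v w c * q C.S v (w + u) c = q C.S v u 1 := by
        rw [q_mul C.S hw (by rw [B_add, hw, hu, add_zero]), aac, z2_add, zero_add, map_add, C.S.alt, zero_add,
          hwu]
      nth_rewrite 1 [h1]
      calc g * (((q C.S v w 0 : C.L) : G) * (((C.S.τ u : C.L) : G) * (q C.S v w 0 : C.L) *
          ((C.S.τ u : C.L) : G)⁻¹)) * g⁻¹ = (g * (q C.S v w 0 : C.L) * g⁻¹) *
            (g * ((C.S.τ u : C.L) : G) * g⁻¹ * (g * (q C.S v w 0 : C.L) * g⁻¹) *
              (g * ((C.S.τ u : C.L) : G) * g⁻¹)⁻¹) := by group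
        _ = ((q C.S v w c * q C.S v (w + u) c : C.L) : G) := by rw [hc, h2]; rfl
        _ = _ := by rw [e1]
    have h5 : q C.S v u e = q C.S v u 1 * q C.S v 0 (1 + e) := by
      rw [q_mul C.S hu (B_zero C.S v), map_zero]
      simp only [add_zero]
      rw [z2_add']
    have e2 := q_zero_conj H (1 + e)
    rw [h5]
    calc g * (((q C.S v u 1 : C.L) : G) * (q C.S v 0 (1 + e) : C.L)) * g⁻¹ =
        (g * (q C.S v u 1 : C.L) * g⁻¹) * (g * (q C.S v 0 (1 + e) : C.L) * g⁻¹) := by group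
      _ = _ := by rw [h4, e2]; rfl

/-- a t.i. triple in `v^⊥` -/
theorem exists_triple (C : Ctx G V) (v w : V) :
    ∃ b c, C.S.B b v = 0 ∧ C.S.B c v = 0 ∧ C.S.B w b = 0 ∧ C.S.B w c = 0 ∧ C.S.B b c = 0 ∧
      b ∉ pl v w ∧ c ∉ pl v w ⊔ ln b := by
  have hfinV := C.finV
  have h256 := C.cardV
  obtain ⟨b, hb, hb'⟩ := room C.S h256 (A := pl v w) (A' := pl v w) (by
    have := finrank_pl_le v w; omega)
  obtain ⟨c, hc, hc'⟩ := room C.S h256 (A := pl v w ⊔ ln b) (A' := pl v w ⊔ ln b) (by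
    have := finrank_pl_le v w
    have := finrank_sup_ln_le (pl v w) b
    omega)
  rw [mem_perp_sup, mem_perp_pl, mem_perp_ln] at hc
  rw [mem_perp_pl] at hb
  refine ⟨b, c, hb.1, hc.1.1, by rw [C.S.symm]; exact hb.2, by rw [C.S.symm]; exact hc.1.2,
    by rw [C.S.symm]; exact hc.2, hb', hc'⟩

/-- no `t` in the commutators with the transvections of `v^⊥` -/
theorem exists_q_τ (hv : v ≠ 0) (H : Nrm C (ln v) (C.S.τ v) g)
    (hq : ∀ u, C.S.B u v = 0 → ∃ e : ZMod 2, g * (q C.S v u 0 : C.L) * g⁻¹ = (q C.S v u e : C.L))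
    {w : V} (hw : C.S.B w v = 0) :
    ∃ a ∈ QU C.S (ln v), g * (C.S.τ w : C.L) * g⁻¹ = ((a * C.S.τ w : C.L) : G) := by
  have hfinV := C.finV
  by_cases hwl : w ∈ ln v
  · refine ⟨1, one_mem _, ?_⟩
    rw [one_mul]
    rcases mem_ln.1 hwl with rfl | rfl
    · rw [C.S.τ_zero]
      change g * (1 : G) * g⁻¹ = 1
      group
    · exact H.hz
  obtain ⟨a, ha, ha'⟩ := exists_q hv H hq (τ_mem_PU C.S ((mem_perp_ln C.S).2 hw))
  rcases ha' with ha' | ha'
  · exact ⟨a, ha, ha'⟩
  exfalso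
  -- the `t`-part is constant
  have key : ∀ w', C.S.B w' v = 0 → w' ∉ ln v → ∃ y : C.L, g * (C.S.τ w' : C.L) * g⁻¹ = C.t * (y : G) := by
    intro w' hw' hwl'
    obtain ⟨k, hkv, hkw, hk⟩ := trans_vec_perp C.S hwl hwl' hw hw'
    obtain ⟨b, hb, hb'⟩ := exists_q hv H hq (TG_le_PU C.S hk)
    have h1 : k * C.S.τ w * k⁻¹ = C.S.τ w' := by rw [C.S.conj_τ, hkw]
    have h1' : (k : G) * (C.S.τ w : C.L) * (k : G)⁻¹ = (C.S.τ w' : C.L) := congrArg Subtype.val h1
    have h2 := conj_lift C hb' (a * C.S.τ w)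
    refine ⟨b * k * (a * C.S.τ w) * (b * k)⁻¹, ?_⟩
    rw [← h2]
    have h3 : g * (k : G) * g⁻¹ * C.t * (g * (k : G) * g⁻¹)⁻¹ = C.t := by
      have h4 : g * (k : G) * g⁻¹ ∈ TX C ⊤ := ⟨b * k, Subgroup.mem_top _, hb'⟩
      rw [TX_comm_t C h4]; group
    calc g * ((C.S.τ w' : C.L) : G) * g⁻¹ = g * ((k : G) * (C.S.τ w : C.L) * (k : G)⁻¹) * g⁻¹ := by rw [h1']
      _ = g * (k : G) * g⁻¹ * (g * (C.S.τ w : C.L) * g⁻¹) * (g * (k : G) * g⁻¹)⁻¹ := by group
      _ = g * (k : G) * g⁻¹ * (C.t * ((a * C.S.τ w : C.L) : G)) * (g * (k : G) * g⁻¹)⁻¹ := by rw [ha']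
      _ = (g * (k : G) * g⁻¹ * C.t * (g * (k : G) * g⁻¹)⁻¹) *
          (g * (k : G) * g⁻¹ * ((a * C.S.τ w : C.L) : G) * (g * (k : G) * g⁻¹)⁻¹) := by group
      _ = _ := by rw [h3]
  obtain ⟨b, c, hbv, hcv, hwb, hwc, hbc, hb, hc⟩ := exists_triple C v w
  have h7 := seven C.S hwb hwc hbc
  have hln : ∀ x, x ∉ pl v w → x ∉ ln v := fun x hx h => hx (by rw [pl_eq]; exact Submodule.mem_sup_left h)
  have hwlp : w ∈ pl v w := right_mem_pl v w
  have hcs : ∀ x, x ∈ pl v w ⊔ ln b → x + c ∉ ln v := by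
    intro x hx h
    apply hc
    have h1 : c = x + (x + c) := (aac _ _).symm
    rw [h1]
    exact add_mem hx (Submodule.mem_sup_left (by rw [pl_eq]; exact Submodule.mem_sup_left h))
  have hb0 : b ∈ pl v w ⊔ ln b := Submodule.mem_sup_right (self_mem_ln b)
  have hw0 : w ∈ pl v w ⊔ ln b := Submodule.mem_sup_left hwlp
  obtain ⟨y1, e1⟩ := key w hw hwl
  obtain ⟨y2, e2⟩ := key b hbv (hln b hb)
  obtain ⟨y3, e3⟩ := key c hcv (by have := hcs 0 (zero_mem _); rwa [zero_add] at this)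
  obtain ⟨y4, e4⟩ := key (w + b) (by rw [B_add, hw, hbv, add_zero]) (hln _ (fun h => hb (by
    have := add_mem hwlp h
    rwa [aac] at this)))
  obtain ⟨y5, e5⟩ := key (w + c) (by rw [B_add, hw, hcv, add_zero]) (hcs w hw0)
  obtain ⟨y6, e6⟩ := key (b + c) (by rw [B_add, hbv, hcv, add_zero]) (hcs b hb0)
  obtain ⟨y7, e7⟩ := key (w + b + c) (by rw [B_add, B_add, hw, hbv, hcv, add_zero, add_zero])
    (hcs _ (add_mem hw0 hb0))
  have h7' : ((C.S.τ w : C.L) : G) * (C.S.τ b : C.L) * (C.S.τ c : C.L) * (C.S.τ (w + b) : C.L) *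
      (C.S.τ (w + c) : C.L) * (C.S.τ (b + c) : C.L) * (C.S.τ (w + b + c) : C.L) = 1 := congrArg Subtype.val h7
  have h8 : (g * ((C.S.τ w : C.L) : G) * g⁻¹) * (g * (C.S.τ b : C.L) * g⁻¹) * (g * (C.S.τ c : C.L) * g⁻¹) *
      (g * (C.S.τ (w + b) : C.L) * g⁻¹) * (g * (C.S.τ (w + c) : C.L) * g⁻¹) *
      (g * (C.S.τ (b + c) : C.L) * g⁻¹) * (g * (C.S.τ (w + b + c) : C.L) * g⁻¹) = 1 := by
    have : (g * ((C.S.τ w : C.L) : G) * g⁻¹) * (g * (C.S.τ b : C.L) * g⁻¹) * (g * (C.S.τ c : C.L) * g⁻¹) *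
      (g * (C.S.τ (w + b) : C.L) * g⁻¹) * (g * (C.S.τ (w + c) : C.L) * g⁻¹) *
      (g * (C.S.τ (b + c) : C.L) * g⁻¹) * (g * (C.S.τ (w + b + c) : C.L) * g⁻¹) =
      g * (((C.S.τ w : C.L) : G) * (C.S.τ b : C.L) * (C.S.τ c : C.L) * (C.S.τ (w + b) : C.L) *
      (C.S.τ (w + c) : C.L) * (C.S.τ (b + c) : C.L) * (C.S.τ (w + b + c) : C.L)) * g⁻¹ := by group
    rw [this, h7']; group
  rw [e1, e2, e3, e4, e5, e6, e7] at h8
  have pr : ∀ (x : G) (y : C.L), C.t * (y : G) * (C.t * x) = y * x := by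
    intro x y
    rw [← t_comm, tt_mid]
  have h9 : C.t * (y1 : G) * (C.t * (y2 : G)) * (C.t * (y3 : G)) * (C.t * (y4 : G)) * (C.t * (y5 : G)) *
      (C.t * (y6 : G)) * (C.t * (y7 : G)) = C.t * ((y1 * y2 * y3 * y4 * y5 * y6 * y7 : C.L) : G) := by
    have a1 := pr y2 y1
    have a2 := pr y4 y3
    have a3 := pr y6 y5
    calc C.t * (y1 : G) * (C.t * (y2 : G)) * (C.t * (y3 : G)) * (C.t * (y4 : G)) * (C.t * (y5 : G)) *
      (C.t * (y6 : G)) * (C.t * (y7 : G)) = (C.t * (y1 : G) * (C.t * (y2 : G))) *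
        (C.t * (y3 : G) * (C.t * (y4 : G))) * (C.t * (y5 : G) * (C.t * (y6 : G))) * (C.t * (y7 : G)) := by group
      _ = ((y1 * y2 * y3 * y4 * y5 * y6 : C.L) : G) * C.t * y7 := by
          rw [a1, a2, a3]
          change _ = (y1 : G) * y2 * y3 * y4 * y5 * y6 * C.t * y7
          group
      _ = _ := by rw [t_comm, mul_assoc]; rfl
  rw [h9] at h8
  have h10 : ((1 : C.L) : G) = C.t * ((y1 * y2 * y3 * y4 * y5 * y6 * y7 : C.L) : G) := h8.symm
  exact ne_t_mul C _ _ h10

theorem exists_isY (hv : v ≠ 0) (H : Nrm C (ln v) (C.S.τ v) g) : ∃ y, IsY C v y := by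
  have hfinV := C.finV
  obtain ⟨p, hp, hpq⟩ := long_p hv H
  set y0 := (p : G)⁻¹ * g with hy0
  have H0 : Nrm C (ln v) (C.S.τ v) y0 := by
    have := H.mul_left (inv_mem (TG_le_PU C.S hp))
    exact this
  have hcq : ∀ u, C.S.B u v = 0 → ∀ e, y0 * (q C.S v u e : C.L) * y0⁻¹ = (q C.S v u e : C.L) :=
    fun u hu e => commute_q hv H0 hpq hu e
  have hcq' : ∀ u, C.S.B u v = 0 → ∀ e, y0 * (q C.S v u e : C.L) = (q C.S v u e : C.L) * y0 :=
    fun u hu e => mul_inv_eq_iff_eq_mul.1 (hcq u hu e)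
  have hbG : C.b v * C.b v = 1 := C.b_sq v
  have hzb : y0 * C.b v * y0⁻¹ = C.b v := H0.hz
  have htb : y0 * C.t * y0⁻¹ = C.t * C.b v := H0.ht
  -- `y0²`
  have h1 : y0 * y0 * C.t = C.t * (y0 * y0) := by
    have : y0 * y0 * C.t * (y0 * y0)⁻¹ = C.t := by
      calc y0 * y0 * C.t * (y0 * y0)⁻¹ = y0 * (y0 * C.t * y0⁻¹) * y0⁻¹ := by group
        _ = y0 * (C.t * C.b v) * y0⁻¹ := by rw [htb]
        _ = (y0 * C.t * y0⁻¹) * (y0 * C.b v * y0⁻¹) := by group
        _ = _ := by rw [htb, hzb, mul_assoc, hbG, mul_one]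
    exact mul_inv_eq_iff_eq_mul.1 this
  obtain ⟨y, hy⟩ := exists_lift C h1
  have hbt : C.b v * C.t = C.t * C.b v := t_comm C (C.S.τ v)
  have hyL : y0 * y0 = y := by
    rcases hy with hy | hy
    · exact hy
    · exfalso
      have e1 : y0 * (C.t * y) * y0⁻¹ = C.t * y := by rw [← hy]; group
      have e2 : y0 * (y : G) * y0⁻¹ = C.b v * y := by
        have e3 : C.t * C.b v * (y0 * (y : G) * y0⁻¹) = C.t * y := by
          rw [← htb, ← e1]; group
        have e4 : C.b v * (y0 * (y : G) * y0⁻¹) = y := by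
          rw [mul_assoc] at e3
          exact mul_left_cancel e3
        calc y0 * (y : G) * y0⁻¹ = C.b v * (C.b v * (y0 * (y : G) * y0⁻¹)) := by
              rw [← mul_assoc, hbG, one_mul]
          _ = _ := by rw [e4]
      -- `y` commutes with `Q_v`, so it lies in `Q_v`
      have e5 : y ∈ QU C.S (ln v) := by
        apply mem_QU_of_commute C.S hv
        · apply Subtype.ext
          change (y : G) * C.b v = C.b v * y
          have e6 : y0 * y0 * C.b v = C.b v * (y0 * y0) := by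
            have e7 := mul_inv_eq_iff_eq_mul.1 hzb
            rw [mul_assoc, e7, ← mul_assoc, e7, mul_assoc]
          rw [hy] at e6
          have e8 : C.t * ((y : G) * C.b v) = C.t * (C.b v * y) := by
            rw [← mul_assoc, e6, ← mul_assoc, hbt, mul_assoc]
          exact mul_left_cancel e8
        · intro u hu
          apply Subtype.ext
          change (y : G) * (q C.S v u 0 : C.L) = (q C.S v u 0 : C.L) * y
          have e6 : y0 * y0 * (q C.S v u 0 : C.L) = (q C.S v u 0 : C.L) * (y0 * y0) := by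
            rw [mul_assoc, hcq' u hu, ← mul_assoc, hcq' u hu, mul_assoc]
          rw [hy] at e6
          have e8 : C.t * ((y : G) * (q C.S v u 0 : C.L)) = C.t * ((q C.S v u 0 : C.L) * y) := by
            rw [← mul_assoc, e6, ← mul_assoc, t_comm, mul_assoc]
          exact mul_left_cancel e8
      obtain ⟨u, e, hu, rfl⟩ := mem_QU_ln C.S hv e5
      rw [hcq u hu e] at e2
      have e9 : C.b v = 1 := by
        have := e2.symm
        exact mul_eq_right.1 this
      exact hv (C.S.τ_eq_one (Subtype.ext e9))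
  have hyQ : y ∈ QU C.S (ln v) := by
    apply mem_QU_of_commute C.S hv
    · apply Subtype.ext
      change (y : G) * C.b v = C.b v * y
      have e7 := mul_inv_eq_iff_eq_mul.1 hzb
      rw [← hyL, mul_assoc, e7, ← mul_assoc, e7, mul_assoc]
    · intro u hu
      apply Subtype.ext
      change (y : G) * (q C.S v u 0 : C.L) = (q C.S v u 0 : C.L) * y
      rw [← hyL, mul_assoc, hcq' u hu, ← mul_assoc, hcq' u hu, mul_assoc]
  obtain ⟨u, e, hu, rfl⟩ := mem_QU_ln C.S hv hyQ
  have huln : u ∈ ln v := by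
    apply mem_of_perp C.S
    intro w hw
    rw [mem_perp_ln] at hw
    obtain ⟨a, ha, ha'⟩ := exists_q_τ hv H0 hpq hw
    obtain ⟨a', a'', ha1, rfl⟩ := mem_QU_ln C.S hv ha
    have h2 : (y0 * y0) * ((C.S.τ w : C.L) : G) * (y0 * y0)⁻¹ = (C.S.τ w : C.L) := by
      calc (y0 * y0) * ((C.S.τ w : C.L) : G) * (y0 * y0)⁻¹ =
          y0 * (y0 * ((C.S.τ w : C.L) : G) * y0⁻¹) * y0⁻¹ := by group
        _ = y0 * (((q C.S v a' a'' : C.L) : G) * (C.S.τ w : C.L)) * y0⁻¹ := by rw [ha']; rfl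
        _ = (y0 * (q C.S v a' a'' : C.L) * y0⁻¹) * (y0 * (C.S.τ w : C.L) * y0⁻¹) := by group
        _ = ((q C.S v a' a'' * (q C.S v a' a'' * C.S.τ w) : C.L) : G) := by rw [hcq a' ha1, ha']; rfl
        _ = _ := by rw [← mul_assoc, q_sq C.S ha1, one_mul]
    rw [hyL] at h2
    have h3 : q C.S v u e * C.S.τ w = C.S.τ w * q C.S v u e :=
      mul_inv_eq_iff_eq_mul.1 (Subtype.ext h2)
    have h4 := τ_conj_q C.S hw (u := u) e
    rw [← h3, mul_assoc, C.S.τ_sq, mul_one] at h4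
    have h5 := (q_inj C.S hv hu (by
      rw [B_add, map_smul, LinearMap.smul_apply, hu, hw, smul_zero, add_zero]) h4).1
    rw [aac] at h5
    rcases z2 (C.S.B u w) with h6 | h6
    · rw [C.S.symm]; exact h6
    · exfalso
      rw [h6, one_smul] at h5
      have := (mem_perp_ln C.S).2 hu w h5
      rw [h6] at this
      exact one_ne_zero this
  rw [q_ln C huln] at hyL
  have hcb : y0 * C.b v = C.b v * y0 := mul_inv_eq_iff_eq_mul.1 hzb
  have htq : ∀ u, C.t * (q C.S v u 0 : C.L) = (q C.S v u 0 : C.L) * C.t := fun u => (t_comm C _).symm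
  rcases z2 e with rfl | rfl
  · rw [q_zero] at hyL
    have hsq : y0 * y0 = 1 := hyL
    have hinv : y0⁻¹ = y0 := inv_eq_of_mul_eq_one_right hsq
    refine ⟨y0, hsq, ?_, hcb, fun u hu => hcq' u hu 0⟩
    rw [hinv] at htb
    exact htb
  · rw [q_zero_one] at hyL
    have hsq : y0 * y0 = C.b v := hyL
    have hinv : y0⁻¹ = C.b v * y0 := by
      rw [inv_eq_iff_mul_eq_one, ← mul_assoc, hcb, mul_assoc, hsq, hbG]
    have h2 : y0 * C.t = C.t * C.b v * y0 := mul_inv_eq_iff_eq_mul.1 htb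
    refine ⟨C.t * y0, ?_, ?_, ?_, ?_⟩
    · calc C.t * y0 * (C.t * y0) = C.t * (y0 * C.t) * y0 := by group
        _ = C.t * C.t * C.b v * (y0 * y0) := by rw [h2]; group
        _ = 1 := by rw [C.tt, hsq, one_mul, hbG]
    · calc C.t * y0 * C.t * (C.t * y0) = C.t * y0 * (C.t * C.t) * y0 := by group
        _ = C.t * (y0 * y0) := by rw [C.tt]; group
        _ = _ := by rw [hsq]
    · calc C.t * y0 * C.b v = C.t * (y0 * C.b v) := by group
        _ = C.b v * (C.t * y0) := by rw [hcb, ← mul_assoc, ← hbt, mul_assoc]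
    · intro u hu
      rw [mul_assoc, hcq' u hu, ← mul_assoc, htq, mul_assoc]

/-- **Existence of `y_v`.** -/
theorem exists_y [Finite G] (C : Ctx G V) (h : ∃ g v, v ≠ 0 ∧ g * C.t * g⁻¹ = C.t * C.b v) {v : V}
    (hv : v ≠ 0) : ∃ y, IsY C v y := by
  obtain ⟨n, hn, hn'⟩ := start_long C h hv
  exact exists_isY hv (nrm_ln C hv hn hn')

end Cfsg.Agent.OddHalf.SpTwo

end

-- merged: Cfsg.Agent.OddHalf.SpTwo.LongType
section

/-!
# The type of `y_v`

For `y = y_v` (`IsY C v y`) there are `κ ∈ F₂` and `Q : v^⊥ → F₂` with `Q (u+w) = Q u + Q w + κ (u,w)`, `Q v = 0`, and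
`y b_w y = q v ((Q w + κ) w) (Q w) * b_w` for all `w ∈ v^⊥`.
-/

set_option autoImplicit false
set_option linter.unusedSimpArgs false

open scoped commutatorElement

namespace Cfsg.Agent.OddHalf.SpTwo

open Cfsg.Agent.StandardComponent.SpTwo
open Cfsg.Agent.OddHalf.SpTwoN

section Sp

variable {X V : Type*} [Group X] [AddCommGroup V] [Module (ZMod 2) V] (D : SpData X V)

theorem q_comm_τ_perp {v a w : V} (hwv : D.B w v = 0) (haw : D.B a w = 0) (e : ZMod 2) :
    D.τ w * q D v a e = q D v a e * D.τ w := by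
  have h := τ_conj_q D hwv (u := a) e
  rw [haw, zero_smul, add_zero] at h
  calc D.τ w * q D v a e = D.τ w * q D v a e * D.τ w * D.τ w := by rw [mul_assoc _ (D.τ w), D.τ_sq, mul_one]
    _ = _ := by rw [h]

theorem list_prod {v : V} {E : Submodule (ZMod 2) V} (hE : E ≤ perp D E) (hEv : ∀ x ∈ E, D.B x v = 0)
    (c r : V → ZMod 2) (l : List V) (hl : ∀ w ∈ l, w ∈ E) :
    (l.map fun w => q D v (c w • w) (r w) * D.τ w).prod =
      q D v (l.map fun w => c w • w).sum (l.map r).sum * (l.map D.τ).prod ∧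
      (l.map fun w => c w • w).sum ∈ E := by
  induction l with
  | nil =>
    constructor
    · simp [q_zero]
    · simp
  | cons w l ih =>
    obtain ⟨h1, h2⟩ := ih (fun x hx => hl x (List.mem_cons_of_mem w hx))
    have hw : w ∈ E := hl w List.mem_cons_self
    constructor
    · simp only [List.map_cons, List.prod_cons, List.sum_cons]
      rw [h1]
      have h3 : D.τ w * q D v (l.map fun w => c w • w).sum (l.map r).sum =
          q D v (l.map fun w => c w • w).sum (l.map r).sum * D.τ w :=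
        q_comm_τ_perp D (hEv w hw) (hE h2 w hw) _
      have h4 : D.B (c w • w) (l.map fun w => c w • w).sum = 0 := by
        rw [map_smul, LinearMap.smul_apply, hE hw _ h2, smul_zero]
      calc q D v (c w • w) (r w) * D.τ w * (q D v (l.map fun w => c w • w).sum (l.map r).sum *
          (l.map D.τ).prod) = q D v (c w • w) (r w) * (D.τ w * q D v (l.map fun w => c w • w).sum
            (l.map r).sum) * (l.map D.τ).prod := by simp only [mul_assoc]
        _ = (q D v (c w • w) (r w) * q D v (l.map fun w => c w • w).sum (l.map r).sum) *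
            (D.τ w * (l.map D.τ).prod) := by rw [h3]; simp only [mul_assoc]
        _ = _ := by
            rw [q_mul D (by rw [map_smul, LinearMap.smul_apply, hEv w hw, smul_zero]) (hEv _ h2), h4,
              add_zero]
    · simp only [List.map_cons, List.sum_cons]
      exact add_mem (Submodule.smul_mem _ _ hw) h2

/-- a common neighbour in `v^⊥` -/
theorem exists_neighbour [Finite V] {v w w' : V} (hw : w ∉ ln v) (hw' : w' ∉ ln v) :
    ∃ y, D.B y v = 0 ∧ D.B w y = 1 ∧ D.B y w' = 1 := by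
  obtain ⟨y1, hy1, h1⟩ := sep D hw
  obtain ⟨y2, hy2, h2⟩ := sep D hw'
  rw [mem_perp_ln] at hy1 hy2
  rcases z2 (D.B y1 w') with h3 | h3
  · rcases z2 (D.B y2 w) with h4 | h4
    · refine ⟨y1 + y2, ?_, ?_, ?_⟩
      · rw [B_add, hy1, hy2, add_zero]
      · rw [D.symm, B_add, h1, h4, add_zero]
      · rw [B_add, h2, h3, zero_add]
    · exact ⟨y2, hy2, by rw [D.symm]; exact h4, h2⟩
  · exact ⟨y1, hy1, by rw [D.symm]; exact h1, h3⟩

/-- `q v w 1 * τ w = τ (w + v)` -/
theorem q_mul_τ {v w : V} (hw : D.B w v = 0) : q D v w 1 * D.τ w = D.τ (w + v) := by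
  have h := τ_mul_τ_add D hw
  have h1 : D.τ w * D.τ (w + v) = D.τ (w + v) * D.τ w := D.τ_commute (by rw [map_add, D.alt, hw, add_zero])
  rw [← h, h1, mul_assoc, D.τ_sq, mul_one]

end Sp

variable {G V : Type*} [Group G] [AddCommGroup V] [Module (ZMod 2) V] {C : Ctx G V}
variable {v : V} {y : G}

namespace IsY

theorem inv_eq (h : IsY C v y) : y⁻¹ = y := inv_eq_of_mul_eq_one_right h.sq

theorem nrm (hv : v ≠ 0) (h : IsY C v y) : Nrm C (ln v) (C.S.τ v) y := by
  apply nrm_ln C hv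
  · rw [h.inv_eq]; exact h.conj_t
  · rw [h.comm_b, mul_inv_cancel_right]

theorem conj_q (h : IsY C v y) {u : V} (hu : C.S.B u v = 0) (e : ZMod 2) :
    y * (q C.S v u e : C.L) = (q C.S v u e : C.L) * y := by
  have h1 := h.comm u hu
  have h2 : y * (q C.S v 0 e : C.L) = (q C.S v 0 e : C.L) * y := by
    rcases z2 e with rfl | rfl
    · rw [q_zero]
      change y * (1 : G) = 1 * y
      rw [mul_one, one_mul]
    · rw [q_zero_one]; exact h.comm_b
  rw [q_split C hu e]
  change y * (((q C.S v u 0 : C.L) : G) * (q C.S v 0 e : C.L)) = ((q C.S v u 0 : C.L) : G) * (q C.S v 0 e : C.L) * y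
  rw [← mul_assoc, h1, mul_assoc, h2, mul_assoc]

/-- first form of the commutators -/
theorem exists_a (hv : v ≠ 0) (h : IsY C v y) {w : V} (hw : C.S.B w v = 0) :
    ∃ p r, C.S.B p v = 0 ∧ y * C.b w * y = ((q C.S v p r * C.S.τ w : C.L) : G) := by
  have hfinV := C.finV
  obtain ⟨a, ha, ha'⟩ := exists_q_τ hv (h.nrm hv) (fun u hu => ⟨0, by
    rw [h.comm u hu, mul_inv_cancel_right]⟩) hw
  obtain ⟨p, r, hp, rfl⟩ := mem_QU_ln C.S hv ha
  rw [h.inv_eq] at ha'
  exact ⟨p, r, hp, ha'⟩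

theorem mul_conj (h : IsY C v y) (a b : G) : y * (a * b) * y = (y * a * y) * (y * b * y) := by
  calc y * (a * b) * y = y * a * (y * y) * b * y := by rw [h.sq]; group
    _ = _ := by group

theorem exists_c (hv : v ≠ 0) (h : IsY C v y) {w : V} (hw : C.S.B w v = 0) :
    ∃ c r : ZMod 2, y * C.b w * y = ((q C.S v (c • w) r * C.S.τ w : C.L) : G) := by
  have hfinV := C.finV
  have h256 := C.cardV
  obtain ⟨p, r, hp, hpr⟩ := h.exists_a hv hw
  by_cases hwl : w ∈ ln v
  · -- trivial case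
    have h1 : y * C.b w * y = C.b w := by
      rcases mem_ln.1 hwl with rfl | rfl
      · rw [C.b_zero, mul_one, h.sq]
      · rw [h.comm_b, mul_assoc, h.sq, mul_one]
    refine ⟨0, 0, ?_⟩
    rw [h1, zero_smul, q_zero, one_mul]; rfl
  have key : ∀ z ∈ perp C.S (pl v w), z ∉ pl v w → C.S.B p z = 0 := by
    intro z hz hzn
    rw [mem_perp_pl] at hz
    obtain ⟨p', r', hp', hpr'⟩ := h.exists_a hv hz.1
    have hc : C.S.τ w * C.S.τ z = C.S.τ z * C.S.τ w := C.S.τ_commute (by rw [C.S.symm]; exact hz.2)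
    have hcG : C.b w * C.b z = C.b z * C.b w := congrArg Subtype.val hc
    have h1 : (q C.S v p r * C.S.τ w) * (q C.S v p' r' * C.S.τ z) =
        (q C.S v p' r' * C.S.τ z) * (q C.S v p r * C.S.τ w) := by
      apply Subtype.ext
      change ((q C.S v p r * C.S.τ w : C.L) : G) * ((q C.S v p' r' * C.S.τ z : C.L) : G) =
        ((q C.S v p' r' * C.S.τ z : C.L) : G) * ((q C.S v p r * C.S.τ w : C.L) : G)
      rw [← hpr, ← hpr', ← h.mul_conj, ← h.mul_conj, hcG]
    have h2 : (q C.S v p r * C.S.τ w) * (q C.S v p' r' * C.S.τ z) =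
        q C.S v p r * (C.S.τ w * q C.S v p' r' * C.S.τ w) * (C.S.τ w * C.S.τ z) := by
      have : C.S.τ w * (C.S.τ w * C.S.τ z) = C.S.τ z := by rw [← mul_assoc, C.S.τ_sq, one_mul]
      simp only [mul_assoc, this]
    have h3 : (q C.S v p' r' * C.S.τ z) * (q C.S v p r * C.S.τ w) =
        q C.S v p' r' * (C.S.τ z * q C.S v p r * C.S.τ z) * (C.S.τ w * C.S.τ z) := by
      have : C.S.τ z * (C.S.τ w * C.S.τ z) = C.S.τ w := by
        rw [hc, ← mul_assoc, C.S.τ_sq, one_mul]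
      simp only [mul_assoc, this]
    rw [h2, h3, τ_conj_q C.S hw, τ_conj_q C.S hz.1] at h1
    have h4 := mul_right_cancel h1
    have e1 : C.S.B (p' + C.S.B p' w • w) v = 0 := by
      rw [B_add, map_smul, LinearMap.smul_apply, hp', hw, smul_zero, add_zero]
    have e2 : C.S.B (p + C.S.B p z • z) v = 0 := by
      rw [B_add, map_smul, LinearMap.smul_apply, hp, hz.1, smul_zero, add_zero]
    rw [q_mul C.S hp e1, q_mul C.S hp' e2] at h4
    have h5 := (q_inj C.S hv (by rw [B_add, hp, e1, add_zero]) (by rw [B_add, hp', e2, add_zero]) h4).1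
    have h6 : p + (p' + C.S.B p' w • w) + (p' + (p + C.S.B p z • z)) =
        (C.S.B p' w • w + C.S.B p z • z) + ((p + p) + (p' + p')) := by abel
    rw [h6, aa, aa, add_zero, add_zero] at h5
    rcases z2 (C.S.B p z) with h7 | h7
    · exact h7
    · exfalso
      rw [h7, one_smul] at h5
      apply hzn
      have h8 : z = C.S.B p' w • w + (C.S.B p' w • w + z) := (aac _ _).symm
      rw [h8]
      refine add_mem (Submodule.smul_mem _ _ (right_mem_pl v w)) ?_
      rw [pl_eq]; exact Submodule.mem_sup_left h5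
  have hpp : p ∈ pl v w := by
    apply mem_of_perp C.S
    intro z hz
    rw [C.S.symm]
    by_cases hzn : z ∈ pl v w
    · obtain ⟨z', hz', hzn'⟩ := room C.S h256 (A := pl v w) (A' := pl v w) (by
        have := finrank_pl_le v w; omega)
      have h1 := key z' hz' hzn'
      have h2 := key (z + z') (add_mem hz hz') (fun h => hzn' (by
        have := add_mem hzn h
        rwa [aac] at this))
      rw [map_add, h1, add_zero] at h2
      exact h2
    · exact key z hz hzn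
  rcases mem_pl.1 hpp with rfl | rfl | rfl | rfl
  · exact ⟨0, r, by rw [zero_smul]; exact hpr⟩
  · exact ⟨0, r, by rw [zero_smul, ← q_self]; exact hpr⟩
  · exact ⟨1, r, by rw [one_smul]; exact hpr⟩
  · exact ⟨1, r, by rw [one_smul, ← q_add_self C.S hw, add_comm w v]; exact hpr⟩

/-- **The type of `y_v`** -/
theorem exists_type (hv : v ≠ 0) (h : IsY C v y) : ∃ (κ : ZMod 2) (Q : V → ZMod 2),
    (∀ w, C.S.B w v = 0 → y * C.b w * y = ((q C.S v ((Q w + κ) • w) (Q w) * C.S.τ w : C.L) : G)) ∧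
    (∀ u w, C.S.B u v = 0 → C.S.B w v = 0 → Q (u + w) = Q u + Q w + κ * C.S.B u w) ∧ Q v = 0 := by
  classical
  have hfinV := C.finV
  have h256 := C.cardV
  have h0 : ∀ w, C.S.B w v = 0 → ∃ c r : ZMod 2, y * C.b w * y = ((q C.S v (c • w) r * C.S.τ w : C.L) : G) :=
    fun w hw => h.exists_c hv hw
  choose! c r hcr using h0
  have hsm : ∀ (a : ZMod 2) w, C.S.B w v = 0 → C.S.B (a • w) v = 0 := by
    intro a w hw
    rw [map_smul, LinearMap.smul_apply, hw, smul_zero]
  -- uniqueness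
  have huniq : ∀ w, C.S.B w v = 0 → w ∉ ln v → ∀ a a' b b' : ZMod 2,
      q C.S v (a • w) b = q C.S v (a' • w) b' → a = a' ∧ b = b' := by
    intro w hw hwl a a' b b' heq
    have h1 := q_inj C.S hv (hsm a w hw) (hsm a' w hw) heq
    refine ⟨?_, h1.2⟩
    rw [← add_smul] at h1
    rcases z2 (a + a') with h2 | h2
    · exact eq_of_add _ _ h2
    · rw [h2, one_smul] at h1; exact absurd h1.1 hwl
  -- R1
  have hR1 : ∀ u w, C.S.B u v = 0 → C.S.B w v = 0 → C.S.B u w = 1 →
      c (u + w) = c u + c w ∧ r (u + w) = r w + c u := by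
    intro u w hu hw huw
    have hwu : C.S.B w u = 1 := by rw [C.S.symm]; exact huw
    have huwv : C.S.B (u + w) v = 0 := by rw [B_add, hu, hw, add_zero]
    have huwl : u + w ∉ ln v := by
      intro h1
      have h2 : C.S.B u (u + w) = 0 := (mem_perp_ln C.S).2 hu _ h1
      rw [map_add, C.S.alt, zero_add, huw] at h2
      exact one_ne_zero h2
    have hτ : C.S.τ (u + w) = C.S.τ u * C.S.τ w * C.S.τ u := by
      rw [τ_conj, hwu, one_smul, add_comm]
    have e1 : y * C.b (u + w) * y = (y * C.b u * y) * (y * C.b w * y) * (y * C.b u * y) := by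
      have : C.b (u + w) = C.b u * C.b w * C.b u := congrArg Subtype.val hτ
      rw [this, h.mul_conj, h.mul_conj]
    rw [hcr _ huwv, hcr u hu, hcr w hw] at e1
    have e2 : q C.S v (c (u + w) • (u + w)) (r (u + w)) * C.S.τ (u + w) =
        (q C.S v (c u • u) (r u) * C.S.τ u) * (q C.S v (c w • w) (r w) * C.S.τ w) *
          (q C.S v (c u • u) (r u) * C.S.τ u) := Subtype.ext e1
    have e3 : (q C.S v (c u • u) (r u) * C.S.τ u) * (q C.S v (c w • w) (r w) * C.S.τ w) *
          (q C.S v (c u • u) (r u) * C.S.τ u) = q C.S v (c u • u) (r u) *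
          (C.S.τ u * q C.S v (c w • w) (r w) * C.S.τ u) *
          (C.S.τ u * (C.S.τ w * q C.S v (c u • u) (r u) * C.S.τ w) * C.S.τ u) *
          (C.S.τ u * C.S.τ w * C.S.τ u) := by
      have a1 : ∀ x, C.S.τ u * (C.S.τ u * x) = x := fun x => by rw [← mul_assoc, C.S.τ_sq, one_mul]
      have a2 : ∀ x, C.S.τ w * (C.S.τ w * x) = x := fun x => by rw [← mul_assoc, C.S.τ_sq, one_mul]
      simp only [mul_assoc, a1, a2]
    have e4 : C.S.B (u + C.S.B u w • w) v = 0 := by rw [huw, one_smul]; exact huwv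
    have b1 : C.S.B (c w • w) u = c w := by rw [map_smul, LinearMap.smul_apply, hwu, smul_eq_mul, mul_one]
    have b2 : C.S.B (c u • u) w = c u := by rw [map_smul, LinearMap.smul_apply, huw, smul_eq_mul, mul_one]
    have b3 : C.S.B (c u • u + c u • w) u = c u := by
      rw [B_add, map_smul, LinearMap.smul_apply, map_smul, LinearMap.smul_apply, C.S.alt, hwu, smul_zero,
        zero_add, smul_eq_mul, mul_one]
    rw [e3, hτ, τ_conj_q C.S hu, τ_conj_q C.S hw, τ_conj_q C.S hu, b1, b2, b3] at e2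
    have e5 := mul_right_cancel e2
    have v1 : C.S.B (c w • w + c w • u) v = 0 := by
      rw [B_add, hsm _ _ hw, hsm _ _ hu, add_zero]
    have v2 : C.S.B (c u • u + c u • w + c u • u) v = 0 := by
      rw [B_add, B_add, hsm _ _ hw, hsm _ _ hu, add_zero, add_zero]
    rw [q_mul C.S (hsm _ _ hu) v1, q_mul C.S (by rw [B_add, hsm _ _ hu, v1, add_zero]) v2] at e5
    have e6 : c u • u + (c w • w + c w • u) + (c u • u + c u • w + c u • u) = (c u + c w) • (u + w) := by
      rw [add_smul, smul_add, smul_add]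
      have : c u • u + (c w • w + c w • u) + (c u • u + c u • w + c u • u) =
        c u • u + c u • w + (c w • u + c w • w) + (c u • u + c u • u) := by abel
      rw [this, aa, add_zero]
    rw [e6] at e5
    obtain ⟨e7, e8⟩ := huniq _ huwv huwl _ _ _ _ e5
    refine ⟨e7, ?_⟩
    rw [e8]
    simp only [map_add, LinearMap.add_apply, map_smul, LinearMap.smul_apply, smul_eq_mul, C.S.alt, huw, hwu]
    generalize c u = a1
    generalize c w = a2
    generalize r u = a3
    generalize r w = a4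
    revert a1 a2 a3 a4
    decide
  -- `κ`
  obtain ⟨w0, hw0, hw0l⟩ := room C.S h256 (A := ln v) (A' := ln v) (by
    have := finrank_ln_le v; omega)
  rw [mem_perp_ln] at hw0
  set κ := c w0 + r w0 with hκ
  have hκ1 : ∀ u w, C.S.B u v = 0 → C.S.B w v = 0 → C.S.B u w = 1 → c u + r u = c w + r w := by
    intro u w hu hw huw
    have h1 := (hR1 u w hu hw huw).2
    have h2 := (hR1 w u hw hu (by rw [C.S.symm]; exact huw)).2
    rw [add_comm w u, h1] at h2
    revert h2
    generalize c u = a1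
    generalize c w = a2
    generalize r u = a3
    generalize r w = a4
    revert a1 a2 a3 a4
    decide
  have hκ2 : ∀ w, C.S.B w v = 0 → w ∉ ln v → c w + r w = κ := by
    intro w hw hwl
    obtain ⟨a, ha, ha1, ha2⟩ := exists_neighbour C.S hwl hw0l
    rw [hκ1 w a hw ha ha1, hκ1 a w0 ha hw0 ha2]
  -- R3
  have hR3 : ∀ w, C.S.B w v = 0 → w ∉ ln v → c (w + v) = c w ∧ r (w + v) = r w := by
    intro w hw hwl
    have hwv : C.S.B (w + v) v = 0 := by rw [B_add, hw, C.S.alt, add_zero]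
    have h1 := q_mul_τ C.S hw
    have h1' : C.b (w + v) = ((q C.S v w 1 : C.L) : G) * C.b w := congrArg Subtype.val h1.symm
    have h2 : y * C.b (w + v) * y = ((q C.S v w 1 : C.L) : G) * (y * C.b w * y) := by
      rw [h1']
      calc y * (((q C.S v w 1 : C.L) : G) * C.b w) * y = (y * (q C.S v w 1 : C.L)) * C.b w * y := by group
        _ = _ := by rw [h.conj_q hw 1]; group
    rw [hcr _ hwv, hcr _ hw] at h2
    have h3 : q C.S v (c (w + v) • (w + v)) (r (w + v)) * C.S.τ (w + v) =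
        q C.S v w 1 * (q C.S v (c w • w) (r w) * C.S.τ w) := Subtype.ext h2
    have h4 : q C.S v w 1 * (q C.S v (c w • w) (r w) * C.S.τ w) = q C.S v (c w • w) (r w) * C.S.τ (w + v) := by
      rw [← mul_assoc, q_comm C.S hw (hsm _ _ hw), mul_assoc, h1]
    rw [h4] at h3
    have h5 := mul_right_cancel h3
    have h6 : q C.S v (c (w + v) • (w + v)) (r (w + v)) = q C.S v (c (w + v) • w) (r (w + v)) := by
      rcases z2 (c (w + v)) with h7 | h7
      · rw [h7, zero_smul, zero_smul]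
      · rw [h7, one_smul, one_smul, q_add_self C.S hw]
    rw [h6] at h5
    exact huniq w hw hwl _ _ _ _ h5
  -- R2
  have hR2 : ∀ u w, C.S.B u v = 0 → C.S.B w v = 0 → C.S.B u w = 0 → u ∉ ln v → w ∉ pl v u →
      c (u + w) = c u + c w + κ := by
    intro u w hu hw huw hul hwl
    obtain ⟨x, hx, hxn⟩ := room C.S h256 (A := pl v u ⊔ ln w) (A' := pl v u ⊔ ln w) (by
      have := finrank_pl_le v u
      have := finrank_sup_ln_le (pl v u) w
      omega)
    rw [mem_perp_sup, mem_perp_pl, mem_perp_ln] at hx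
    set E : Submodule (ZMod 2) V := (ln u ⊔ ln w) ⊔ ln x with hE
    have huE : u ∈ E := Submodule.mem_sup_left (Submodule.mem_sup_left (self_mem_ln u))
    have hwE : w ∈ E := Submodule.mem_sup_left (Submodule.mem_sup_right (self_mem_ln w))
    have hxE : x ∈ E := Submodule.mem_sup_right (self_mem_ln x)
    have hmemE : ∀ z, z ∈ perp C.S E ↔ C.S.B z u = 0 ∧ C.S.B z w = 0 ∧ C.S.B z x = 0 := by
      intro z
      rw [hE, mem_perp_sup, mem_perp_sup, mem_perp_ln, mem_perp_ln, mem_perp_ln, and_assoc]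
    have hEt : E ≤ perp C.S E := by
      have hxu : C.S.B x u = 0 := hx.1.2
      have hxw : C.S.B x w = 0 := hx.2
      have hux : C.S.B u x = 0 := by rw [C.S.symm]; exact hxu
      have hwx : C.S.B w x = 0 := by rw [C.S.symm]; exact hxw
      have hwu : C.S.B w u = 0 := by rw [C.S.symm]; exact huw
      refine sup_le (sup_le ?_ ?_) ?_ <;> (intro z hz; rw [hmemE])
      · rcases mem_ln.1 hz with rfl | rfl
        · simp
        · exact ⟨C.S.alt _, huw, hux⟩
      · rcases mem_ln.1 hz with rfl | rfl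
        · simp
        · exact ⟨hwu, C.S.alt _, hwx⟩
      · rcases mem_ln.1 hz with rfl | rfl
        · simp
        · exact ⟨hxu, hxw, C.S.alt _⟩
    have hEv : ∀ z ∈ E, C.S.B z v = 0 := by
      have h1 : E ≤ perp C.S (ln v) := by
        refine sup_le (sup_le ?_ ?_) ?_ <;> (intro z hz; rw [mem_perp_ln])
        · rcases mem_ln.1 hz with rfl | rfl
          · simp
          · exact hu
        · rcases mem_ln.1 hz with rfl | rfl
          · simp
          · exact hw
        · rcases mem_ln.1 hz with rfl | rfl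
          · simp
          · exact hx.1.1
      intro z hz
      exact (mem_perp_ln C.S).1 (h1 hz)
    let l : List V := [u, w, x, u + w, u + x, w + x, u + w + x]
    have hl : ∀ z ∈ l, z ∈ E := by
      intro z hz
      simp only [l, List.mem_cons, List.not_mem_nil, or_false] at hz
      rcases hz with rfl | rfl | rfl | rfl | rfl | rfl | rfl
      · exact huE
      · exact hwE
      · exact hxE
      · exact add_mem huE hwE
      · exact add_mem huE hxE
      · exact add_mem hwE hxE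
      · exact add_mem (add_mem huE hwE) hxE
    obtain ⟨h1, h2⟩ := list_prod C.S hEt hEv c r l hl
    have h7 : (l.map C.S.τ).prod = 1 := by
      have := seven C.S huw (hEt huE x hxE) (hEt hwE x hxE)
      simp only [l, List.map_cons, List.map_nil, List.prod_cons, List.prod_nil, mul_one]
      rw [← this]
      simp only [mul_assoc]
    -- the product is trivial
    have h8 : ∀ l' : List V, (∀ z ∈ l', C.S.B z v = 0) →
        y * ((l'.map C.S.τ).prod : C.L) * y =
          ((l'.map fun w => q C.S v (c w • w) (r w) * C.S.τ w).prod : C.L) := by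
      intro l'
      induction l' with
      | nil =>
        intro _
        simp only [List.map_nil, List.prod_nil]
        change y * (1 : G) * y = 1
        rw [mul_one, h.sq]
      | cons z l' ih =>
        intro hz
        have h9 := ih (fun a ha => hz a (List.mem_cons_of_mem z ha))
        simp only [List.map_cons, List.prod_cons]
        have h10 := hcr z (hz z List.mem_cons_self)
        change y * (((C.S.τ z : C.L) : G) * ((l'.map C.S.τ).prod : C.L)) * y =
          ((q C.S v (c z • z) (r z) * C.S.τ z : C.L) : G) *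
            ((l'.map fun w => q C.S v (c w • w) (r w) * C.S.τ w).prod : C.L)
        rw [h.mul_conj, h9, ← h10]; rfl
    have h9 := h8 l (fun z hz => hEv z (hl z hz))
    rw [h7, h1, h7, mul_one] at h9
    have h10 : q C.S v (l.map fun w => c w • w).sum (l.map r).sum = q C.S v 0 0 := by
      rw [q_zero]
      apply Subtype.ext
      change _ = (1 : G)
      rw [← h9]
      change y * (1 : G) * y = 1
      rw [mul_one, h.sq]
    obtain ⟨h11, h12⟩ := q_inj C.S hv (hEv _ h2) (B_zero C.S v) h10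
    rw [add_zero] at h11
    -- pair with a vector orthogonal to `v, u, w`
    obtain ⟨f, hf, hfx⟩ := sep C.S hxn
    rw [mem_perp_sup, mem_perp_pl, mem_perp_ln] at hf
    have h13 : C.S.B f (l.map fun w => c w • w).sum = 0 := (mem_perp_ln C.S).2 hf.1.1 _ h11
    simp only [l, List.map_cons, List.map_nil, List.sum_cons, List.sum_nil, add_zero, map_add, map_smul,
      smul_eq_mul, hf.1.2, hf.2, hfx, mul_zero, mul_one, zero_add] at h13
    simp only [l, List.map_cons, List.map_nil, List.sum_cons, List.sum_nil, add_zero] at h12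
    have hxl : ∀ z ∈ pl v u ⊔ ln w, z + x ∉ ln v := by
      intro z hz h
      apply hxn
      have h1 : x = z + (z + x) := (aac _ _).symm
      rw [h1]
      exact add_mem hz (Submodule.mem_sup_left (by rw [pl_eq]; exact Submodule.mem_sup_left h))
    have hu' : u ∈ pl v u ⊔ ln w := Submodule.mem_sup_left (right_mem_pl v u)
    have hw' : w ∈ pl v u ⊔ ln w := Submodule.mem_sup_right (self_mem_ln w)
    have k1 := hκ2 u hu hul
    have k2 := hκ2 w hw (fun h => hwl (by rw [pl_eq]; exact Submodule.mem_sup_left h))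
    have k3 := hκ2 x hx.1.1 (by have := hxl 0 (zero_mem _); rwa [zero_add] at this)
    have k4 := hκ2 (u + w) (hEv _ (add_mem huE hwE)) (fun h => hwl (by
      have h1 : w = u + (u + w) := (aac _ _).symm
      rw [h1]
      refine add_mem (right_mem_pl v u) ?_
      rw [pl_eq]; exact Submodule.mem_sup_left h))
    have k5 := hκ2 (u + x) (hEv _ (add_mem huE hxE)) (hxl u hu')
    have k6 := hκ2 (w + x) (hEv _ (add_mem hwE hxE)) (hxl w hw')
    have k7 := hκ2 (u + w + x) (hEv _ (add_mem (add_mem huE hwE) hxE)) (hxl _ (add_mem hu' hw'))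
    have kk : ∀ a b k : ZMod 2, a + b = k → b = a + k := by decide
    rw [kk _ _ _ k1, kk _ _ _ k2, kk _ _ _ k3, kk _ _ _ k4, kk _ _ _ k5, kk _ _ _ k6, kk _ _ _ k7] at h12
    have fin : ∀ (κ a1 a2 a3 a4 a5 a6 a7 : ZMod 2), a3 + (a5 + (a6 + a7)) = 0 →
        a1 + κ + (a2 + κ + (a3 + κ + (a4 + κ + (a5 + κ + (a6 + κ + (a7 + κ)))))) = 0 →
        a4 = a1 + a2 + κ := by decide
    exact fin _ _ _ _ _ _ _ _ h13 h12
  -- the quadratic function
  let Q : V → ZMod 2 := fun w => if w ∈ ln v then 0 else r w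
  have hQ0 : ∀ w ∈ ln v, Q w = 0 := fun w hw => if_pos hw
  have hQ1 : ∀ w, w ∉ ln v → Q w = r w := fun w hw => if_neg hw
  refine ⟨κ, Q, ?_, ?_, hQ0 v (self_mem_ln v)⟩
  · intro w hw
    by_cases hwl : w ∈ ln v
    · rw [hQ0 w hwl]
      have h1 : y * C.b w * y = C.b w := by
        rcases mem_ln.1 hwl with rfl | rfl
        · rw [C.b_zero, mul_one, h.sq]
        · rw [h.comm_b, mul_assoc, h.sq, mul_one]
      have h2 : q C.S v ((0 + κ) • w) 0 = 1 := by
        rw [q_ln C (Submodule.smul_mem _ _ hwl), q_zero]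
      rw [h1, h2, one_mul]; rfl
    · have h1 := hκ2 w hw hwl
      rw [hQ1 w hwl, hcr w hw]
      have h2 : r w + κ = c w := by
        rw [← h1]
        generalize c w = a1
        generalize r w = a2
        revert a1 a2
        decide
      rw [h2]
  · intro u w hu hw
    have hsum : ∀ a b : ZMod 2, a + b + b = a := by decide
    by_cases hul : u ∈ ln v
    · have hB : C.S.B u w = 0 := by rw [C.S.symm]; exact (mem_perp_ln C.S).2 hw u hul
      rw [hQ0 u hul, hB, mul_zero, add_zero, zero_add]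
      rcases mem_ln.1 hul with rfl | rfl
      · rw [zero_add]
      · by_cases hwl : w ∈ ln u
        · rw [hQ0 w hwl, hQ0 _ (add_mem hul hwl)]
        · have : u + w ∉ ln u := fun h => hwl (by
            have := add_mem hul h
            rwa [aac] at this)
          rw [hQ1 w hwl, hQ1 _ this, add_comm u w]
          exact (hR3 w hw hwl).2
    · by_cases hwl : w ∈ ln v
      · have hB : C.S.B u w = 0 := (mem_perp_ln C.S).2 hu w hwl
        rw [hQ0 w hwl, hB, mul_zero, add_zero, add_zero]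
        rcases mem_ln.1 hwl with rfl | rfl
        · rw [add_zero]
        · have : u + w ∉ ln w := fun h => hul (by
            have := add_mem h hwl
            rwa [aab] at this)
          rw [hQ1 u hul, hQ1 _ this]
          exact (hR3 u hu hul).2
      · rcases z2 (C.S.B u w) with hB | hB
        · by_cases hwp : w ∈ pl v u
          · rcases mem_pl.1 hwp with h1 | h1 | h1 | h1
            · exact absurd (h1 ▸ zero_mem _) hwl
            · exact absurd (h1 ▸ self_mem_ln v) hwl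
            · rw [h1, aa, hQ0 0 (zero_mem _), C.S.alt, mul_zero, add_zero, z2_add]
            · have h2 : u + w = v := by rw [h1, add_comm v u, aac]
              have h3 : Q w = Q u := by
                rw [hQ1 w hwl, hQ1 u hul, h1, add_comm v u]
                exact (hR3 u hu hul).2
              rw [h2, hQ0 v (self_mem_ln v), h3, hB, mul_zero, add_zero, z2_add]
          · have huwl : u + w ∉ ln v := fun h => hwp (by
              have h1 : w = u + (u + w) := (aac _ _).symm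
              rw [h1]
              refine add_mem (right_mem_pl v u) ?_
              rw [pl_eq]; exact Submodule.mem_sup_left h)
            have h1 := hR2 u w hu hw hB hul hwp
            have h2 := hκ2 u hu hul
            have h3 := hκ2 w hw hwl
            have h4 := hκ2 (u + w) (by rw [B_add, hu, hw, add_zero]) huwl
            rw [hQ1 u hul, hQ1 w hwl, hQ1 _ huwl, hB, mul_zero, add_zero]
            rw [h1] at h4
            have fin : ∀ (κ a1 a2 a3 a4 a5 : ZMod 2), a1 + a3 = κ → a2 + a4 = κ → a1 + a2 + κ + a5 = κ →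
                a5 = a3 + a4 := by decide
            exact fin _ _ _ _ _ _ h2 h3 h4
        · have huwl : u + w ∉ ln v := by
            intro h1
            have h2 : C.S.B u (u + w) = 0 := (mem_perp_ln C.S).2 hu _ h1
            rw [map_add, C.S.alt, zero_add, hB] at h2
            exact one_ne_zero h2
          have h1 := (hR1 u w hu hw hB).2
          have h2 := hκ2 u hu hul
          rw [hQ1 u hul, hQ1 w hwl, hQ1 _ huwl, hB, mul_one, h1, ← h2]
          generalize c u = a1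
          generalize r u = a3
          generalize r w = a4
          revert a1 a3 a4
          decide

end IsY

end Cfsg.Agent.OddHalf.SpTwo

end

-- merged: Cfsg.Agent.OddHalf.SpTwo.LongOut
section

/-!
# Output for the long roots

`HasType C v y κ Q`: `y b_w y = q v ((Q w + κ) w) (Q w) * b_w` for `w ∈ v^⊥`, `Q (u+w) = Q u + Q w + κ (u,w)` and `Q v = 0`.
* `IsY.unique`: `IsY C v y → IsY C v y' → ∃ p e, (p,v) = 0 ∧ y' = y * q v p e`;
* `exists_kappa`: one `κ` for all `v` and all `y_v`;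
* `IsY.exists_of_Q`: every `Q'` of the same kind is the `Q` of another `y_v`;
* `exists_commuting`: `κ = 0` gives a `y_v` commuting with `C_L(b_v)`;
* `HasType.kappa_zero`: `κ = 0` as soon as one `b_w`, `w ∈ v^⊥ - ⟨v⟩`, is mapped to a transvection.
-/

set_option autoImplicit false
set_option linter.unusedSimpArgs false

open scoped commutatorElement

namespace Cfsg.Agent.OddHalf.SpTwo

open Cfsg.Agent.StandardComponent.SpTwo
open Cfsg.Agent.OddHalf.SpTwoN

section Sp

variable {X V : Type*} [Group X] [AddCommGroup V] [Module (ZMod 2) V] (D : SpData X V)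

/-- the product of two commuting transvections is not a transvection -/
theorem ττ_ne_τ [Finite V] {v a z : V} (hv : v ≠ 0) (ha : a ∉ ln v) (hav : D.B a v = 0) :
    D.τ v * D.τ a ≠ D.τ z := by
  intro h
  obtain ⟨x, hx, hxa⟩ := sep D ha
  rw [mem_perp_ln] at hx
  have h1 := (ρ_eq D).1 h x
  rw [D.ρ_mul, D.hτ _ x, hxa, one_smul, D.hτ, D.hτ, B_add, hx, zero_add, hav, zero_smul, add_zero] at h1
  have h2 := add_left_cancel h1
  rcases z2 (D.B x z) with h3 | h3
  · rw [h3, zero_smul] at h2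
    exact ne_zero_of_notMem ha h2
  · rw [h3, one_smul] at h2
    rw [h2] at h
    exact hv (D.τ_eq_one (mul_eq_right.1 h))

end Sp

variable {G V : Type*} [Group G] [AddCommGroup V] [Module (ZMod 2) V] {C : Ctx G V}
variable {v : V} {y : G}

/-- the type of `y_v` -/
structure HasType (C : Ctx G V) (v : V) (y : G) (κ : ZMod 2) (Q : V → ZMod 2) : Prop where
  form : ∀ w, C.S.B w v = 0 → y * C.b w * y = ((q C.S v ((Q w + κ) • w) (Q w) * C.S.τ w : C.L) : G)
  quad : ∀ u w, C.S.B u v = 0 → C.S.B w v = 0 → Q (u + w) = Q u + Q w + κ * C.S.B u w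
  zero : Q v = 0

theorem IsY.hasType (hv : v ≠ 0) (h : IsY C v y) : ∃ κ Q, HasType C v y κ Q := by
  obtain ⟨κ, Q, h1, h2, h3⟩ := h.exists_type hv
  exact ⟨κ, Q, h1, h2, h3⟩

theorem IsY.conj_L (h : IsY C v y) (m : C.L) : IsY C (C.S.ρ m v) (m * y * (m : G)⁻¹) := by
  have hm := t_comm C m
  have hm' : (m : G)⁻¹ * C.t * m = C.t := by rw [mul_assoc, ← hm]; group
  have hb := C.b_conj m v
  refine ⟨?_, ?_, ?_, ?_⟩
  · calc m * y * (m : G)⁻¹ * (m * y * (m : G)⁻¹) = m * (y * y) * (m : G)⁻¹ := by group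
      _ = 1 := by rw [h.sq]; group
  · calc m * y * (m : G)⁻¹ * C.t * (m * y * (m : G)⁻¹) = m * (y * ((m : G)⁻¹ * C.t * m) * y) * (m : G)⁻¹ := by
          group
      _ = (m * C.t) * C.b v * (m : G)⁻¹ := by rw [hm', h.conj_t]; group
      _ = _ := by rw [hm, mul_assoc, mul_assoc, ← mul_assoc (m : G), hb]
  · rw [← hb]
    calc m * y * (m : G)⁻¹ * (m * C.b v * (m : G)⁻¹) = m * (y * C.b v) * (m : G)⁻¹ := by group
      _ = _ := by rw [h.comm_b]; group
  · intro u hu
    have h1 : C.S.B (C.S.ρ m⁻¹ u) v = 0 := by rw [C.S.inv_left, inv_inv]; exact hu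
    have h2 : m * q C.S v (C.S.ρ m⁻¹ u) 0 * m⁻¹ = q C.S (C.S.ρ m v) u 0 := by
      rw [q_conj, C.S.ρ_apply_inv]
    rw [← h2]
    change m * y * (m : G)⁻¹ * ((m : G) * (q C.S v (C.S.ρ m⁻¹ u) 0 : C.L) * (m : G)⁻¹) =
      (m : G) * (q C.S v (C.S.ρ m⁻¹ u) 0 : C.L) * (m : G)⁻¹ * (m * y * (m : G)⁻¹)
    calc m * y * (m : G)⁻¹ * ((m : G) * (q C.S v (C.S.ρ m⁻¹ u) 0 : C.L) * (m : G)⁻¹) =
        m * (y * (q C.S v (C.S.ρ m⁻¹ u) 0 : C.L)) * (m : G)⁻¹ := by group
      _ = _ := by rw [h.comm _ h1]; group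

theorem HasType.conj_L {κ : ZMod 2} {Q : V → ZMod 2} (h : HasType C v y κ Q) (m : C.L) :
    HasType C (C.S.ρ m v) (m * y * (m : G)⁻¹) κ (fun w => Q (C.S.ρ m⁻¹ w)) := by
  have hB : ∀ w, C.S.B w (C.S.ρ m v) = 0 → C.S.B (C.S.ρ m⁻¹ w) v = 0 := by
    intro w hw
    rw [C.S.inv_left, inv_inv]; exact hw
  refine ⟨?_, ?_, ?_⟩
  · intro w hw
    have h1 := h.form _ (hB w hw)
    have h2 : (m : G)⁻¹ * C.b w * m = C.b (C.S.ρ m⁻¹ w) := by
      have := C.b_conj m⁻¹ w
      change (m : G)⁻¹ * C.b w * ((m : G)⁻¹)⁻¹ = _ at this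
      rwa [inv_inv] at this
    have h3 : m * (q C.S v ((Q (C.S.ρ m⁻¹ w) + κ) • C.S.ρ m⁻¹ w) (Q (C.S.ρ m⁻¹ w)) * C.S.τ (C.S.ρ m⁻¹ w)) * m⁻¹ =
        q C.S (C.S.ρ m v) ((Q (C.S.ρ m⁻¹ w) + κ) • w) (Q (C.S.ρ m⁻¹ w)) * C.S.τ w := by
      have e1 : ∀ a b : C.L, m * (a * b) * m⁻¹ = (m * a * m⁻¹) * (m * b * m⁻¹) := fun a b => by group
      rw [e1, q_conj, C.S.conj_τ, map_smul, C.S.ρ_apply_inv]
    rw [← h3]
    calc m * y * (m : G)⁻¹ * C.b w * (m * y * (m : G)⁻¹) = m * (y * ((m : G)⁻¹ * C.b w * m) * y) * (m : G)⁻¹ := by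
          group
      _ = _ := by rw [h2, h1]; rfl
  · intro u w hu hw
    have h1 := h.quad _ _ (hB u hu) (hB w hw)
    simp only [map_add]
    rw [h1, C.S.inv]
  · simp only [C.S.ρ_inv_apply]
    exact h.zero

/-- `y_v` times an element of `Q_v` -/
theorem IsY.mul_q (h : IsY C v y) {p : V} (hp : C.S.B p v = 0) (e : ZMod 2) :
    IsY C v (y * (q C.S v p e : C.L)) := by
  have h1 := h.conj_q hp e
  have hsq : ((q C.S v p e : C.L) : G) * (q C.S v p e : C.L) = 1 := congrArg Subtype.val (q_sq C.S hp e)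
  have ht := t_comm C (q C.S v p e)
  have hqq : ∀ u, C.S.B u v = 0 → ∀ e', ((q C.S v p e : C.L) : G) * (q C.S v u e' : C.L) =
      (q C.S v u e' : C.L) * (q C.S v p e : C.L) := fun u hu e' =>
    congrArg Subtype.val (q_comm C.S hp hu e e')
  refine ⟨?_, ?_, ?_, ?_⟩
  · calc y * ((q C.S v p e : C.L) : G) * (y * (q C.S v p e : C.L)) =
        (y * (q C.S v p e : C.L)) * y * (q C.S v p e : C.L) := by group
      _ = ((q C.S v p e : C.L) : G) * (y * y) * (q C.S v p e : C.L) := by rw [h1]; group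
      _ = 1 := by rw [h.sq, mul_one, hsq]
  · calc y * ((q C.S v p e : C.L) : G) * C.t * (y * (q C.S v p e : C.L)) =
        y * (((q C.S v p e : C.L) : G) * C.t) * y * (q C.S v p e : C.L) := by group
      _ = y * C.t * ((q C.S v p e : C.L) * y) * (q C.S v p e : C.L) := by rw [ht]; group
      _ = y * C.t * y * ((q C.S v p e : C.L) * (q C.S v p e : C.L)) := by rw [← h1]; group
      _ = _ := by rw [hsq, mul_one, h.conj_t]
  · have h2 : ((q C.S v p e : C.L) : G) * C.b v = C.b v * (q C.S v p e : C.L) := by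
      have := hqq 0 (B_zero C.S v) 1
      rwa [q_zero_one] at this
    rw [mul_assoc, h2, ← mul_assoc, h.comm_b, mul_assoc]
  · intro u hu
    rw [mul_assoc, hqq u hu 0, ← mul_assoc, h.comm u hu, mul_assoc]

theorem HasType.mul_q {κ : ZMod 2} {Q : V → ZMod 2} (h : IsY C v y) (ht : HasType C v y κ Q) {p : V}
    (hp : C.S.B p v = 0) (e : ZMod 2) :
    HasType C v (y * (q C.S v p e : C.L)) κ (fun w => Q w + C.S.B p w) := by
  have h1 := h.conj_q hp e
  refine ⟨?_, ?_, ?_⟩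
  · intro w hw
    have hsm : ∀ a : ZMod 2, C.S.B (a • w) v = 0 := by
      intro a
      rw [map_smul, LinearMap.smul_apply, hw, smul_zero]
    have h2 : q C.S v p e * C.S.τ w * q C.S v p e = q C.S v (C.S.B p w • w) (C.S.B p w) * C.S.τ w := by
      rw [← q_comm_τ C.S hw hp e, mul_assoc _ (C.S.τ w) (C.S.τ w), C.S.τ_sq, mul_one]
    have h2' : ((q C.S v p e : C.L) : G) * C.b w * (q C.S v p e : C.L) =
        (q C.S v (C.S.B p w • w) (C.S.B p w) : C.L) * C.b w := congrArg Subtype.val h2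
    have h3 : y * ((q C.S v p e : C.L) : G) * C.b w * (y * (q C.S v p e : C.L)) =
        (q C.S v (C.S.B p w • w) (C.S.B p w) : C.L) * (y * C.b w * y) := by
      calc y * ((q C.S v p e : C.L) : G) * C.b w * (y * (q C.S v p e : C.L)) =
          y * ((q C.S v p e : C.L) : G) * C.b w * ((q C.S v p e : C.L) * y) := by rw [← h1]
        _ = y * (((q C.S v p e : C.L) : G) * C.b w * (q C.S v p e : C.L)) * y := by group
        _ = (y * (q C.S v (C.S.B p w • w) (C.S.B p w) : C.L)) * C.b w * y := by rw [h2']; group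
        _ = _ := by rw [h.conj_q (hsm _)]; group
    rw [h3, ht.form w hw]
    have h4 : q C.S v (C.S.B p w • w) (C.S.B p w) * (q C.S v ((Q w + κ) • w) (Q w) * C.S.τ w) =
        q C.S v ((Q w + C.S.B p w + κ) • w) (Q w + C.S.B p w) * C.S.τ w := by
      rw [← mul_assoc, q_mul C.S (hsm _) (hsm _), ← add_smul]
      have e1 : C.S.B (C.S.B p w • w) ((Q w + κ) • w) = 0 := by
        rw [map_smul, map_smul, LinearMap.smul_apply, C.S.alt, smul_zero, smul_zero]
      have e2 : C.S.B p w + (Q w + κ) = Q w + C.S.B p w + κ := by abel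
      rw [e1, e2, add_zero, add_comm (C.S.B p w) (Q w)]
    exact congrArg Subtype.val h4
  · intro u w hu hw
    simp only [ht.quad u w hu hw, map_add]
    abel
  · simp only [ht.zero, hp, add_zero]

/-- uniqueness of `y_v` -/
theorem IsY.unique (hv : v ≠ 0) (h : IsY C v y) {y' : G} (h' : IsY C v y') :
    ∃ p e, C.S.B p v = 0 ∧ y' = y * (q C.S v p e : C.L) := by
  have hfinV := C.finV
  have hbG : C.b v * C.b v = 1 := C.b_sq v
  have hbt : C.b v * C.t = C.t * C.b v := t_comm C (C.S.τ v)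
  have hyt : y * C.t = C.t * C.b v * y := by
    calc y * C.t = y * C.t * (y * y) := by rw [h.sq, mul_one]
      _ = (y * C.t * y) * y := by group
      _ = _ := by rw [h.conj_t]
  have hyt' : y' * C.t = C.t * C.b v * y' := by
    calc y' * C.t = y' * C.t * (y' * y') := by rw [h'.sq, mul_one]
      _ = (y' * C.t * y') * y' := by group
      _ = _ := by rw [h'.conj_t]
  have h1 : y * y' * C.t = C.t * (y * y') := by
    calc y * y' * C.t = y * (C.t * C.b v * y') := by rw [mul_assoc, hyt']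
      _ = (y * C.t) * C.b v * y' := by group
      _ = C.t * C.b v * (y * C.b v) * y' := by rw [hyt]; group
      _ = C.t * (C.b v * C.b v) * y * y' := by rw [h.comm_b]; group
      _ = _ := by rw [hbG]; group
  obtain ⟨a, ha⟩ := exists_lift C h1
  have haQ : a ∈ QU C.S (ln v) := by
    have hcom : ∀ x : C.L, y * x = x * y → y' * x = x * y' → (a : G) * x = x * a := by
      intro x hx hx'
      have h2 : y * y' * x = x * (y * y') := by rw [mul_assoc, hx', ← mul_assoc, hx, mul_assoc]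
      rcases ha with ha | ha
      · rwa [ha] at h2
      · rw [ha] at h2
        have h3 : C.t * ((a : G) * x) = C.t * (x * a) := by
          rw [← mul_assoc, h2, ← mul_assoc, t_comm, mul_assoc]
        exact mul_left_cancel h3
    apply mem_QU_of_commute C.S hv
    · exact Subtype.ext (hcom _ h.comm_b h'.comm_b)
    · intro u hu
      exact Subtype.ext (hcom _ (h.comm u hu) (h'.comm u hu))
  obtain ⟨p, e, hp, rfl⟩ := mem_QU_ln C.S hv haQ
  rcases ha with ha | ha
  · refine ⟨p, e, hp, ?_⟩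
    rw [← ha, ← mul_assoc, h.sq, one_mul]
  · exfalso
    have h2 : y' = y * C.t * (q C.S v p e : C.L) := by
      rw [mul_assoc, ← ha, ← mul_assoc, h.sq, one_mul]
    have hsq : ((q C.S v p e : C.L) : G) * (q C.S v p e : C.L) = 1 := congrArg Subtype.val (q_sq C.S hp e)
    have h3 : y' * y' = C.b v := by
      calc y' * y' = y * C.t * ((q C.S v p e : C.L) * y) * C.t * (q C.S v p e : C.L) := by rw [h2]; group
        _ = y * C.t * y * ((q C.S v p e : C.L) * C.t) * (q C.S v p e : C.L) := by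
            rw [← h.conj_q hp e]; group
        _ = C.t * C.b v * C.t * ((q C.S v p e : C.L) * (q C.S v p e : C.L)) := by
            rw [t_comm, h.conj_t]; group
        _ = _ := by rw [hsq, mul_one, mul_assoc, hbt, ← mul_assoc, C.tt, one_mul]
    rw [h'.sq] at h3
    exact hv (C.S.τ_eq_one (Subtype.ext h3.symm))

/-- the type is determined by `y` -/
theorem HasType.unique (hv : v ≠ 0) {κ κ' : ZMod 2} {Q Q' : V → ZMod 2} (h : HasType C v y κ Q)
    (h' : HasType C v y κ' Q') : κ = κ' := by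
  have hfinV := C.finV
  have h256 := C.cardV
  obtain ⟨w, hw, hwl⟩ := room C.S h256 (A := ln v) (A' := ln v) (by
    have := finrank_ln_le v; omega)
  rw [mem_perp_ln] at hw
  have hsm : ∀ a : ZMod 2, C.S.B (a • w) v = 0 := by
    intro a
    rw [map_smul, LinearMap.smul_apply, hw, smul_zero]
  have h1 := (h.form w hw).symm.trans (h'.form w hw)
  have h2 := mul_right_cancel (Subtype.ext h1 : q C.S v ((Q w + κ) • w) (Q w) * C.S.τ w =
    q C.S v ((Q' w + κ') • w) (Q' w) * C.S.τ w)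
  obtain ⟨h3, h4⟩ := q_inj C.S hv (hsm _) (hsm _) h2
  rw [← add_smul, ← h4] at h3
  rcases z2 (Q w + κ + (Q w + κ')) with h5 | h5
  · have : ∀ a b c : ZMod 2, a + b + (a + c) = 0 → b = c := by decide
    exact this _ _ _ h5
  · rw [h5, one_smul] at h3
    exact absurd h3 hwl

/-- one `κ` for all `v`, all `y_v` -/
theorem exists_kappa (C : Ctx G V) : ∃ κ : ZMod 2, ∀ v y, v ≠ 0 → IsY C v y → ∃ Q, HasType C v y κ Q := by
  have hfinV := C.finV
  by_cases hex : ∃ v0 y0, v0 ≠ 0 ∧ IsY C v0 y0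
  · obtain ⟨v0, y0, hv0, h0⟩ := hex
    obtain ⟨κ, Q0, ht0⟩ := h0.hasType hv0
    refine ⟨κ, fun v y hv h => ?_⟩
    obtain ⟨m, hm⟩ := trans_vec C.S hv0 hv
    have h1 := h0.conj_L m
    have h2 := ht0.conj_L m
    rw [hm] at h1 h2
    obtain ⟨p, e, hp, rfl⟩ := h1.unique hv h
    exact ⟨_, h2.mul_q h1 hp e⟩
  · refine ⟨0, fun v y hv h => ?_⟩
    exact absurd ⟨v, y, hv, h⟩ hex

/-- every form is the form of some `y_v` -/
theorem IsY.exists_of_Q {κ : ZMod 2} {Q : V → ZMod 2} (h : IsY C v y) (ht : HasType C v y κ Q)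
    {Q' : V → ZMod 2}
    (hQ' : ∀ u w, C.S.B u v = 0 → C.S.B w v = 0 → Q' (u + w) = Q' u + Q' w + κ * C.S.B u w)
    (hQv : Q' v = 0) : ∃ y', IsY C v y' ∧ HasType C v y' κ Q' := by
  have hfinV := C.finV
  have hz : C.S.B 0 v = 0 := B_zero C.S v
  have hQ0 : Q 0 = 0 := by
    have := ht.quad 0 0 hz hz
    rw [add_zero, z2_add, B_zero, mul_zero, add_zero] at this
    exact this
  have hQ0' : Q' 0 = 0 := by
    have := hQ' 0 0 hz hz
    rw [add_zero, z2_add, B_zero, mul_zero, add_zero] at this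
    exact this
  let f : perp C.S (ln v) →ₗ[ZMod 2] ZMod 2 :=
    { toFun := fun x => Q x + Q' x
      map_add' := by
        intro x y
        have h1 := ht.quad x y ((mem_perp_ln C.S).1 x.2) ((mem_perp_ln C.S).1 y.2)
        have h2 := hQ' x y ((mem_perp_ln C.S).1 x.2) ((mem_perp_ln C.S).1 y.2)
        rw [Submodule.coe_add, h1, h2]
        generalize κ * C.S.B (x : V) (y : V) = k
        generalize Q x = a1
        generalize Q y = a2
        generalize Q' x = a3
        generalize Q' y = a4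
        revert a1 a2 a3 a4 k
        decide
      map_smul' := by
        intro c x
        rcases z2 c with rfl | rfl
        · simp [hQ0, hQ0']
        · simp }
  obtain ⟨p, hp⟩ := B_surj_on C.S (perp C.S (ln v)) f
  have hpv : C.S.B p v = 0 := by
    have := hp ⟨v, ln_ti C.S v (self_mem_ln v)⟩
    change C.S.B p v = Q v + Q' v at this
    rw [this, ht.zero, hQv, add_zero]
  refine ⟨_, h.mul_q hpv 0, ?_⟩
  have h1 := ht.mul_q h hpv 0
  have hQQ : ∀ w, C.S.B w v = 0 → Q w + C.S.B p w = Q' w := by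
    intro w hw
    have := hp ⟨w, (mem_perp_ln C.S).2 hw⟩
    change C.S.B p w = Q w + Q' w at this
    rw [this, ← add_assoc, z2_add, zero_add]
  refine ⟨fun w hw => ?_, hQ', hQv⟩
  have h2 := h1.form w hw
  simp only [hQQ w hw] at h2
  exact h2

/-- `κ = 0`: a `y_v` commuting with the whole stabilizer -/
theorem exists_commuting (hv : v ≠ 0) {Q : V → ZMod 2} (h : IsY C v y) (ht : HasType C v y 0 Q) :
    ∃ y', IsY C v y' ∧ ∀ m : C.L, C.S.ρ m v = v → y' * m = m * y' := by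
  have hfinV := C.finV
  obtain ⟨y', hy', ht'⟩ := h.exists_of_Q ht (Q' := fun _ => 0) (by intro u w _ _; simp) rfl
  refine ⟨y', hy', ?_⟩
  have hτ : ∀ w, C.S.B w v = 0 → y' * ((C.S.τ w : C.L) : G) = (C.S.τ w : C.L) * y' := by
    intro w hw
    have h1 := ht'.form w hw
    simp only [add_zero, zero_smul, q_zero, one_mul] at h1
    have h2 : y' * C.b w * y' = C.b w := h1
    change y' * C.b w = C.b w * y'
    calc y' * C.b w = y' * C.b w * (y' * y') := by rw [hy'.sq, mul_one]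
      _ = (y' * C.b w * y') * y' := by group
      _ = _ := by rw [h2]
  have hTG : ∀ p ∈ TG C.S (perp C.S (ln v) : Set V), y' * (p : G) = p * y' := by
    intro p hp
    induction hp using Subgroup.closure_induction with
    | mem x hx =>
      obtain ⟨w, hw, rfl⟩ := hx
      exact hτ w ((mem_perp_ln C.S).1 hw)
    | one =>
      change y' * (1 : G) = 1 * y'
      rw [mul_one, one_mul]
    | mul a b _ _ ha hb =>
      change y' * ((a : G) * b) = (a : G) * b * y'
      rw [← mul_assoc, ha, mul_assoc, hb, mul_assoc]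
    | inv a _ ha =>
      change y' * (a : G)⁻¹ = (a : G)⁻¹ * y'
      rw [eq_inv_mul_iff_mul_eq, ← mul_assoc, ← ha, mul_inv_cancel_right]
  intro m hm
  have hmP : m ∈ PU C.S (ln v) := (mem_PU_ln C.S hv).2 hm
  obtain ⟨p, hp, hpm⟩ := gen C.S (ln_ti C.S v) (fun x => C.S.ρ m x)
    (fun x hx => PU_perp C.S hmP hx) (fun x hx => (hmP x).2 hx)
    (fun x _ y _ => by rw [map_add, aa]; exact zero_mem _) (fun x _ y _ => C.S.inv _ _ _)
  have h1 : p⁻¹ * m ∈ QU C.S (ln v) := by
    have hpv : C.S.ρ p⁻¹ v = v := TG_fix C.S (inv_mem hp) (self_mem_ln v)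
    have hpi := TG_le_PU C.S (inv_mem hp)
    constructor
    · intro u hu
      rcases mem_ln.1 hu with rfl | rfl
      · exact map_zero _
      · rw [C.S.ρ_mul, hm, hpv]
    · intro x hx
      have h2 := (hpi _).2 (hpm x hx)
      rw [map_add, C.S.ρ_inv_apply, ← C.S.ρ_mul, add_comm] at h2
      exact h2
  obtain ⟨u, e, hu, hue⟩ := mem_QU_ln C.S hv h1
  have h2 : m = p * q C.S v u e := by rw [← hue, mul_inv_cancel_left]
  rw [h2]
  change y' * ((p : G) * (q C.S v u e : C.L)) = (p : G) * (q C.S v u e : C.L) * y'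
  rw [← mul_assoc, hTG p hp, mul_assoc, hy'.conj_q hu e, mul_assoc]

/-- `κ = 0` as soon as one transvection is mapped to a transvection -/
theorem HasType.kappa_zero (hv : v ≠ 0) {κ : ZMod 2} {Q : V → ZMod 2} (ht : HasType C v y κ Q) {w z : V}
    (hw : C.S.B w v = 0) (hwl : w ∉ ln v) (h : y * C.b w * y = C.b z) : κ = 0 := by
  have hfinV := C.finV
  rcases z2 κ with hκ | hκ
  · exact hκ
  exfalso
  have h1 := ht.form w hw
  rw [h, hκ] at h1
  have h2 : C.S.τ z = q C.S v ((Q w + 1) • w) (Q w) * C.S.τ w := Subtype.ext h1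
  rcases z2 (Q w) with h3 | h3
  · rw [h3, zero_add, one_smul] at h2
    -- `q v w 0 τ w = τ v τ (v + w)`
    have h4 : q C.S v w 0 * C.S.τ w = C.S.τ v * C.S.τ (w + v) := by
      have e1 : q C.S v w 0 = q C.S v 0 1 * q C.S v w 1 := by
        rw [q_mul C.S (B_zero C.S v) hw, B_zero, zero_add, add_zero, z2_add]
      rw [e1, mul_assoc, q_mul_τ C.S hw, q_zero_one]
    rw [h4] at h2
    exact ττ_ne_τ C.S hv (fun h5 => hwl (by
      have := add_mem h5 (self_mem_ln v)
      rwa [aab] at this)) (by rw [B_add, hw, C.S.alt, add_zero]) h2.symm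
  · have e0 : (1 : ZMod 2) + 1 = 0 := by decide
    rw [h3, e0, zero_smul, q_zero_one] at h2
    exact ττ_ne_τ C.S hv hwl hw h2.symm

end Cfsg.Agent.OddHalf.SpTwo

end
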