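import Cfsg.Agent.StandardComponent.SpTwo

-- merged: Cfsg.Agent.OddHalf.SpTwo.Gen
section

/-!
# Generation by transvections over the field with two elements

`SpData X V`: a group with all transvections `τ w` of a symplectic space over `F₂`.  If `f` is an isometry of
`U^⊥ / U` (`U` totally isotropic) then some product of transvections `τ w`, `w ∈ U^⊥`, induces `f`.
-/

set_option autoImplicit false

namespace Cfsg.Agent.OddHalf.SpTwo

open Cfsg.Agent.StandardComponent.SpTwo

variable {X V : Type*} [Group X] [AddCommGroup V] [Module (ZMod 2) V] (D : SpData X V)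

/-- the orthogonal space -/
def perp (U : Submodule (ZMod 2) V) : Submodule (ZMod 2) V where
  carrier := {x | ∀ u ∈ U, D.B x u = 0}
  zero_mem' := fun u _ => by rw [map_zero]; rfl
  add_mem' := fun {a b} ha hb u hu => by
    rw [map_add, LinearMap.add_apply, ha u hu, hb u hu, add_zero]
  smul_mem' := fun c x hx u hu => by rw [map_smul, LinearMap.smul_apply, hx u hu, smul_zero]

theorem mem_perp {U : Submodule (ZMod 2) V} {x : V} : x ∈ perp D U ↔ ∀ u ∈ U, D.B x u = 0 := Iff.rfl

theorem perp_anti {U W : Submodule (ZMod 2) V} (h : U ≤ W) : perp D W ≤ perp D U :=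
  fun _ hx u hu => hx u (h hu)

theorem B_surj [Finite V] (f : V →ₗ[ZMod 2] ZMod 2) : ∃ y, ∀ x, D.B y x = f x := by
  have hfin : Module.Finite (ZMod 2) V := Module.Finite.of_finite
  have hinj : Function.Injective D.B := by
    rw [← LinearMap.ker_eq_bot, LinearMap.ker_eq_bot']
    intro v hv
    apply D.nondeg
    intro w
    rw [hv]; rfl
  have hsurj : Function.Surjective D.B := by
    refine (LinearMap.injective_iff_surjective_of_finrank_eq_finrank ?_).1 hinj
    exact (Subspace.dual_finrank_eq (K := ZMod 2) (V := V)).symm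
  obtain ⟨y, hy⟩ := hsurj f
  exact ⟨y, fun x => by rw [hy]⟩

/-- prescribed values on a subspace -/
theorem B_surj_on [Finite V] (A : Submodule (ZMod 2) V) (f : A →ₗ[ZMod 2] ZMod 2) :
    ∃ y, ∀ x : A, D.B y x = f x := by
  obtain ⟨g, hg⟩ := LinearMap.exists_extend f
  obtain ⟨y, hy⟩ := B_surj D g
  exact ⟨y, fun x => by rw [hy, ← hg]; rfl⟩

theorem sep [Finite V] {A : Submodule (ZMod 2) V} {x : V} (hx : x ∉ A) :
    ∃ y, y ∈ perp D A ∧ D.B y x = 1 := by
  obtain ⟨f, hf, hf'⟩ := Submodule.exists_dual_map_eq_bot_of_notMem hx inferInstance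
  obtain ⟨y, hy⟩ := B_surj D f
  refine ⟨y, fun a ha => ?_, ?_⟩
  · rw [hy]
    have : f a ∈ A.map f := ⟨a, ha, rfl⟩
    rw [hf'] at this
    exact this
  · rw [hy]
    rcases z2 (f x) with h | h
    · exact absurd h hf
    · exact h

/-- `(A^⊥)^⊥ = A`. -/
theorem mem_of_perp [Finite V] {A : Submodule (ZMod 2) V} {x : V} (h : ∀ y ∈ perp D A, D.B y x = 0) :
    x ∈ A := by
  by_contra hx
  obtain ⟨y, hy, h1⟩ := sep D hx
  rw [h y hy] at h1
  exact zero_ne_one h1

/-- the group generated by the transvections with centre in a set -/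
def TG (W : Set V) : Subgroup X := Subgroup.closure {g | ∃ w ∈ W, g = D.τ w}

theorem τ_mem_TG {W : Set V} {w : V} (h : w ∈ W) : D.τ w ∈ TG D W := Subgroup.subset_closure ⟨w, h, rfl⟩

theorem TG_fix {U : Submodule (ZMod 2) V} {p : X} (hp : p ∈ TG D (perp D U : Set V)) {u : V} (hu : u ∈ U) :
    D.ρ p u = u := by
  induction hp using Subgroup.closure_induction with
  | mem x hx =>
    obtain ⟨w, hw, rfl⟩ := hx
    rw [D.hτ, D.symm, hw u hu, zero_smul, add_zero]
  | one => exact D.ρ_one u
  | mul x y _ _ h1 h2 => rw [D.ρ_mul, h2, h1]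
  | inv x _ h =>
    have := D.ρ_inv_apply x u
    rwa [h] at this

theorem TG_perp {U : Submodule (ZMod 2) V} {p : X} (hp : p ∈ TG D (perp D U : Set V)) {x : V}
    (hx : x ∈ perp D U) : D.ρ p x ∈ perp D U := by
  intro u hu
  rw [D.inv_left]
  rw [TG_fix D (inv_mem hp) hu]
  exact hx u hu

theorem gen [Finite V] {U : Submodule (ZMod 2) V} (hU : U ≤ perp D U) (f : V → V)
    (h1 : ∀ x ∈ perp D U, f x ∈ perp D U) (h0 : ∀ x ∈ U, f x ∈ U)
    (hadd : ∀ x ∈ perp D U, ∀ y ∈ perp D U, f (x + y) + (f x + f y) ∈ U)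
    (hB : ∀ x ∈ perp D U, ∀ y ∈ perp D U, D.B (f x) (f y) = D.B x y) :
    ∃ p ∈ TG D (perp D U : Set V), ∀ x ∈ perp D U, D.ρ p x + f x ∈ U := by
  classical
  -- strong induction on the defect
  have key : ∀ k : ℕ, ∀ p ∈ TG D (perp D U : Set V),
      Nat.card V - Nat.card {x : V // x ∈ perp D U ∧ D.ρ p x + f x ∈ U} = k →
      ∃ p ∈ TG D (perp D U : Set V), ∀ x ∈ perp D U, D.ρ p x + f x ∈ U := by
    intro k
    induction k using Nat.strong_induction_on with
    | _ k ih =>
      intro p hp hk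
      by_cases hall : ∀ x ∈ perp D U, D.ρ p x + f x ∈ U
      · exact ⟨p, hp, hall⟩
      push Not at hall
      obtain ⟨u, hu, hun⟩ := hall
      -- the subspace of agreement
      let A : Submodule (ZMod 2) V :=
        { carrier := {x | x ∈ perp D U ∧ D.ρ p x + f x ∈ U}
          zero_mem' := ⟨zero_mem _, by
            rw [map_zero, zero_add]; exact h0 0 (zero_mem _)⟩
          add_mem' := by
            intro a b ha hb
            refine ⟨add_mem ha.1 hb.1, ?_⟩
            have e : D.ρ p (a + b) + f (a + b) =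
                (D.ρ p a + f a) + (D.ρ p b + f b) + (f (a + b) + (f a + f b)) := by
              rw [map_add]
              have h2 : f a + f a = 0 := aa _
              have h3 : f b + f b = 0 := aa _
              calc D.ρ p a + D.ρ p b + f (a + b)
                  = D.ρ p a + D.ρ p b + f (a + b) + (f a + f a) + (f b + f b) := by
                    rw [h2, h3, add_zero, add_zero]
                _ = _ := by abel
            rw [e]
            exact add_mem (add_mem ha.2 hb.2) (hadd a ha.1 b hb.1)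
          smul_mem' := by
            intro c x hx
            rcases z2 c with hc | hc
            · rw [hc, zero_smul]
              refine ⟨zero_mem _, ?_⟩
              rw [map_zero, zero_add]; exact h0 0 (zero_mem _)
            · rw [hc, one_smul]; exact hx }
      have hA : ∀ x, x ∈ A ↔ x ∈ perp D U ∧ D.ρ p x + f x ∈ U := fun x => Iff.rfl
      have hUA : U ≤ A := by
        intro x hx
        rw [hA]
        refine ⟨hU hx, ?_⟩
        rw [TG_fix D hp hx]
        exact add_mem hx (h0 x hx)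
      have huA : u ∉ A := fun h => hun h.2
      have hpi : p⁻¹ ∈ TG D (perp D U : Set V) := inv_mem hp
      set gu := D.ρ p⁻¹ (f u) with hgu
      have hpgu : D.ρ p gu = f u := D.ρ_apply_inv p _
      have hguP : gu ∈ perp D U := TG_perp D hpi (h1 u hu)
      -- `B gu a = B u a` for `a ∈ A`
      have hBa : ∀ a ∈ A, D.B gu a = D.B u a := by
        intro a ha
        rw [hgu, D.inv_left, inv_inv]
        have e : D.ρ p a = f a + (D.ρ p a + f a) := by
          have := aa (f a)
          calc D.ρ p a = D.ρ p a + (f a + f a) := by rw [this, add_zero]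
            _ = _ := by abel
        rw [e, map_add, hB u hu a ha.1, (mem_perp D).1 (h1 u hu) _ ha.2, add_zero]
      -- the main step: from a new product of transvections
      have step : ∀ r ∈ TG D (perp D U : Set V), (∀ a ∈ A, D.ρ r a = a) → D.ρ r u = gu →
          ∃ p ∈ TG D (perp D U : Set V), ∀ x ∈ perp D U, D.ρ p x + f x ∈ U := by
        intro r hr hra hru
        refine ih _ ?_ (p * r) (mul_mem hp hr) rfl
        rw [← hk]
        have hlt : Nat.card {x : V // x ∈ perp D U ∧ D.ρ p x + f x ∈ U} <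
            Nat.card {x : V // x ∈ perp D U ∧ D.ρ (p * r) x + f x ∈ U} := by
          refine Set.ncard_lt_ncard (s := {x : V | x ∈ perp D U ∧ D.ρ p x + f x ∈ U})
            (t := {x : V | x ∈ perp D U ∧ D.ρ (p * r) x + f x ∈ U}) ?_ (Set.toFinite _)
          rw [Set.ssubset_iff_of_subset]
          · refine ⟨u, ⟨hu, ?_⟩, hun ∘ And.right⟩
            rw [D.ρ_mul, hru, hpgu, aa]
            exact zero_mem _
          · intro x hx
            refine ⟨hx.1, ?_⟩
            rw [D.ρ_mul, hra x hx]
            exact hx.2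
        have hle : Nat.card {x : V // x ∈ perp D U ∧ D.ρ (p * r) x + f x ∈ U} ≤ Nat.card V :=
          Finite.card_subtype_le _
        omega
      have hc : gu + u ∈ perp D U := add_mem hguP hu
      have hcA : ∀ a ∈ A, D.B a (gu + u) = 0 := by
        intro a ha
        rw [D.symm, map_add, LinearMap.add_apply, hBa a ha]
        exact aa (D.B u a)
      rcases z2 (D.B gu u) with hb | hb
      · -- two transvections
        have hnot : u ∉ A ⊔ Submodule.span (ZMod 2) {gu + u} := by
          intro hmem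
          rw [Submodule.mem_sup] at hmem
          obtain ⟨a, ha, b, hb', hab⟩ := hmem
          rw [Submodule.mem_span_singleton] at hb'
          obtain ⟨c, rfl⟩ := hb'
          rcases z2 c with hc0 | hc1
          · rw [hc0, zero_smul, add_zero] at hab
            exact huA (hab ▸ ha)
          · rw [hc1, one_smul] at hab
            have hga : gu = a := by
              apply eq_of_add
              have : a + (gu + u) = u := hab
              calc gu + a = (a + (gu + u)) + u := by rw [add_comm gu a, ← add_assoc, add_assoc _ u u, aa, add_zero]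
                _ = u + u := by rw [this]
                _ = 0 := aa u
            apply huA
            -- `a = gu`, so `ρ p a = f u` and `ρ p a + f a ∈ U`
            have h5 : f u + f a ∈ U := by
              have := ha.2
              rw [← hga, hpgu] at this
              rwa [hga] at this
            -- hence `u + a ∈ U`
            have h6 : u + a ∈ U := by
              apply mem_of_perp D
              intro y hy
              have h7 : D.B (f y) (f u + f a) = 0 := (mem_perp D).1 (h1 y hy) _ h5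
              rw [map_add, hB y hy u hu, hB y hy a ha.1] at h7
              rw [map_add, h7]
            have h8 : u = (u + a) + a := by rw [add_assoc, aa, add_zero]
            rw [h8]
            exact add_mem (hUA h6) ha
        obtain ⟨y', hy', hy1⟩ := sep D hnot
        have hyA : ∀ a ∈ A, D.B a y' = 0 := fun a ha => by
          rw [D.symm]; exact hy' a (Submodule.mem_sup_left ha)
        have hyc : D.B y' (gu + u) = 0 :=
          hy' _ (Submodule.mem_sup_right (Submodule.mem_span_singleton_self _))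
        have hyP : y' ∈ perp D U := fun x hx => hy' x (Submodule.mem_sup_left (hUA hx))
        refine step (D.τ (gu + u + y') * D.τ y') (mul_mem (τ_mem_TG D (add_mem hc hyP)) (τ_mem_TG D hyP))
          ?_ ?_
        · intro a ha
          have e0 : D.ρ (D.τ y') a = a := by rw [D.hτ, hyA a ha, zero_smul, add_zero]
          rw [D.ρ_mul, e0, D.hτ, map_add, hcA a ha, hyA a ha, add_zero, zero_smul, add_zero]
        · have e1 : D.ρ (D.τ y') u = u + y' := by
            rw [D.hτ, D.symm, hy1, one_smul]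
          have e2 : D.B (u + y') (gu + u + y') = 1 := by
            have h3 : D.B u gu = 0 := by rw [D.symm]; exact hb
            have h4 : D.B u y' = 1 := by rw [D.symm]; exact hy1
            have h5 : D.B y' gu = 1 := by
              rw [map_add, hy1] at hyc
              rcases z2 (D.B y' gu) with h | h
              · rw [h] at hyc; exact absurd hyc (by decide)
              · exact h
            simp only [map_add, LinearMap.add_apply, D.alt, h3, h4, h5, hy1]
            decide
          rw [D.ρ_mul, e1, D.hτ, e2, one_smul]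
          have : u + y' + (gu + u + y') = gu + (u + u) + (y' + y') := by abel
          rw [this, aa, aa, add_zero, add_zero]
      · -- one transvection
        refine step (D.τ (gu + u)) (τ_mem_TG D hc) ?_ ?_
        · intro a ha
          rw [D.hτ, hcA a ha, zero_smul, add_zero]
        · rw [D.hτ, map_add, D.alt, add_zero, D.symm, hb, one_smul, add_comm gu u, aac]
  exact key _ 1 (one_mem _) rfl

end Cfsg.Agent.OddHalf.SpTwo

end

-- merged: Cfsg.Agent.OddHalf.SpTwo.Sp
section

/-!
# The group `Q_v` of a vector and the unipotent radicals of the stabilizers of totally isotropic subspaces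

`q D v u e = τ v * τ u * τ (v+u) * τ (e • v)` for `u ∈ v^⊥`, `e ∈ F₂` are the elements of `Q_v = QU D (ln v)`.
-/

set_option autoImplicit false
set_option linter.unusedSimpArgs false

namespace Cfsg.Agent.OddHalf.SpTwo

open Cfsg.Agent.StandardComponent.SpTwo

variable {X V : Type*} [Group X] [AddCommGroup V] [Module (ZMod 2) V] (D : SpData X V)

theorem B_add (x y z : V) : D.B (x + y) z = D.B x z + D.B y z := by rw [map_add]; rfl

theorem B_zero (z : V) : D.B 0 z = 0 := by rw [map_zero]; rfl

/-! ### lines and planes -/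

/-- the subspace `{0, v}` -/
def ln (v : V) : Submodule (ZMod 2) V := Submodule.span (ZMod 2) {v}

/-- the subspace `{0, v, w, v + w}` -/
def pl (v w : V) : Submodule (ZMod 2) V := Submodule.span (ZMod 2) {v, w}

theorem mem_ln {v x : V} : x ∈ ln v ↔ x = 0 ∨ x = v := by
  rw [ln, Submodule.mem_span_singleton]
  constructor
  · rintro ⟨c, rfl⟩
    rcases z2 c with h | h
    · left; rw [h, zero_smul]
    · right; rw [h, one_smul]
  · rintro (rfl | rfl)
    · exact ⟨0, zero_smul _ _⟩
    · exact ⟨1, one_smul _ _⟩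

theorem mem_sup_ln {A : Submodule (ZMod 2) V} {v x : V} : x ∈ A ⊔ ln v ↔ x ∈ A ∨ x + v ∈ A := by
  rw [Submodule.mem_sup]
  constructor
  · rintro ⟨y, hy, z, hz, rfl⟩
    rcases mem_ln.1 hz with rfl | rfl
    · left; rwa [add_zero]
    · right; rwa [aab]
  · rintro (h | h)
    · exact ⟨x, h, 0, zero_mem _, add_zero _⟩
    · exact ⟨x + v, h, v, mem_ln.2 (Or.inr rfl), aab _ _⟩

theorem pl_eq (v w : V) : pl v w = ln v ⊔ ln w := by
  rw [pl, ln, ln, ← Submodule.span_union]; rfl

theorem mem_pl {v w x : V} : x ∈ pl v w ↔ x = 0 ∨ x = v ∨ x = w ∨ x = v + w := by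
  rw [pl_eq, mem_sup_ln, mem_ln, mem_ln]
  constructor
  · rintro ((h | h) | (h | h))
    · exact Or.inl h
    · exact Or.inr (Or.inl h)
    · exact Or.inr (Or.inr (Or.inl (eq_of_add _ _ h)))
    · refine Or.inr (Or.inr (Or.inr ?_))
      rw [← h, aab]
  · rintro (rfl | rfl | rfl | rfl)
    · exact Or.inl (Or.inl rfl)
    · exact Or.inl (Or.inr rfl)
    · exact Or.inr (Or.inl (aa _))
    · exact Or.inr (Or.inr (aab _ _))

theorem mem_perp_ln {v x : V} : x ∈ perp D (ln v) ↔ D.B x v = 0 := by
  rw [mem_perp]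
  constructor
  · intro h; exact h v (mem_ln.2 (Or.inr rfl))
  · intro h u hu
    rcases mem_ln.1 hu with rfl | rfl
    · exact map_zero _
    · exact h

theorem mem_perp_sup {A A' : Submodule (ZMod 2) V} {x : V} :
    x ∈ perp D (A ⊔ A') ↔ x ∈ perp D A ∧ x ∈ perp D A' := by
  constructor
  · intro h
    exact ⟨perp_anti D le_sup_left h, perp_anti D le_sup_right h⟩
  · rintro ⟨h1, h2⟩ u hu
    obtain ⟨a, ha, b, hb, rfl⟩ := Submodule.mem_sup.1 hu
    rw [map_add, h1 a ha, h2 b hb, add_zero]

theorem mem_perp_pl {v w x : V} : x ∈ perp D (pl v w) ↔ D.B x v = 0 ∧ D.B x w = 0 := by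
  rw [pl_eq, mem_perp_sup, mem_perp_ln, mem_perp_ln]

theorem ln_ti (v : V) : ln v ≤ perp D (ln v) := by
  intro x hx
  rw [mem_perp_ln]
  rcases mem_ln.1 hx with rfl | rfl
  · rw [map_zero]; rfl
  · exact D.alt _

theorem pl_ti {v w : V} (h : D.B v w = 0) : pl v w ≤ perp D (pl v w) := by
  intro x hx
  rw [mem_perp_pl]
  have h' : D.B w v = 0 := by rw [D.symm]; exact h
  rcases mem_pl.1 hx with rfl | rfl | rfl | rfl
  · rw [map_zero]; exact ⟨rfl, rfl⟩
  · exact ⟨D.alt _, h⟩
  · exact ⟨h', D.alt _⟩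
  · rw [map_add, LinearMap.add_apply, LinearMap.add_apply, D.alt, D.alt, h, h']
    exact ⟨rfl, rfl⟩

theorem left_mem_pl (v w : V) : v ∈ pl v w := mem_pl.2 (Or.inr (Or.inl rfl))

theorem right_mem_pl (v w : V) : w ∈ pl v w := mem_pl.2 (Or.inr (Or.inr (Or.inl rfl)))

theorem self_mem_ln (v : V) : v ∈ ln v := mem_ln.2 (Or.inr rfl)

theorem ne_zero_of_notMem {A : Submodule (ZMod 2) V} {x : V} (h : x ∉ A) : x ≠ 0 := by
  rintro rfl; exact h (zero_mem _)

theorem notMem_ln {v w : V} (h0 : w ≠ 0) (h1 : w ≠ v) : w ∉ ln v := by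
  rw [mem_ln]; tauto

/-! ### identities over the field with two elements -/

theorem ext_B {x y : V} (h : ∀ z, D.B x z = D.B y z) : x = y := by
  apply eq_of_add
  apply D.nondeg
  intro z
  rw [map_add, LinearMap.add_apply, h]
  exact CharTwo.add_self_eq_zero _

theorem z2_add (a : ZMod 2) : a + a = 0 := CharTwo.add_self_eq_zero a

theorem z2_mul (a : ZMod 2) : a * a = a := by revert a; decide

theorem z2_mul' (a b : ZMod 2) : a * (a * b) = a * b := by rw [← mul_assoc, z2_mul]

theorem z2_add' (a b : ZMod 2) : a + (a + b) = b := by rw [← add_assoc, z2_add, zero_add]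

theorem z2_ne {a : ZMod 2} : a ≠ 0 ↔ a = 1 := by revert a; decide

/-- the identities -/
macro "z2simp" : tactic =>
  `(tactic| (simp only [map_add, LinearMap.add_apply, map_smul, LinearMap.smul_apply, smul_eq_mul, map_zero,
    LinearMap.zero_apply, SpData.alt, mul_zero, zero_mul, add_zero, zero_add, mul_one, one_mul, mul_add, add_mul,
    z2_mul, z2_add, z2_mul', z2_add', mul_left_comm, mul_comm, mul_assoc, add_left_comm, add_comm, add_assoc]))

/-- element of `Q_v` -/
def q (v u : V) (e : ZMod 2) : X := D.τ v * D.τ u * D.τ (v + u) * D.τ (e • v)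

theorem q_apply {v u : V} (h : D.B u v = 0) (e : ZMod 2) (x : V) :
    D.ρ (q D v u e) x = x + D.B x u • v + D.B x v • u + (e * D.B x v) • v := by
  have h' : D.B v u = 0 := by rw [D.symm]; exact h
  apply ext_B D
  intro z
  rw [q]
  simp only [D.ρ_mul, D.hτ, map_add, LinearMap.add_apply, map_smul, LinearMap.smul_apply, smul_eq_mul, D.alt, h,
    h', mul_zero, zero_add, add_zero]
  generalize D.B x v = a
  generalize D.B x u = b
  generalize D.B v z = c
  generalize D.B u z = d
  generalize D.B x z = k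
  revert a b c d k e
  decide

theorem ρ_eq {g h : X} : g = h ↔ ∀ x, D.ρ g x = D.ρ h x :=
  ⟨fun e x => by rw [e], D.ext_iff⟩

theorem q_conj (g : X) {v u : V} (e : ZMod 2) : g * q D v u e * g⁻¹ = q D (D.ρ g v) (D.ρ g u) e := by
  rw [q, q, ← D.conj_τ, ← D.conj_τ, ← map_add, ← D.conj_τ, ← map_smul, ← D.conj_τ]
  group

theorem q_mul {v u u' : V} (h : D.B u v = 0) (h' : D.B u' v = 0) (e e' : ZMod 2) :
    q D v u e * q D v u' e' = q D v (u + u') (e + e' + D.B u u') := by
  apply D.ext_iff
  intro x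
  have h1 : D.B (u + u') v = 0 := by rw [map_add, LinearMap.add_apply, h, h', add_zero]
  apply ext_B D
  intro z
  rw [D.ρ_mul, q_apply D h', q_apply D h, q_apply D h1]
  have h2 : D.B v u = 0 := by rw [D.symm]; exact h
  have h3 : D.B u' u = D.B u u' := D.symm _ _
  simp only [map_add, LinearMap.add_apply, map_smul, LinearMap.smul_apply, smul_eq_mul, D.alt, h, h', h2, h3]
  generalize D.B x v = a
  generalize D.B x u = b
  generalize D.B x u' = b'
  generalize D.B u u' = g
  generalize D.B v z = c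
  generalize D.B u z = d
  generalize D.B u' z = d'
  generalize D.B x z = k
  revert a b b' c d d' e e' k g
  decide

theorem q_zero (v : V) : q D v 0 0 = 1 := by
  rw [q, D.τ_zero, add_zero, zero_smul, D.τ_zero, mul_one, mul_one, D.τ_sq]

theorem q_zero_one (v : V) : q D v 0 1 = D.τ v := by
  rw [q, D.τ_zero, add_zero, one_smul, mul_one, D.τ_sq, one_mul]

theorem q_self (v : V) (e : ZMod 2) : q D v v e = q D v 0 e := by
  rw [q, q, D.τ_zero, add_zero, aa, D.τ_zero, D.τ_sq, mul_one, mul_one, D.τ_sq]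

theorem q_sq {v u : V} (h : D.B u v = 0) (e : ZMod 2) : q D v u e * q D v u e = 1 := by
  rw [q_mul D h h, aa, D.alt, add_zero, z2_add, q_zero]

theorem q_inv {v u : V} (h : D.B u v = 0) (e : ZMod 2) : (q D v u e)⁻¹ = q D v u e := by
  rw [inv_eq_iff_mul_eq_one, q_sq D h]

theorem q_comm {v u u' : V} (h : D.B u v = 0) (h' : D.B u' v = 0) (e e' : ZMod 2) :
    q D v u e * q D v u' e' = q D v u' e' * q D v u e := by
  rw [q_mul D h h', q_mul D h' h, add_comm u u', add_comm e e', D.symm u u']

theorem q_add_self {v u : V} (h : D.B u v = 0) (e : ZMod 2) : q D v (u + v) e = q D v u e := by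
  have h1 : D.B (u + v) v = 0 := by rw [map_add, LinearMap.add_apply, h, D.alt, add_zero]
  apply D.ext_iff
  intro x
  apply ext_B D
  intro z
  rw [q_apply D h1, q_apply D h]
  simp only [map_add, LinearMap.add_apply, map_smul, LinearMap.smul_apply, smul_eq_mul]
  generalize D.B x v = a
  generalize D.B x u = b
  generalize D.B v z = c
  generalize D.B u z = d
  generalize D.B x z = k
  revert a b c d e k
  decide

theorem q_inj [Finite V] {v u u' : V} (hv : v ≠ 0) (h : D.B u v = 0) (h' : D.B u' v = 0) {e e' : ZMod 2}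
    (H : q D v u e = q D v u' e') : u + u' ∈ ln v ∧ e = e' := by
  have h1 : u + u' ∈ ln v := by
    apply mem_of_perp D
    intro y hy
    rw [mem_perp_ln] at hy
    have := (ρ_eq D).1 H y
    rw [q_apply D h, q_apply D h', hy] at this
    simp only [mul_zero, zero_smul, add_zero] at this
    have h2 := add_left_cancel this
    have h3 : (D.B y u + D.B y u') • v = 0 := by rw [add_smul, h2]; exact aa _
    rw [map_add]
    rcases z2 (D.B y u + D.B y u') with h4 | h4
    · exact h4
    · rw [h4, one_smul] at h3; exact absurd h3 hv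
  refine ⟨h1, ?_⟩
  have h5 : q D v u' e = q D v u e := by
    rcases mem_ln.1 h1 with h6 | h6
    · rw [eq_of_add _ _ h6]
    · have : u' = u + v := by rw [← h6, aac]
      rw [this, q_add_self D h]
  rw [← h5] at H
  have h6 : q D v u' e * q D v u' e' = 1 := by rw [H, q_sq D h']
  rw [q_mul D h' h', aa, D.alt, add_zero] at h6
  rcases z2 (e + e') with h7 | h7
  · exact eq_of_add _ _ h7
  · rw [h7, q_zero_one] at h6
    exact absurd (D.τ_eq_one h6) hv

theorem τ_conj_q {v w u : V} (hw : D.B w v = 0) (e : ZMod 2) :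
    D.τ w * q D v u e * D.τ w = q D v (u + D.B u w • w) e := by
  have h := q_conj D (D.τ w) (v := v) (u := u) e
  rw [D.τ_inv, D.hτ, D.hτ, D.symm v w, hw, zero_smul, add_zero] at h
  exact h

/-- the commutator of an element of `Q_v` with a transvection -/
theorem q_comm_τ {v w u : V} (hw : D.B w v = 0) (hu : D.B u v = 0) (e : ZMod 2) :
    q D v u e * D.τ w * q D v u e * D.τ w = q D v (D.B u w • w) (D.B u w) := by
  have h1 : q D v u e * D.τ w * q D v u e * D.τ w = q D v u e * (D.τ w * q D v u e * D.τ w) := by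
    simp only [mul_assoc]
  have h2 : D.B (u + D.B u w • w) v = 0 := by
    rw [map_add, LinearMap.add_apply, hu, map_smul, LinearMap.smul_apply, hw, smul_zero, add_zero]
  rw [h1, τ_conj_q D hw, q_mul D hu h2, aac, z2_add, zero_add, map_add, D.alt, zero_add, map_smul, smul_eq_mul,
    z2_mul]

/-- `τ w τ (w+v) = q(v; w, 1)` -/
theorem τ_mul_τ_add {v w : V} (hw : D.B w v = 0) : D.τ w * D.τ (w + v) = q D v w 1 := by
  have hv : D.B v w = 0 := by rw [D.symm]; exact hw
  rw [q, one_smul]
  have h1 : D.τ v * D.τ w = D.τ w * D.τ v := D.τ_commute hv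
  have h2 : D.τ v * D.τ (v + w) = D.τ (v + w) * D.τ v := D.τ_commute (by
    rw [map_add, D.alt, hv, add_zero])
  rw [mul_assoc, ← h2, ← mul_assoc, h1, mul_assoc (D.τ w), D.τ_sq, mul_one, add_comm v w]

/-! ### the unipotent radical -/

/-- the elements acting trivially on `U` and on `U^⊥ / U` -/
def QU (U : Submodule (ZMod 2) V) : Subgroup X where
  carrier := {g | (∀ u ∈ U, D.ρ g u = u) ∧ ∀ x ∈ perp D U, D.ρ g x + x ∈ U}
  one_mem' := by
    refine ⟨fun u _ => D.ρ_one u, fun x _ => ?_⟩
    rw [D.ρ_one, aa]; exact zero_mem _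
  mul_mem' := by
    rintro a b ⟨ha1, ha2⟩ ⟨hb1, hb2⟩
    refine ⟨fun u hu => by rw [D.ρ_mul, hb1 u hu, ha1 u hu], fun x hx => ?_⟩
    have h1 : D.ρ b x = x + (D.ρ b x + x) := by rw [add_comm (D.ρ b x), aac]
    rw [D.ρ_mul, h1, map_add, ha1 _ (hb2 x hx)]
    have : D.ρ a x + (D.ρ b x + x) + x = (D.ρ a x + x) + (D.ρ b x + x) := by abel
    rw [this]
    exact add_mem (ha2 x hx) (hb2 x hx)
  inv_mem' := by
    rintro a ⟨ha1, ha2⟩
    have h1 : ∀ u ∈ U, D.ρ a⁻¹ u = u := by
      intro u hu
      have := D.ρ_inv_apply a u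
      rwa [ha1 u hu] at this
    refine ⟨h1, fun x hx => ?_⟩
    have h2 := h1 _ (ha2 x hx)
    rw [map_add, D.ρ_inv_apply] at h2
    rw [add_comm, h2]
    exact ha2 x hx

theorem mem_QU {U : Submodule (ZMod 2) V} {g : X} :
    g ∈ QU D U ↔ (∀ u ∈ U, D.ρ g u = u) ∧ ∀ x ∈ perp D U, D.ρ g x + x ∈ U := Iff.rfl

/-- the stabilizer of `U` -/
def PU (U : Submodule (ZMod 2) V) : Subgroup X where
  carrier := {g | ∀ u, D.ρ g u ∈ U ↔ u ∈ U}
  one_mem' := fun u => by rw [D.ρ_one]
  mul_mem' := fun {a b} ha hb u => by rw [D.ρ_mul, ha, hb]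
  inv_mem' := fun {a} ha u => by rw [← ha, D.ρ_apply_inv]

theorem mem_PU {U : Submodule (ZMod 2) V} {g : X} : g ∈ PU D U ↔ ∀ u, D.ρ g u ∈ U ↔ u ∈ U := Iff.rfl

theorem mem_PU_of [Finite V] {U : Submodule (ZMod 2) V} {g : X} (h : ∀ u ∈ U, D.ρ g u ∈ U) : g ∈ PU D U := by
  intro u
  refine ⟨fun hu => ?_, h u⟩
  have hinj : Function.Injective (fun x : U => (⟨D.ρ g x, h x x.2⟩ : U)) := by
    intro x y hxy
    exact Subtype.ext (D.ρ_inj g (congrArg Subtype.val hxy))
  obtain ⟨x, hx⟩ := (Finite.injective_iff_surjective.1 hinj) ⟨_, hu⟩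
  have := D.ρ_inj g (congrArg Subtype.val hx)
  rw [← this]; exact x.2

theorem QU_le_PU {U : Submodule (ZMod 2) V} : QU D U ≤ PU D U := by
  intro g hg u
  refine ⟨fun hu => ?_, fun hu => by rw [hg.1 u hu]; exact hu⟩
  have h1 := (inv_mem hg).1 _ hu
  rw [D.ρ_inv_apply] at h1
  rw [h1]; exact hu

theorem PU_perp {U : Submodule (ZMod 2) V} {g : X} (hg : g ∈ PU D U) {x : V} (hx : x ∈ perp D U) :
    D.ρ g x ∈ perp D U := by
  intro u hu
  rw [D.inv_left]
  apply hx
  exact ((inv_mem hg : g⁻¹ ∈ PU D U) u).2 hu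

/-- transvections with centre in `U^⊥` -/
theorem τ_mem_PU {U : Submodule (ZMod 2) V} {w : V} (hw : w ∈ perp D U) : D.τ w ∈ PU D U := by
  have h : ∀ u ∈ U, D.ρ (D.τ w) u = u := fun u hu => by
    rw [D.hτ, D.symm, hw u hu, zero_smul, add_zero]
  intro u
  refine ⟨fun hu => ?_, fun hu => by rw [h u hu]; exact hu⟩
  have h1 := h _ hu
  have h2 := D.ρ_inj _ h1
  rwa [h2] at hu

theorem TG_le_PU {U : Submodule (ZMod 2) V} : TG D (perp D U : Set V) ≤ PU D U := by
  rw [TG, Subgroup.closure_le]
  rintro g ⟨w, hw, rfl⟩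
  exact τ_mem_PU D hw

theorem QU_conj {U : Submodule (ZMod 2) V} {g x : X} (hg : g ∈ PU D U) (hx : x ∈ QU D U) :
    g * x * g⁻¹ ∈ QU D U := by
  have hgi : g⁻¹ ∈ PU D U := inv_mem hg
  constructor
  · intro u hu
    rw [D.ρ_mul, D.ρ_mul, hx.1 _ ((hgi u).2 hu), D.ρ_apply_inv]
  · intro y hy
    have h1 := hx.2 _ (PU_perp D hgi hy)
    have h2 := (hg _).2 h1
    rwa [map_add, D.ρ_apply_inv, ← D.ρ_mul, ← D.ρ_mul] at h2

theorem QU_pow_four {U : Submodule (ZMod 2) V} (_hU : U ≤ perp D U) {g : X} (hg : g ∈ QU D U) : g ^ 4 = 1 := by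
  apply D.ext_iff
  intro x
  have h1 : D.ρ g x + x ∈ perp D U := by
    intro u hu
    have := D.inv g x u
    rw [hg.1 u hu] at this
    rw [map_add, LinearMap.add_apply, this, z2_add]
  set a := D.ρ g x + x with ha
  have h2 := hg.2 _ h1
  set u := D.ρ g a + a with hu
  have h3 : D.ρ g u = u := hg.1 _ h2
  have e1 : D.ρ g x = x + a := by rw [ha, add_comm (D.ρ g x), aac]
  have e2 : D.ρ g a = a + u := by rw [hu, add_comm (D.ρ g a), aac]
  have e3 : D.ρ (g * g) x = x + u := by
    rw [D.ρ_mul, e1, map_add, e1, e2]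
    have : x + a + (a + u) = x + u + (a + a) := by abel
    rw [this, aa, add_zero]
  have e4 : D.ρ (g * g) u = u := by rw [D.ρ_mul, h3, h3]
  have : g ^ 4 = g * g * (g * g) := by rw [show (4 : ℕ) = 2 + 2 from rfl, pow_add, pow_two]
  rw [this, D.ρ_mul, e3, map_add, e3, e4, aab, D.ρ_one]

/-- elements of `Q_v` -/
theorem q_mem_QU {v u : V} (hv : v ≠ 0) (h : D.B u v = 0) (e : ZMod 2) : q D v u e ∈ QU D (ln v) := by
  constructor
  · intro x hx
    have h2 : D.B v u = 0 := by rw [D.symm]; exact h
    rcases mem_ln.1 hx with rfl | rfl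
    · exact map_zero _
    · rw [q_apply D h, h2, D.alt]; simp
  · intro x hx
    rw [mem_perp_ln] at hx
    rw [q_apply D h, hx]
    simp only [mul_zero, zero_smul, add_zero]
    have : x + D.B x u • v + x = D.B x u • v + (x + x) := by abel
    rw [this, aa, add_zero]
    exact Submodule.smul_mem _ _ (self_mem_ln v)

theorem mem_QU_ln [Finite V] {v : V} (hv : v ≠ 0) {g : X} (hg : g ∈ QU D (ln v)) :
    ∃ u e, D.B u v = 0 ∧ g = q D v u e := by
  classical
  -- the linear form
  have hmem : ∀ x : perp D (ln v), D.ρ g x + x ∈ ln v := fun x => hg.2 x x.2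
  let f : perp D (ln v) →ₗ[ZMod 2] ZMod 2 :=
    { toFun := fun x => if D.ρ g x + x = 0 then 0 else 1
      map_add' := by
        intro x y
        have h1 := hmem x
        have h2 := hmem y
        have h3 : D.ρ g ((x + y : perp D (ln v)) : V) + ((x + y : perp D (ln v)) : V) =
            (D.ρ g x + x) + (D.ρ g y + y) := by
          rw [Submodule.coe_add, map_add]; abel
        rw [h3]
        rcases mem_ln.1 h1 with e1 | e1 <;> rcases mem_ln.1 h2 with e2 | e2 <;> rw [e1, e2]
        · simp
        · simp [hv]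
        · simp [hv]
        · rw [aa]; simp [hv]; decide
      map_smul' := by
        intro c x
        rcases z2 c with hc | hc
        · rw [hc, zero_smul]; simp
        · rw [hc, one_smul]; simp }
  have hf : ∀ x : perp D (ln v), D.ρ g x + x = f x • v := by
    intro x
    change _ = (if D.ρ g x + x = 0 then (0 : ZMod 2) else 1) • v
    rcases mem_ln.1 (hmem x) with e1 | e1
    · rw [e1, if_pos rfl, zero_smul]
    · rw [e1, if_neg hv, one_smul]
  obtain ⟨u, hu⟩ := B_surj_on D (perp D (ln v)) f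
  have huv : D.B u v = 0 := by
    have hvv : v ∈ perp D (ln v) := ln_ti D v (self_mem_ln v)
    have h1 := hu ⟨v, hvv⟩
    have h2 := hf ⟨v, hvv⟩
    change D.ρ g v + v = _ at h2
    rw [hg.1 v (self_mem_ln v), aa] at h2
    rw [h1]
    rcases z2 (f ⟨v, hvv⟩) with h3 | h3
    · exact h3
    · rw [h3, one_smul] at h2; exact absurd h2.symm hv
  -- `q * g` is trivial on the orthogonal space
  have h1 : ∀ x ∈ perp D (ln v), D.ρ (q D v u 0 * g) x = x := by
    intro x hx
    have h2 := hf ⟨x, hx⟩
    have h3 : D.ρ g x = x + f ⟨x, hx⟩ • v := by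
      rw [← h2]; change _ = x + (D.ρ g x + x); rw [add_comm (D.ρ g x), aac]
    have h4 := hu ⟨x, hx⟩
    change D.B u x = _ at h4
    have hvu : D.B v u = 0 := by rw [D.symm]; exact huv
    rw [mem_perp_ln] at hx
    rw [D.ρ_mul, h3, ← h4, q_apply D huv]
    simp only [map_add, LinearMap.add_apply, map_smul, LinearMap.smul_apply, smul_eq_mul, D.alt, hvu, hx, mul_zero,
      add_zero, zero_smul, zero_mul]
    rw [D.symm x u]
    have : x + D.B u x • v + D.B u x • v = x := aab _ _
    exact this
  obtain ⟨y, -, hy⟩ := sep D (A := ⊥) (x := v) (by simpa using hv)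
  have hdec : ∀ x, ∃ p ∈ perp D (ln v), x = p ∨ x = p + y := by
    intro x
    rcases z2 (D.B x v) with h | h
    · exact ⟨x, (mem_perp_ln D).2 h, Or.inl rfl⟩
    · refine ⟨x + y, (mem_perp_ln D).2 ?_, Or.inr (aab _ _).symm⟩
      rw [map_add, LinearMap.add_apply, h, hy]; decide
  set g' := q D v u 0 * g with hg'
  have h5 : D.ρ g' y + y ∈ ln v := by
    apply mem_of_perp D
    intro z hz
    have h6 := D.inv g' z y
    rw [h1 z hz] at h6
    rw [map_add, h6, z2_add]
  have h7 : g' = q D v 0 0 ∨ g' = q D v 0 1 := by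
    rcases mem_ln.1 h5 with h8 | h8
    · left
      apply D.ext_iff
      intro x
      rw [q_zero, D.ρ_one]
      obtain ⟨p, hp, rfl | rfl⟩ := hdec x
      · exact h1 _ hp
      · rw [map_add, h1 _ hp, eq_of_add _ _ h8]
    · right
      apply D.ext_iff
      intro x
      rw [q_zero_one, D.hτ]
      obtain ⟨p, hp, rfl | rfl⟩ := hdec x
      · rw [h1 _ hp, (mem_perp_ln D).1 hp, zero_smul, add_zero]
      · rw [map_add, h1 _ hp, map_add, LinearMap.add_apply, (mem_perp_ln D).1 hp, hy, zero_add, one_smul, ← h8,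
          add_comm (D.ρ g' y) y, add_assoc, aac]
  have h8 : g = q D v u 0 * g' := by rw [hg', ← mul_assoc, q_sq D huv, one_mul]
  have hz : D.B 0 v = 0 := by rw [map_zero]; rfl
  rcases h7 with h9 | h9
  · exact ⟨u, 0, huv, by rw [h8, h9, q_mul D huv hz]; simp⟩
  · exact ⟨u, 1, huv, by rw [h8, h9, q_mul D huv hz]; simp⟩

/-! ### centralizers -/

theorem commute_τ_iff {g : X} {v : V} : g * D.τ v = D.τ v * g ↔ D.ρ g v = v := by
  constructor
  · intro h
    apply D.τ_injective
    rw [← D.conj_τ, h, mul_inv_cancel_right]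
  · intro h
    have := D.conj_τ g v
    rw [h] at this
    exact mul_inv_eq_iff_eq_mul.1 this

theorem mem_PU_ln {g : X} {v : V} (hv : v ≠ 0) : g ∈ PU D (ln v) ↔ D.ρ g v = v := by
  constructor
  · intro h
    rcases mem_ln.1 ((h v).2 (self_mem_ln v)) with h1 | h1
    · rw [← map_zero (D.ρ g)] at h1
      exact absurd (D.ρ_inj g h1) hv
    · exact h1
  · intro h u
    rw [mem_ln, mem_ln]
    constructor
    · rintro (h1 | h1)
      · left; rw [← map_zero (D.ρ g)] at h1; exact D.ρ_inj g h1
      · right; rw [← h] at h1; exact D.ρ_inj g h1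
    · rintro (rfl | rfl)
      · left; exact map_zero _
      · right; exact h

/-- the centralizer of `Q_v` -/
theorem mem_QU_of_commute [Finite V] {g : X} {v : V} (hv : v ≠ 0) (h0 : g * D.τ v = D.τ v * g)
    (h : ∀ u, D.B u v = 0 → g * q D v u 0 = q D v u 0 * g) : g ∈ QU D (ln v) := by
  have hgv := (commute_τ_iff D).1 h0
  constructor
  · intro u hu
    rcases mem_ln.1 hu with rfl | rfl
    · exact map_zero _
    · exact hgv
  · intro x hx
    rw [mem_perp_ln] at hx
    have h1 := q_conj D g (v := v) (u := x) 0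
    rw [h x hx, mul_inv_cancel_right, hgv] at h1
    have h2 : D.B (D.ρ g x) v = 0 := by rw [← hgv, D.inv, hx]
    exact (q_inj D hv h2 hx h1.symm).1

end Cfsg.Agent.OddHalf.SpTwo

end

-- merged: Cfsg.Agent.OddHalf.SpTwo.Syl
section

/-!
# The Sylow 2-subgroup of the symplectic group over the field with two elements, and its flag
-/

set_option autoImplicit false
set_option linter.unusedSimpArgs false

open scoped commutatorElement

namespace Cfsg.Agent.OddHalf.SpTwo

open Cfsg.Agent.StandardComponent.SpTwo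

/-- a 2-group acting on `W / A` fixes a nonzero vector -/
theorem exists_fixed_quot {S V : Type*} [Group S] [AddCommGroup V] [Module (ZMod 2) V] [Finite V]
    (hS : IsPGroup 2 S) (ρ : S →* Module.End (ZMod 2) V) (A W : Submodule (ZMod 2) V) (hAW : A < W)
    (hA : ∀ s, ∀ x ∈ A, ρ s x ∈ A) (hW : ∀ s, ∀ x ∈ W, ρ s x ∈ W) :
    ∃ w ∈ W, w ∉ A ∧ ∀ s, ρ s w + w ∈ A := by
  classical
  let K : Submodule (ZMod 2) W := A.comap W.subtype
  let f : S → (W ⧸ K) →ₗ[ZMod 2] (W ⧸ K) := fun s =>
    Submodule.mapQ K K ((ρ s).restrict (hW s)) (fun x hx => hA s x hx)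
  have hf : ∀ s (x : W), f s (Submodule.Quotient.mk x) = Submodule.Quotient.mk ⟨ρ s x, hW s x x.2⟩ := by
    intro s x
    rfl
  let _ : MulAction S (W ⧸ K) :=
    { smul := fun s a => f s a
      one_smul := by
        intro a
        obtain ⟨x, rfl⟩ := Submodule.Quotient.mk_surjective K a
        change f 1 _ = _
        rw [hf]
        congr 1
        apply Subtype.ext
        change ρ 1 (x : V) = x
        rw [map_one]; rfl
      mul_smul := by
        intro s s' a
        obtain ⟨x, rfl⟩ := Submodule.Quotient.mk_surjective K a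
        change f (s * s') _ = f s (f s' _)
        rw [hf, hf, hf]
        congr 1
        apply Subtype.ext
        change ρ (s * s') (x : V) = ρ s (ρ s' x)
        rw [map_mul]; rfl }
  have hsm : ∀ (s : S) (a : W ⧸ K), s • a = f s a := fun _ _ => rfl
  obtain ⟨w0, hw0, hw0A⟩ := SetLike.exists_of_lt hAW
  have hne : (Submodule.Quotient.mk ⟨w0, hw0⟩ : W ⧸ K) ≠ 0 := by
    rw [Ne, Submodule.Quotient.mk_eq_zero]
    exact hw0A
  have hfin : Finite (W ⧸ K) := Finite.of_surjective _ (Submodule.Quotient.mk_surjective K)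
  have hdvd : 2 ∣ Nat.card (W ⧸ K) := by
    have h1 : addOrderOf (Submodule.Quotient.mk ⟨w0, hw0⟩ : W ⧸ K) = 2 := by
      apply addOrderOf_eq_prime _ hne
      rw [two_smul, ← Submodule.Quotient.mk_add]
      have : (⟨w0, hw0⟩ : W) + ⟨w0, hw0⟩ = 0 := aa _
      rw [this, Submodule.Quotient.mk_zero]
    have h2 := addOrderOf_dvd_natCard (Submodule.Quotient.mk ⟨w0, hw0⟩ : W ⧸ K)
    rw [h1] at h2
    exact h2
  obtain ⟨b, hb, hb0⟩ := hS.exists_fixed_point_of_prime_dvd_card_of_fixed_point (W ⧸ K) hdvd (a := 0)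
    (fun s => by rw [hsm]; exact map_zero _)
  obtain ⟨x, rfl⟩ := Submodule.Quotient.mk_surjective K b
  refine ⟨x, x.2, ?_, ?_⟩
  · intro h
    apply hb0
    symm
    rw [Submodule.Quotient.mk_eq_zero]
    exact h
  · intro s
    have h1 := hb s
    rw [hsm, hf, Submodule.Quotient.eq] at h1
    have h2 : ρ s (x : V) - x ∈ A := h1
    have h3 : ρ s (x : V) + x = ρ s (x : V) - x := by
      rw [sub_eq_add_neg]
      congr 1
      exact eq_neg_of_add_eq_zero_left (aa _)
    rw [h3]; exact h2

variable {X V : Type*} [Group X] [AddCommGroup V] [Module (ZMod 2) V] (D : SpData X V)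

/-! ### room -/

theorem finrank_ge [Finite V] (h : 256 ≤ Nat.card V) : 8 ≤ Module.finrank (ZMod 2) V := by
  have hfin : Module.Finite (ZMod 2) V := Module.Finite.of_finite
  have h1 := Module.natCard_eq_pow_finrank (K := ZMod 2) (V := V)
  rw [h1, Nat.card_zmod] at h
  by_contra h2
  push Not at h2
  have h3 : 2 ^ Module.finrank (ZMod 2) V ≤ 2 ^ 7 := Nat.pow_le_pow_right (by norm_num) (by omega)
  omega

theorem finrank_perp [Finite V] (A : Submodule (ZMod 2) V) :
    Module.finrank (ZMod 2) (perp D A) + Module.finrank (ZMod 2) A = Module.finrank (ZMod 2) V := by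
  have hfin : Module.Finite (ZMod 2) V := Module.Finite.of_finite
  -- the restriction map
  let φ : V →ₗ[ZMod 2] (A →ₗ[ZMod 2] ZMod 2) :=
    { toFun := fun x => (D.B x).domRestrict A
      map_add' := fun x y => by ext a; simp
      map_smul' := fun c x => by ext a; simp }
  have hker : LinearMap.ker φ = perp D A := by
    ext x
    rw [LinearMap.mem_ker, mem_perp]
    constructor
    · intro h u hu
      have := LinearMap.congr_fun h ⟨u, hu⟩
      exact this
    · intro h
      ext ⟨u, hu⟩
      exact h u hu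
  have hsurj : LinearMap.range φ = ⊤ := by
    rw [LinearMap.range_eq_top]
    intro f
    obtain ⟨y, hy⟩ := B_surj_on D A f
    exact ⟨y, LinearMap.ext hy⟩
  have h1 := LinearMap.finrank_range_add_finrank_ker φ
  rw [hker, hsurj, finrank_top] at h1
  have h2 : Module.finrank (ZMod 2) (A →ₗ[ZMod 2] ZMod 2) = Module.finrank (ZMod 2) A :=
    Subspace.dual_finrank_eq
  omega

theorem finrank_ln_le [Finite V] (v : V) : Module.finrank (ZMod 2) (ln v) ≤ 1 := by
  have h := finrank_span_le_card (R := ZMod 2) ({v} : Set V)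
  exact h.trans (by simp)

theorem finrank_sup_ln_le [Finite V] (A : Submodule (ZMod 2) V) (v : V) :
    Module.finrank (ZMod 2) (A ⊔ ln v : Submodule (ZMod 2) V) ≤ Module.finrank (ZMod 2) A + 1 := by
  have hfin : Module.Finite (ZMod 2) V := Module.Finite.of_finite
  have h1 := Submodule.finrank_sup_add_finrank_inf_eq A (ln v)
  have h2 := finrank_ln_le v
  omega

/-- enough room: a vector of `A^⊥` outside `A'` -/
theorem room [Finite V] (h : 256 ≤ Nat.card V) {A A' : Submodule (ZMod 2) V}
    (hA : Module.finrank (ZMod 2) A + Module.finrank (ZMod 2) A' < 8) : ∃ x ∈ perp D A, x ∉ A' := by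
  have hfin : Module.Finite (ZMod 2) V := Module.Finite.of_finite
  have h1 := finrank_ge h
  have h2 := finrank_perp D A
  by_contra hcon
  push Not at hcon
  have h3 : perp D A ≤ A' := hcon
  have h4 := Submodule.finrank_mono h3
  omega

theorem finrank_pl_le [Finite V] (v w : V) : Module.finrank (ZMod 2) (pl v w) ≤ 2 := by
  rw [pl_eq]
  have h1 := finrank_sup_ln_le (ln v) w
  have h2 := finrank_ln_le v
  omega

/-! ### elements of `Q_ℓ` -/

theorem q_mem_QU_pl {v w y : V} (hw : w ∉ ln v) (hvw : D.B v w = 0) (hy : y ∈ perp D (pl v w)) (e : ZMod 2) :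
    q D w y e ∈ QU D (pl v w) := by
  rw [mem_perp_pl] at hy
  have hwv : D.B w v = 0 := by rw [D.symm]; exact hvw
  have hvy : D.B v y = 0 := by rw [D.symm]; exact hy.1
  have hwy : D.B w y = 0 := by rw [D.symm]; exact hy.2
  constructor
  · intro u hu
    rw [q_apply D hy.2]
    rcases mem_pl.1 hu with rfl | rfl | rfl | rfl <;>
      simp [D.alt, hvw, hwv, hvy, hwy, map_add, LinearMap.add_apply]
  · intro x hx
    rw [mem_perp_pl] at hx
    rw [q_apply D hy.2, hx.2]
    simp only [mul_zero, zero_smul, add_zero]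
    have : x + D.B x y • w + x = D.B x y • w + (x + x) := by abel
    rw [this, aa, add_zero]
    exact Submodule.smul_mem _ _ (right_mem_pl v w)

theorem q_left_mem_QU_pl {v w y : V} (hw : w ∉ ln v) (hvw : D.B v w = 0) (hy : y ∈ perp D (pl v w))
    (e : ZMod 2) : q D v y e ∈ QU D (pl v w) := by
  rw [mem_perp_pl] at hy
  have hwv : D.B w v = 0 := by rw [D.symm]; exact hvw
  have hvy : D.B v y = 0 := by rw [D.symm]; exact hy.1
  have hwy : D.B w y = 0 := by rw [D.symm]; exact hy.2
  constructor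
  · intro u hu
    rw [q_apply D hy.1]
    rcases mem_pl.1 hu with rfl | rfl | rfl | rfl <;>
      simp [D.alt, hvw, hwv, hvy, hwy, map_add, LinearMap.add_apply]
  · intro x hx
    rw [mem_perp_pl] at hx
    rw [q_apply D hy.1, hx.1]
    simp only [mul_zero, zero_smul, add_zero]
    have : x + D.B x y • v + x = D.B x y • v + (x + x) := by abel
    rw [this, aa, add_zero]
    exact Submodule.smul_mem _ _ (left_mem_pl v w)

theorem τ_mem_QU {U : Submodule (ZMod 2) V} (hU : U ≤ perp D U) {u : V} (hu : u ∈ U) : D.τ u ∈ QU D U := by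
  constructor
  · intro x hx
    rw [D.hτ, hU hx u hu, zero_smul, add_zero]
  · intro x hx
    rw [D.hτ, hx u hu, zero_smul, add_zero, aa]
    exact zero_mem _

/-! ### the flag -/

theorem QU_le_of_sylow [Finite X] (S : Sylow 2 X) {U : Submodule (ZMod 2) V} (hU : U ≤ perp D U)
    (h : (S : Subgroup X) ≤ PU D U) : QU D U ≤ S := by
  have h1 : IsPGroup 2 (QU D U) := by
    intro g
    refine ⟨2, ?_⟩
    apply Subtype.ext
    exact QU_pow_four D hU g.2
  have h2 : (S : Subgroup X) ≤ Subgroup.normalizer (QU D U : Set X) := by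
    intro s hs
    rw [Subgroup.mem_normalizer_iff]
    intro x
    constructor
    · intro hx; exact QU_conj D (h hs) hx
    · intro hx
      have := QU_conj D (inv_mem (h hs)) hx
      have e : s⁻¹ * (s * x * s⁻¹) * s⁻¹⁻¹ = x := by group
      rwa [e] at this
  have h3 := IsPGroup.to_sup_of_normal_right' S.isPGroup' h1 h2
  have h4 := S.is_maximal' h3 le_sup_left
  rw [← h4]
  exact le_sup_right

theorem exists_flag [Finite X] [Finite V] (h256 : 256 ≤ Nat.card V) (S : Sylow 2 X) :
    ∃ v w, v ≠ 0 ∧ D.B v w = 0 ∧ w ∉ ln v ∧ (S : Subgroup X) ≤ PU D (ln v) ∧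
      (S : Subgroup X) ≤ PU D (pl v w) := by
  have hS : IsPGroup 2 (S : Subgroup X) := S.isPGroup'
  obtain ⟨x0, -, hx0⟩ := room D h256 (A := ⊥) (A' := ⊥) (by simp)
  have hlt : (⊥ : Submodule (ZMod 2) V) < ⊤ := by
    rw [bot_lt_iff_ne_bot]
    intro h
    apply hx0
    rw [← h]; exact Submodule.mem_top
  obtain ⟨v, -, hv, hv2⟩ := exists_fixed_quot hS (D.ρ.comp (S : Subgroup X).subtype) ⊥ ⊤ hlt
    (fun s x hx => by
      rw [Submodule.mem_bot] at hx ⊢
      rw [hx]; exact map_zero _)
    (fun _ _ _ => Submodule.mem_top)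
  have hv0 : v ≠ 0 := fun h => hv (by rw [h]; exact zero_mem _)
  have hvfix : ∀ s ∈ (S : Subgroup X), D.ρ s v = v := by
    intro s hs
    have := hv2 ⟨s, hs⟩
    rw [Submodule.mem_bot] at this
    exact eq_of_add _ _ this
  have hP1 : (S : Subgroup X) ≤ PU D (ln v) := fun s hs => (mem_PU_ln D hv0).2 (hvfix s hs)
  obtain ⟨x1, hx1, hx1'⟩ := room D h256 (A := ln v) (A' := ln v) (by
    have := finrank_ln_le v; omega)
  have hlt2 : ln v < perp D (ln v) := by
    refine lt_of_le_of_ne (ln_ti D v) ?_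
    intro h
    rw [← h] at hx1
    exact hx1' hx1
  obtain ⟨w, hw, hwv, hw2⟩ := exists_fixed_quot hS (D.ρ.comp (S : Subgroup X).subtype) (ln v) (perp D (ln v))
    hlt2 (fun s x hx => (hP1 s.2 x).2 hx) (fun s x hx => PU_perp D (hP1 s.2) hx)
  have hBvw : D.B v w = 0 := by rw [D.symm]; exact (mem_perp_ln D).1 hw
  refine ⟨v, w, hv0, hBvw, hwv, hP1, ?_⟩
  intro s hs
  apply mem_PU_of
  have h1 : D.ρ s w + w ∈ ln v := hw2 ⟨s, hs⟩
  have h2 : D.ρ s w ∈ pl v w := by
    have : D.ρ s w = (D.ρ s w + w) + w := (aab _ _).symm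
    rw [this]
    refine add_mem ?_ (right_mem_pl v w)
    rw [pl_eq]
    exact Submodule.mem_sup_left h1
  intro u hu
  rcases mem_pl.1 hu with rfl | rfl | rfl | rfl
  · rw [map_zero]; exact zero_mem _
  · rw [hvfix s hs]; exact left_mem_pl _ _
  · exact h2
  · rw [map_add, hvfix s hs]; exact add_mem (left_mem_pl _ _) h2

/-- the elements of `[S, S]` that we need -/
theorem mem_commutator [Finite V] (h256 : 256 ≤ Nat.card V) {S : Subgroup X} {v w : V} (hv : v ≠ 0)
    (hvw : D.B v w = 0) (hw : w ∉ ln v) (h1 : QU D (ln v) ≤ S) (h2 : QU D (pl v w) ≤ S) (f e : ZMod 2) :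
    q D v (f • w) e ∈ ⁅S, S⁆ := by
  have hwv : D.B w v = 0 := by rw [D.symm]; exact hvw
  -- `q v y 0` for `y ∈ ℓ^⊥`
  have key : ∀ y ∈ perp D (pl v w), y ∉ pl v w → q D v y 0 ∈ ⁅S, S⁆ := by
    intro y hy hyn
    have hwy : w ∉ pl v y := by
      intro h
      rcases mem_pl.1 h with h | h | h | h
      · exact ne_zero_of_notMem hw h
      · exact hw (by rw [h]; exact self_mem_ln v)
      · exact hyn (by rw [← h]; exact right_mem_pl v w)
      · apply hyn
        have : y = v + w := by rw [h, aac]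
        rw [this]; exact add_mem (left_mem_pl _ _) (right_mem_pl _ _)
    obtain ⟨u, hu, huw⟩ := sep D hwy
    rw [mem_perp_pl] at hu hy
    have hm : D.ρ (q D w y 0) u = u + y := by
      rw [q_apply D hy.2, hu.2, huw]; simp
    have hmv : D.ρ (q D w y 0) v = v := by
      rw [q_apply D hy.2, hvw, D.symm v y, hy.1]; simp
    have h3 : q D w y 0 * q D v u 0 * (q D w y 0)⁻¹ = q D v (u + y) 0 := by
      rw [q_conj, hmv, hm]
    have h4 : ⁅q D w y 0, q D v u 0⁆ = q D v y 0 := by
      rw [commutatorElement_def, h3, q_inv D hu.1, q_mul D (by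
        rw [map_add, LinearMap.add_apply, hu.1, hy.1, add_zero]) hu.1]
      have e1 : u + y + u = y := by rw [add_comm u y, aab]
      rw [e1, map_add, LinearMap.add_apply, D.alt, D.symm y u, hu.2]
      simp
    rw [← h4]
    exact Subgroup.commutator_mem_commutator (h2 (q_mem_QU_pl D hw hvw ((mem_perp_pl D).2 hy) 0))
      (h1 (q_mem_QU D hv hu.1 0))
  -- `τ v`
  obtain ⟨y, hy, hyn⟩ := room D h256 (A := pl v w) (A' := pl v w) (by
    have := finrank_pl_le v w; omega)
  obtain ⟨y', hy', hyy'⟩ := sep D hyn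
  have hy'n : y' ∉ pl v w := by
    intro h
    have h5 := hy y' h
    rw [D.symm, hyy'] at h5
    exact one_ne_zero h5
  have hsn : y + y' ∉ pl v w := by
    intro h
    have h5 := hy (y + y') h
    rw [map_add, D.alt, D.symm y y', hyy'] at h5
    exact absurd h5 (by decide)
  have hb : q D v 0 1 ∈ ⁅S, S⁆ := by
    have e1 : q D v 0 1 = q D v y 0 * q D v y' 0 * q D v (y + y') 0 := by
      have a1 := ((mem_perp_pl D).1 hy).1
      have a2 := ((mem_perp_pl D).1 hy').1
      have a3 : D.B (y + y') v = 0 := by rw [map_add, LinearMap.add_apply, a1, a2, add_zero]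
      rw [q_mul D a1 a2, q_mul D a3 a3, aa, D.alt, D.symm y y', hyy']; simp
    rw [e1]
    exact mul_mem (mul_mem (key y hy hyn) (key y' hy' hy'n)) (key _ (add_mem hy hy') hsn)
  have hc : q D v w 1 ∈ ⁅S, S⁆ := by
    obtain ⟨u, hu, huw⟩ := sep D hw
    rw [mem_perp_ln] at hu
    have h3 := q_comm_τ D hwv hu (0 : ZMod 2)
    rw [huw, one_smul] at h3
    rw [← h3]
    have h4 : q D v u 0 * D.τ w * q D v u 0 * D.τ w = ⁅q D v u 0, D.τ w⁆ := by
      rw [commutatorElement_def, q_inv D hu, D.τ_inv]
    rw [h4]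
    exact Subgroup.commutator_mem_commutator (h1 (q_mem_QU D hv hu 0))
      (h2 (τ_mem_QU D (pl_ti D hvw) (right_mem_pl v w)))
  have h0v : D.B 0 v = 0 := by rw [map_zero]; rfl
  have hw0 : q D v w 0 ∈ ⁅S, S⁆ := by
    have e1 : q D v w 0 = q D v w 1 * q D v 0 1 := by
      rw [q_mul D hwv h0v]; simp; rfl
    rw [e1]; exact mul_mem hc hb
  rcases z2 f with rfl | rfl <;> rcases z2 e with rfl | rfl
  · rw [zero_smul, q_zero]; exact one_mem _
  · rw [zero_smul]; exact hb
  · rw [one_smul]; exact hw0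
  · rw [one_smul]; exact hc

/-- the centralizer of `S` -/
theorem of_commute_S [Finite V] (h256 : 256 ≤ Nat.card V) {S : Subgroup X} {v w : V} (hv : v ≠ 0)
    (hvw : D.B v w = 0) (hw : w ∉ ln v) (h1 : QU D (ln v) ≤ S) (h2 : QU D (pl v w) ≤ S) {z : X}
    (hz : ∀ s ∈ S, z * s = s * z) : ∃ f e : ZMod 2, z = q D v (f • w) e := by
  have hwv : D.B w v = 0 := by rw [D.symm]; exact hvw
  have h3 : z ∈ QU D (ln v) := by
    apply mem_QU_of_commute D hv
    · rw [← q_zero_one]
      exact hz _ (h1 (q_mem_QU D hv (by rw [map_zero]; rfl) 1))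
    · intro u hu
      exact hz _ (h1 (q_mem_QU D hv hu 0))
  obtain ⟨u, e, hu, rfl⟩ := mem_QU_ln D hv h3
  have h4 : ∀ y ∈ perp D (pl v w), D.B u y • w + D.B u w • y ∈ ln v := by
    intro y hy
    have h5 := hz _ (h2 (q_mem_QU_pl D hw hvw hy 0))
    rw [mem_perp_pl] at hy
    have hmv : D.ρ (q D w y 0) v = v := by
      rw [q_apply D hy.2, hvw, D.symm v y, hy.1]; simp
    have hm : D.ρ (q D w y 0) u = u + D.B u y • w + D.B u w • y := by
      rw [q_apply D hy.2]; simp
    have h6 := q_conj D (q D w y 0) (v := v) (u := u) e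
    rw [← h5, mul_inv_cancel_right, hmv] at h6
    have h7 : D.B (D.ρ (q D w y 0) u) v = 0 := by
      rw [← hmv, D.inv]; exact hu
    have h8 := (q_inj D hv hu h7 h6).1
    rw [hm, ← add_assoc, ← add_assoc, aa, zero_add] at h8
    exact h8
  have h5 : D.B u w = 0 := by
    by_contra h
    have h := z2_ne.1 h
    obtain ⟨y, hy, hyn⟩ := room D h256 (A := pl v w) (A' := pl v w) (by
      have := finrank_pl_le v w; omega)
    have h6 := h4 y hy
    rw [h, one_smul] at h6
    apply hyn
    have h7 : y = D.B u y • w + (D.B u y • w + y) := (aac _ _).symm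
    rw [h7]
    refine add_mem (Submodule.smul_mem _ _ (right_mem_pl v w)) ?_
    rw [pl_eq]; exact Submodule.mem_sup_left h6
  have h6 : u ∈ pl v w := by
    apply mem_of_perp D
    intro y hy
    have h7 := h4 y hy
    rw [h5, zero_smul, add_zero] at h7
    rw [D.symm]
    rcases z2 (D.B u y) with h8 | h8
    · exact h8
    · rw [h8, one_smul] at h7; exact absurd h7 hw
  rcases mem_pl.1 h6 with rfl | rfl | rfl | rfl
  · exact ⟨0, e, by rw [zero_smul]⟩
  · exact ⟨0, e, by rw [zero_smul, q_self]⟩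
  · exact ⟨1, e, by rw [one_smul]⟩
  · exact ⟨1, e, by rw [one_smul, add_comm, q_add_self D hwv]⟩

/-! ### orders -/

/-- the subgroup interchanging `v` and `w` -/
theorem swap_spec {v w b : V} (h1 : D.B b v = 1) (h2 : D.B b w = 1) (hvw : D.B v w = 0) :
    D.ρ (q D (v + w) b 0) v = w ∧ D.ρ (q D (v + w) b 0) w = v := by
  have h3 : D.B b (v + w) = 0 := by rw [map_add, h1, h2]; decide
  have hwv : D.B w v = 0 := by rw [D.symm]; exact hvw
  constructor
  · rw [q_apply D h3, D.symm v b, h1, map_add, D.alt, hvw]; simp [aac]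
  · rw [q_apply D h3, D.symm w b, h2, map_add, D.alt, hwv]; simp
    rw [add_comm v w, aac]

theorem mem_PU_pl [Finite V] {g : X} {v w : V} (h1 : D.ρ g v ∈ pl v w) (h2 : D.ρ g w ∈ pl v w) :
    g ∈ PU D (pl v w) := by
  apply mem_PU_of
  intro u hu
  rcases mem_pl.1 hu with rfl | rfl | rfl | rfl
  · rw [map_zero]; exact zero_mem _
  · exact h1
  · exact h2
  · rw [map_add]; exact add_mem h1 h2

theorem pl_comm (v w : V) : pl v w = pl w v := by rw [pl_eq, pl_eq, sup_comm]

theorem pl_add (v w : V) : pl v (v + w) = pl v w := by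
  apply le_antisymm
  · intro x hx
    rcases mem_pl.1 hx with rfl | rfl | rfl | rfl
    · exact zero_mem _
    · exact left_mem_pl _ _
    · exact add_mem (left_mem_pl _ _) (right_mem_pl _ _)
    · rw [aac]; exact right_mem_pl _ _
  · intro x hx
    rcases mem_pl.1 hx with rfl | rfl | rfl | rfl
    · exact zero_mem _
    · exact left_mem_pl _ _
    · exact mem_pl.2 (by right; right; right; rw [aac])
    · exact right_mem_pl _ _

/-- an element of the stabilizer of the line moving `v` to `w` -/
theorem exists_swap [Finite V] {v w : V} (hv : v ≠ 0) (hw : w ∉ ln v) (hvw : D.B v w = 0) :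
    ∃ m ∈ PU D (pl v w), D.ρ m v = w ∧ D.ρ m w = v := by
  have h1 : v ∉ ln (v + w) := by
    rw [mem_ln]
    rintro (h | h)
    · exact hv h
    · apply ne_zero_of_notMem hw
      exact (add_eq_left.1 h.symm)
  obtain ⟨b, hb, hbv⟩ := sep D h1
  rw [mem_perp_ln, map_add, hbv] at hb
  have hbw : D.B b w = 1 := by
    rcases z2 (D.B b w) with h | h
    · rw [h] at hb; exact absurd hb (by decide)
    · exact h
  have h2 := swap_spec D hbv hbw hvw
  refine ⟨q D (v + w) b 0, mem_PU_pl D ?_ ?_, h2⟩
  · rw [h2.1]; exact right_mem_pl _ _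
  · rw [h2.2]; exact left_mem_pl _ _

theorem card_PU_pl_le [Finite X] [Finite V] {v w : V} (hv : v ≠ 0) (hw : w ∉ ln v) (hvw : D.B v w = 0) :
    Nat.card (PU D (pl v w)) ≤ 3 * Nat.card (PU D (ln v) ⊓ PU D (pl v w) : Subgroup X) := by
  obtain ⟨m1, hm1, hm1v, hm1w⟩ := exists_swap D hv hw hvw
  have hw' : v + w ∉ ln v := by
    intro h
    apply hw
    have : w = v + (v + w) := (aac _ _).symm
    rw [this]; exact add_mem (self_mem_ln v) h
  obtain ⟨m2, hm2, hm2v, hm2w⟩ := exists_swap D hv hw' (by rw [map_add, D.alt, hvw, add_zero])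
  rw [pl_add] at hm2
  let m : Fin 3 → X := ![1, m1, m2]
  have hm : ∀ i, m i ∈ PU D (pl v w) := by
    intro i
    fin_cases i
    · exact one_mem _
    · exact hm1
    · exact hm2
  let F : Fin 3 × (PU D (ln v) ⊓ PU D (pl v w) : Subgroup X) → PU D (pl v w) :=
    fun x => ⟨m x.1 * x.2, mul_mem (hm x.1) x.2.2.2⟩
  have hF : Function.Surjective F := by
    rintro ⟨x, hx⟩
    have h0 : ∃ i, D.ρ (m i) v = D.ρ x v := by
      have h1 := (hx v).2 (left_mem_pl v w)
      rcases mem_pl.1 h1 with h | h | h | h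
      · rw [← map_zero (D.ρ x)] at h
        exact absurd (D.ρ_inj x h) hv
      · exact ⟨0, by rw [h]; exact D.ρ_one v⟩
      · exact ⟨1, by rw [h]; exact hm1v⟩
      · exact ⟨2, by rw [h]; exact hm2v⟩
    obtain ⟨i, hi⟩ := h0
    refine ⟨(i, ⟨(m i)⁻¹ * x, Subgroup.mem_inf.2 ⟨?_,
      (PU D (pl v w)).mul_mem ((PU D (pl v w)).inv_mem (hm i)) hx⟩⟩), ?_⟩
    · refine (mem_PU_ln D hv).2 ?_
      rw [D.ρ_mul, ← hi, D.ρ_inv_apply]
    · apply Subtype.ext
      change m i * ((m i)⁻¹ * x) = x
      rw [mul_inv_cancel_left]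
  have := Nat.card_le_card_of_surjective F hF
  rwa [Nat.card_prod, Nat.card_fin] at this

theorem card_lt_PU_pl [Finite X] [Finite V] {v w : V} (hv : v ≠ 0) (hw : w ∉ ln v) (hvw : D.B v w = 0) :
    Nat.card (PU D (ln v) ⊓ PU D (pl v w) : Subgroup X) < Nat.card (PU D (pl v w)) := by
  obtain ⟨m1, hm1, hm1v, hm1w⟩ := exists_swap D hv hw hvw
  refine lt_of_le_of_ne (Subgroup.card_le_of_le inf_le_right) ?_
  intro h
  have h1 := Subgroup.eq_of_le_of_card_ge inf_le_right h.ge
  have h2 : m1 ∈ (PU D (ln v) ⊓ PU D (pl v w) : Subgroup X) := by rw [h1]; exact hm1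
  have h3 := (mem_PU_ln D hv).1 h2.1
  rw [hm1v] at h3
  exact hw (by rw [h3]; exact self_mem_ln v)

theorem card_lt_PU_ln [Finite X] [Finite V] (h256 : 256 ≤ Nat.card V) {v w : V} (_hv : v ≠ 0) (hw : w ∉ ln v)
    (hvw : D.B v w = 0) :
    4 * Nat.card (PU D (ln v) ⊓ PU D (pl v w) : Subgroup X) ≤ Nat.card (PU D (ln v)) := by
  have hwv : D.B w v = 0 := by rw [D.symm]; exact hvw
  obtain ⟨y, hy, hyn⟩ := room D h256 (A := pl v w) (A' := pl v w) (by
    have := finrank_pl_le v w; omega)
  obtain ⟨y', hy', hyy'⟩ := sep D hyn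
  obtain ⟨x, hx, hxw⟩ := sep D hw
  rw [mem_perp_ln] at hx
  rw [mem_perp_pl] at hy hy'
  have hvy : D.B v y = 0 := by rw [D.symm]; exact hy.1
  have hvy' : D.B v y' = 0 := by rw [D.symm]; exact hy'.1
  have hy'y : D.B y y' = 1 := by rw [D.symm]; exact hyy'
  let a : Fin 4 → V := ![0, y, y', y + y']
  have ha : ∀ i, D.B (a i) v = 0 ∧ D.B (a i) w = 0 := by
    intro i
    fin_cases i
    · exact ⟨by simp [a], by simp [a]⟩
    · exact hy
    · exact hy'
    · constructor
      · change D.B (y + y') v = 0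
        rw [map_add, LinearMap.add_apply, hy.1, hy'.1, add_zero]
      · change D.B (y + y') w = 0
        rw [map_add, LinearMap.add_apply, hy.2, hy'.2, add_zero]
  have hd : ∀ i j, a i + a j ∈ pl v w → i = j := by
    intro i j h
    have h1 : D.B (a i) y = D.B (a j) y := by
      have : D.B (a i + a j) y = 0 := by
        rw [D.symm]; exact (mem_perp_pl D).2 hy _ h
      rw [map_add, LinearMap.add_apply] at this
      exact eq_of_add _ _ this
    have h2 : D.B (a i) y' = D.B (a j) y' := by
      have : D.B (a i + a j) y' = 0 := by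
        rw [D.symm]; exact (mem_perp_pl D).2 hy' _ h
      rw [map_add, LinearMap.add_apply] at this
      exact eq_of_add _ _ this
    fin_cases i <;> fin_cases j <;> first | rfl | (exfalso; revert h1 h2; simp [a, D.alt, hyy', hy'y])
  have hmem : ∀ i, D.τ (x + a i) ∈ PU D (ln v) := by
    intro i
    apply τ_mem_PU
    rw [mem_perp_ln, map_add, LinearMap.add_apply, hx, (ha i).1, add_zero]
  let F : Fin 4 × (PU D (ln v) ⊓ PU D (pl v w) : Subgroup X) → PU D (ln v) :=
    fun z => ⟨D.τ (x + a z.1) * z.2, mul_mem (hmem z.1) z.2.2.1⟩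
  have hF : Function.Injective F := by
    rintro ⟨i, p, hp⟩ ⟨j, p', hp'⟩ h
    have h1 : D.τ (x + a i) * p = D.τ (x + a j) * p' := congrArg Subtype.val h
    have h2 : D.τ (x + a j) * D.τ (x + a i) = p' * p⁻¹ := by
      have : D.τ (x + a j) * (D.τ (x + a i) * p) = p' := by
        rw [h1, ← mul_assoc, D.τ_sq, one_mul]
      rw [← this]; group
    have h3 : D.τ (x + a j) * D.τ (x + a i) ∈ PU D (pl v w) := by
      rw [h2]; exact mul_mem hp'.2 (inv_mem hp.2)
    have h4 := (h3 w).2 (right_mem_pl v w)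
    have e1 : D.B w (x + a i) = 1 := by
      rw [D.symm, map_add, LinearMap.add_apply, hxw, (ha i).2, add_zero]
    have e2 : D.B w (x + a j) = 1 := by
      rw [D.symm, map_add, LinearMap.add_apply, hxw, (ha j).2, add_zero]
    have h5 : i = j := by
      have e3 : D.B (w + (x + a i)) (x + a j) = 1 + D.B (x + a i) (x + a j) := by
        rw [B_add, e2]
      rw [D.ρ_mul, D.hτ _ w, e1, one_smul, D.hτ, e3] at h4
      rcases z2 (D.B (x + a i) (x + a j)) with h6 | h6
      · rw [h6, add_zero, one_smul] at h4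
        apply hd
        have h7 : w + (x + a i) + (x + a j) = w + (a i + a j) := by
          have : w + (x + a i) + (x + a j) = w + (a i + a j) + (x + x) := by abel
          rw [this, aa, add_zero]
        rw [h7] at h4
        have := add_mem (right_mem_pl v w) h4
        rwa [aac] at this
      · exfalso
        have h7 : (1 : ZMod 2) + 1 = 0 := by decide
        rw [h6, h7, zero_smul, add_zero] at h4
        have h8 := (pl_ti D hvw) h4 w (right_mem_pl v w)
        rw [map_add, LinearMap.add_apply, D.alt, zero_add, D.symm, e1] at h8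
        exact one_ne_zero h8
    subst h5
    have h6 : p = p' := mul_left_cancel h1
    subst h6
    rfl
  have := Nat.card_le_card_of_injective F hF
  rwa [Nat.card_prod, Nat.card_fin] at this

end Cfsg.Agent.OddHalf.SpTwo

end
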