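import Cfsg.Agent.OddHalf.SpTwo.PatSZ

-- merged: Cfsg.Agent.OddHalf.SpTwo.PatSRu
section

/-!
# `Sp_{2n}(2)`, pattern {short}: the group `R_u`
-/

set_option autoImplicit false

namespace Cfsg.Agent.OddHalf.SpTwo.PatS

open Cfsg.Agent.StandardComponent.SpTwo

variable {G X V : Type*} [Group G] [Group X] [AddCommGroup V] [Module (ZMod 2) V]

namespace Data

variable {D : Data G X V}

variable {u c c' : V} {z z' z'' : G}

theorem Tr.triple (hu : u ≠ 0) (h : D.Tr u c z) (h' : D.Tr u c' z') (h'' : D.Tr u (c + c') z'')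
    (hz'' : z'' * z'' = 1) :
    (∃ w j, D.S.B u w = 0 ∧ z * z' = z'' * D.q u w j ∧ z * z' * (z * z') = D.b (D.S.B (c + c') w • u)) ∨
    (∃ w j, D.S.B u w = 0 ∧ z * z' = z'' * (D.t * D.q u w j) ∧
      z * z' * (z * z') = D.q u (c + c') (D.S.B (c + c') w)) := by
  have h1 : D.Tr u 0 (z'' * (z * z')) := by
    have := h''.mul (h.mul h')
    rwa [aa] at this
  have h2 : z * z' = z'' * (z'' * (z * z')) := by rw [← mul_assoc, hz'', one_mul]
  obtain ⟨w, j, hw, hk | hk⟩ := h1.ker hu (Or.inl rfl)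
  · left
    rw [hk] at h2
    exact ⟨w, j, hw, h2, by rw [h2, h''.sq_q hz'' hw]⟩
  · right
    rw [hk] at h2
    exact ⟨w, j, hw, h2, by rw [h2, h''.sq_tq hz'' hw]⟩

/-- The second case of `triple` only for `c ⊥ c'`. -/
theorem Tr.triple' (hu : u ≠ 0) (h : D.Tr u c z) (hz : z * z = 1) (h' : D.Tr u c' z') (hz' : z' * z' = 1)
    (h'' : D.Tr u (c + c') z'') (hz'' : z'' * z'' = 1) (hc : ¬ (c = 0 ∨ c = u)) (hcc : D.S.B c c' = 1) :
    ∃ w j, D.S.B u w = 0 ∧ z * z' = z'' * D.q u w j ∧ z * z' * (z * z') = D.b (D.S.B (c + c') w • u) := by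
  rcases h.triple hu h' h'' hz'' with h1 | ⟨w, j, hw, -, h2⟩
  · exact h1
  · exfalso
    obtain ⟨v, i, hv, hcv, -, h3⟩ := h.comm hu hz h' hz' hc
    rw [h3] at h2
    have h4 := (q_eq hu hv h''.1 h2).1
    have h5 : D.S.B c (c + c') = 0 := by
      rcases h4 with h4 | h4
      · rw [h4, hcv]
      · rw [h4, map_add, hcv, D.S.symm c u, h.1, add_zero]
    rw [map_add, D.S.alt, hcc] at h5
    revert h5; decide

/-- Commutators of involutions inducing translations lie in `<b_u>`. -/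
theorem Tr.main (hu : u ≠ 0) (h : D.Tr u c z) (hz : z * z = 1) (h' : D.Tr u c' z') (hz' : z' * z' = 1)
    (h'' : D.Tr u (c + c') z'') (hz'' : z'' * z'' = 1) (hc : ¬ (c = 0 ∨ c = u)) (hc' : ¬ (c' = 0 ∨ c' = u))
    (hcc : ¬ (c + c' = 0 ∨ c + c' = u)) :
    ∃ w j, D.S.B u w = 0 ∧ z * z' = z'' * D.q u w j ∧ z * z' * (z * z') = D.b (D.S.B (c + c') w • u) := by
  rcases z2 (D.S.B c c') with h0 | h0
  swap
  · exact h.triple' hu hz h' hz' h'' hz'' hc h0
  rcases h.triple hu h' h'' hz'' with h1 | ⟨w, j, hw, -, h2⟩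
  · exact h1
  exfalso
  push Not at hc hc' hcc
  obtain ⟨v, hv1, hv2, hv3⟩ := sep3 D.S (c := c) (d := c') (e := u) hc.1
    (fun e => hcc.1 (by rw [e, aa])) hc.2 (fun e => hcc.2 (by rw [e, add_comm c' u, aab]))
  have huc : D.S.B u c = 0 := h.1
  have huc' : D.S.B u c' = 0 := h'.1
  have huv : D.S.B u v = 0 := by rw [D.S.symm]; exact hv3
  have key : ∀ x, D.S.B x c = 1 → x ≠ 0 ∧ x ≠ u := by
    intro x hx
    constructor
    · rintro rfl; simp at hx
    · rintro rfl; rw [huc] at hx; exact absurd hx (by decide)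
  have hB1 : D.S.B (v + c) c = 1 := by rw [map_add, LinearMap.add_apply, hv1, D.S.alt, add_zero]
  have hB2 : D.S.B (v + c') c = 1 := by
    rw [map_add, LinearMap.add_apply, hv1, D.S.symm c' c, h0, add_zero]
  have hB3 : D.S.B (v + c + c') c = 1 := by
    rw [map_add, LinearMap.add_apply, hB1, D.S.symm c' c, h0, add_zero]
  obtain ⟨zv, hzv, hTv⟩ := exZ (D := D) huv hu (key v hv1).1 (key v hv1).2.symm
  obtain ⟨zvc, hzvc, hTvc⟩ := exZ (D := D) (by rw [map_add, huv, huc, add_zero]) hu (key _ hB1).1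
    (key _ hB1).2.symm
  obtain ⟨z1, hz1, hT1⟩ := exZ (D := D) (by rw [map_add, huv, huc', add_zero]) hu (key _ hB2).1
    (key _ hB2).2.symm
  obtain ⟨z2, hz2, hT2⟩ := exZ (D := D) (w := v + c + c')
    (by rw [map_add, map_add, huv, huc, huc', add_zero, add_zero]) hu (key _ hB3).1 (key _ hB3).2.symm
  -- `z = zv zvc q`
  obtain ⟨w1, j1, hw1, hq1, -⟩ := hTv.triple' hu hzv.sq hTvc hzvc.sq (z'' := z) (by rw [aac]; exact h) hz
    (by rw [not_or]; exact key v hv1) (by rw [map_add, D.S.alt, zero_add]; exact hv1)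
  have hzq : z = zv * zvc * D.q u w1 j1 := by
    rw [hq1, mul_assoc, q_sq hw1, mul_one]
  -- commutators with `z'`
  have e1 : ∃ p i, D.S.B u p = 0 ∧ (p = 0 ∨ p = v + c') ∧ zv * z' = D.q u p i * (z' * zv) := by
    have hh : ∀ e, zv * z' * (zv * z') = e → zv * z' = e * (z' * zv) := by
      intro e he
      rw [← he]
      calc zv * z' = zv * z' * (zv * (z' * z') * zv) := by rw [hz', mul_one, hzv.sq, mul_one]
        _ = _ := by group
    rcases hTv.triple hu h' hT1 hz1.sq with ⟨p, i, -, -, hp⟩ | ⟨p, i, -, -, hp⟩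
    · refine ⟨0, D.S.B (v + c') p, map_zero _, Or.inl rfl, ?_⟩
      rw [q_zero]; exact hh _ hp
    · exact ⟨v + c', D.S.B (v + c') p, hT1.1, Or.inr rfl, hh _ hp⟩
  have e2 : ∃ p i, D.S.B u p = 0 ∧ (p = 0 ∨ p = v + c + c') ∧ zvc * z' = D.q u p i * (z' * zvc) := by
    have hh : ∀ e, zvc * z' * (zvc * z') = e → zvc * z' = e * (z' * zvc) := by
      intro e he
      rw [← he]
      calc zvc * z' = zvc * z' * (zvc * (z' * z') * zvc) := by rw [hz', mul_one, hzvc.sq, mul_one]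
        _ = _ := by group
    rcases hTvc.triple hu h' hT2 hz2.sq with ⟨p, i, -, -, hp⟩ | ⟨p, i, -, -, hp⟩
    · refine ⟨0, D.S.B (v + c + c') p, map_zero _, Or.inl rfl, ?_⟩
      rw [q_zero]; exact hh _ hp
    · exact ⟨v + c + c', D.S.B (v + c + c') p, hT2.1, Or.inr rfl, hh _ hp⟩
  obtain ⟨p1, i1, hp1, hp1', f1⟩ := e1
  obtain ⟨p2, i2, hp2, hp2', f2⟩ := e2
  have e3 : z * z' = D.q u p2 (i2 + D.S.B v p2) * D.q u p1 i1 * D.q u 0 (D.S.B c' w1) * (z' * z) := by
    have f3 : D.q u w1 (j1 + D.S.B c' w1) = D.q u 0 (D.S.B c' w1) * D.q u w1 j1 := by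
      rw [q_mul (map_zero _) hw1, zero_add, map_zero, LinearMap.zero_apply, zero_add, add_comm]
    have f4 : z' * (zv * zvc) * D.q u 0 (D.S.B c' w1) = D.q u 0 (D.S.B c' w1) * (z' * (zv * zvc)) := by
      rw [q_zero, (h'.mul (hTv.mul hTvc)).comm_bj]
    calc z * z' = zv * zvc * (D.q u w1 j1 * z') := by rw [hzq]; group
      _ = zv * (zvc * z') * D.q u w1 (j1 + D.S.B c' w1) := by
          have : D.q u w1 j1 * z' = z' * D.q u w1 (j1 + D.S.B c' w1) := by
            rw [h'.2.2 _ _ hw1, add_assoc, z_add_self, add_zero]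
          rw [this]; group
      _ = (zv * D.q u p2 i2) * z' * zvc * D.q u w1 (j1 + D.S.B c' w1) := by rw [f2]; group
      _ = D.q u p2 (i2 + D.S.B v p2) * (zv * z') * zvc * D.q u w1 (j1 + D.S.B c' w1) := by
          rw [hTv.2.2 _ _ hp2]; group
      _ = D.q u p2 (i2 + D.S.B v p2) * D.q u p1 i1 * (z' * (zv * zvc) * D.q u 0 (D.S.B c' w1)) * D.q u w1 j1 := by
          rw [f1, f3]; group
      _ = _ := by rw [f4, hzq]; group
  have e4 : z * z' * (z * z') = D.q u (p2 + p1 + 0) (D.S.B (p2 + p1) 0 + (D.S.B p2 p1 + (i2 + D.S.B v p2) + i1) +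
      D.S.B c' w1) := by
    rw [← q_mul (by rw [map_add, hp2, hp1, add_zero]) (map_zero _), ← q_mul hp2 hp1]
    calc z * z' * (z * z') = D.q u p2 (i2 + D.S.B v p2) * D.q u p1 i1 * D.q u 0 (D.S.B c' w1) *
          (z' * (z * z) * z') := by nth_rewrite 1 [e3]; group
      _ = _ := by rw [hz, mul_one, hz', mul_one]
  rw [h2, add_zero] at e4
  have e5 := (q_eq hu h''.1 (by rw [map_add, hp2, hp1, add_zero]) e4).1
  -- contradiction
  have nz : ∀ x, D.S.B x c = 1 → ∀ y, D.S.B y c = 0 → x ≠ y := by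
    intro x hx y hy hxy
    rw [hxy, hy] at hx
    exact absurd hx (by decide)
  have hc0 : D.S.B (c + c') c = 0 := h''.1 ▸ by
    rw [map_add, LinearMap.add_apply, D.S.alt, D.S.symm c' c, h0, add_zero]; exact h''.1.symm
  rcases hp1' with rfl | rfl <;> rcases hp2' with rfl | rfl
  · rw [zero_add] at e5
    rcases e5 with e5 | e5
    · exact hcc.1 e5.symm
    · apply hcc.2
      exact eq_of_add _ _ e5.symm
  · rw [add_zero] at e5
    rcases e5 with e5 | e5
    · exact nz _ hB3 _ hc0 e5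
    · exact nz _ hB3 _ (by rw [map_add, LinearMap.add_apply, hc0, huc, add_zero]) e5
  · rw [zero_add] at e5
    rcases e5 with e5 | e5
    · exact nz _ hB2 _ hc0 e5
    · exact nz _ hB2 _ (by rw [map_add, LinearMap.add_apply, hc0, huc, add_zero]) e5
  · have e6 : v + c + c' + (v + c') = c := by
      have h1 := aa v
      have h2 := aa c'
      calc v + c + c' + (v + c') = (v + v) + (c' + c') + c := by abel
        _ = c := by rw [h1, h2, zero_add, zero_add]
    rw [e6] at e5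
    rcases e5 with e5 | e5
    · exact hc'.1 (by simpa using e5.symm)
    · apply hc'.2
      have : c + 0 = c + (c' + u) := by rw [add_zero, ← add_assoc]; exact e5
      exact eq_of_add _ _ (add_left_cancel this).symm

variable (D)

/-- The group `R_u`. -/
def InR (u : V) (g : G) : Prop :=
  (∃ c, D.Tr u c g) ∧ (∃ j : ZMod 2, g * g = D.b (j • u)) ∧ ∀ w j, D.S.B u w = 0 → g ≠ D.t * D.q u w j

variable {D}

theorem q_ne_tq {u w w' : V} {j j' : ZMod 2} : D.q u w j ≠ D.t * D.q u w' j' := by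
  intro h
  have h1 : D.t = D.ι (s D.S u w * D.S.τ (j • u) * (s D.S u w' * D.S.τ (j' • u))⁻¹) := by
    rw [map_mul, map_inv]
    change D.t = D.q u w j * (D.q u w' j')⁻¹
    rw [h]; group
  exact D.tmem _ h1.symm

theorem InR.of_q {w : V} (hw : D.S.B u w = 0) (j : ZMod 2) : D.InR u (D.q u w j) :=
  ⟨⟨0, Tr.of_q hw j⟩, ⟨0, by rw [q_sq hw, zero_smul, b_zero]⟩, fun _ _ _ => q_ne_tq⟩

theorem InR.of_b (j : ZMod 2) : D.InR u (D.b (j • u)) := by
  rw [← q_zero]; exact InR.of_q (map_zero _) j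

theorem InR.one : D.InR u 1 := by
  have := InR.of_b (D := D) (u := u) 0
  rwa [zero_smul, b_zero] at this

theorem InR.mk (hu : u ≠ 0) (h : D.Tr u c z) (hz : z * z = 1) (hc : ¬ (c = 0 ∨ c = u)) {w : V}
    (hw : D.S.B u w = 0) (j : ZMod 2) : D.InR u (z * D.q u w j) := by
  refine ⟨⟨c + 0, h.mul (Tr.of_q hw j)⟩, ⟨_, h.sq_q hz hw j⟩, ?_⟩
  intro w' j' hw' h1
  have h2 : z = D.t * D.q u (w' + w) (D.S.B w' w + j' + j) := by
    rw [← q_mul hw' hw, ← mul_assoc, ← h1, mul_assoc, q_sq hw, mul_one]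
  exact (h.ne_of hu hc _ _).2 h2

theorem InR.of_z (hu : u ≠ 0) (h : D.Tr u c z) (hz : z * z = 1) (hc : ¬ (c = 0 ∨ c = u)) : D.InR u z := by
  have := InR.mk hu h hz hc (map_zero _) 0
  rwa [q_zero_zero, mul_one] at this

theorem InR.inv {g : G} (h : D.InR u g) : D.InR u g⁻¹ := by
  obtain ⟨⟨c, hc⟩, ⟨j, hj⟩, h3⟩ := h
  refine ⟨⟨c, hc.inv⟩, ⟨j, ?_⟩, ?_⟩
  · rw [← mul_inv_rev, hj, inv_eq_iff_mul_eq_one, b_sq]
  · intro w i hw h1
    apply h3 w i hw
    rw [← inv_inv g, h1, mul_inv_rev, inv_eq_of_mul_eq_one_left D.tt, inv_eq_of_mul_eq_one_left (q_sq hw i), tq]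

/-- Elements of `R_u` with trivial translation part. -/
theorem InR.ker {g : G} (hu : u ≠ 0) (h : D.InR u g) (hc : D.Tr u c g) (hc0 : c = 0 ∨ c = u) :
    ∃ w j, D.S.B u w = 0 ∧ g = D.q u w j := by
  obtain ⟨w, j, hw, h1 | h1⟩ := hc.ker hu hc0
  · exact ⟨w, j, hw, h1⟩
  · exact absurd h1 (h.2.2 w j hw)

/-- Elements of `R_u` with nontrivial translation part. -/
theorem InR.eq_zq {g : G} (hu : u ≠ 0) (h : D.InR u g) (hc : D.Tr u c g) (hc0 : ¬ (c = 0 ∨ c = u))
    (hz : D.Tr u c z) (hzz : z * z = 1) : ∃ w j, D.S.B u w = 0 ∧ g = z * D.q u w j := by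
  have h1 : D.Tr u 0 (z * g) := by
    have := hz.mul hc
    rwa [aa] at this
  have h2 : g = z * (z * g) := by rw [← mul_assoc, hzz, one_mul]
  obtain ⟨w, j, hw, h3 | h3⟩ := h1.ker hu (Or.inl rfl)
  · exact ⟨w, j, hw, by rw [← h3]; exact h2⟩
  · exfalso
    obtain ⟨i, hi⟩ := h.2.1
    rw [h3] at h2
    rw [h2, hz.sq_tq hzz hw, ← q_zero] at hi
    rcases (q_eq hu hz.1 (map_zero _) hi).1 with h4 | h4
    · exact hc0 (Or.inl h4.symm)
    · exact hc0 (Or.inr (eq_of_add _ _ h4.symm))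

theorem InR.rep {g : G} (hu : u ≠ 0) (h : D.InR u g) :
    ∃ c z w j, z * z = 1 ∧ D.Tr u c z ∧ ((z = 1 ∧ c = 0) ∨ ¬ (c = 0 ∨ c = u)) ∧ D.S.B u w = 0 ∧
      g = z * D.q u w j := by
  obtain ⟨c, hc⟩ := h.1
  by_cases hc0 : c = 0 ∨ c = u
  · obtain ⟨w, j, hw, h1⟩ := h.ker hu hc hc0
    exact ⟨0, 1, w, j, one_mul 1, Tr.one u, Or.inl ⟨rfl, rfl⟩, hw, by rw [h1, one_mul]⟩
  · have hc0' := hc0
    push Not at hc0'
    obtain ⟨z, hz, hTz⟩ := exZ (D := D) hc.1 hu hc0'.1 hc0'.2.symm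
    obtain ⟨w, j, hw, h1⟩ := h.eq_zq hu hc hc0 hTz hz.sq
    exact ⟨c, z, w, j, hz.sq, hTz, Or.inr hc0, hw, h1⟩

theorem InR.mul_q {g : G} (hu : u ≠ 0) (h : D.InR u g) {w : V} (hw : D.S.B u w = 0) (j : ZMod 2) :
    D.InR u (g * D.q u w j) := by
  obtain ⟨c, z, w', j', hz, hT, hc, hw', rfl⟩ := h.rep hu
  rw [mul_assoc, q_mul hw' hw]
  rcases hc with ⟨rfl, -⟩ | hc
  · rw [one_mul]; exact InR.of_q (by rw [map_add, hw', hw, add_zero]) _
  · exact InR.mk hu hT hz hc (by rw [map_add, hw', hw, add_zero]) _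

/-- the product and the commutator of two of the `z`. -/
theorem Tr.zz (hu : u ≠ 0) (h : D.Tr u c z) (hz : z * z = 1) (h' : D.Tr u c' z') (hz' : z' * z' = 1)
    (hc : (z = 1 ∧ c = 0) ∨ ¬ (c = 0 ∨ c = u)) (hc' : (z' = 1 ∧ c' = 0) ∨ ¬ (c' = 0 ∨ c' = u)) :
    D.InR u (z * z') ∧ ∃ j : ZMod 2, z * z' * (z * z') = D.b (j • u) := by
  rcases hc with ⟨rfl, -⟩ | hc
  · rw [one_mul]
    refine ⟨?_, 0, by rw [hz', zero_smul, b_zero]⟩
    rcases hc' with ⟨rfl, -⟩ | hc'
    · exact InR.one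
    · exact InR.of_z hu h' hz' hc'
  rcases hc' with ⟨rfl, -⟩ | hc'
  · rw [mul_one]
    exact ⟨InR.of_z hu h hz hc, 0, by rw [hz, zero_smul, b_zero]⟩
  by_cases hcc : c + c' = 0 ∨ c + c' = u
  · obtain ⟨w, j, hw, h1 | h1⟩ := (h.mul h').ker hu hcc
    · rw [h1]
      exact ⟨InR.of_q hw j, 0, by rw [q_sq hw, zero_smul, b_zero]⟩
    · exfalso
      have h2 : z' = z * (D.t * D.q u w j) := by rw [← h1, ← mul_assoc, hz, one_mul]
      have h3 := h.sq_tq hz hw j
      rw [← h2, hz'] at h3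
      exact hc (q_eq_one hu h.1 h3.symm).1
  · have hcc' := hcc
    push Not at hcc'
    obtain ⟨z'', hz'', hT''⟩ := exZ (D := D) (u := u) (w := c + c') (by rw [map_add, h.1, h'.1, add_zero]) hu
      hcc'.1 hcc'.2.symm
    obtain ⟨w, j, hw, h1, h2⟩ := h.main hu hz h' hz' hT'' hz''.sq hc hc' hcc
    refine ⟨?_, _, h2⟩
    rw [h1]
    exact InR.mk hu hT'' hz''.sq hcc hw j

theorem InR.mul {g g' : G} (hu : u ≠ 0) (h : D.InR u g) (h' : D.InR u g') : D.InR u (g * g') := by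
  obtain ⟨c, z, w, j, hz, hT, hc, hw, rfl⟩ := h.rep hu
  obtain ⟨c', z', w', j', hz', hT', hc', hw', rfl⟩ := h'.rep hu
  have e : z * D.q u w j * (z' * D.q u w' j') = z * z' * D.q u w (j + D.S.B c' w) * D.q u w' j' := by
    have h1 : D.q u w j * z' = z' * D.q u w (j + D.S.B c' w) := by
      rw [hT'.2.2 _ _ hw, add_assoc, z_add_self, add_zero]
    calc z * D.q u w j * (z' * D.q u w' j') = z * (D.q u w j * z') * D.q u w' j' := by group
      _ = _ := by rw [h1]; group
  rw [e]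
  exact (((hT.zz hu hz hT' hz' hc hc').1).mul_q hu hw _).mul_q hu hw' _

/-- `[R_u,R_u] ≤ <b_u>`. -/
theorem InR.comm {g g' : G} (hu : u ≠ 0) (h : D.InR u g) (h' : D.InR u g') :
    ∃ j : ZMod 2, g * g' = D.b (j • u) * (g' * g) := by
  obtain ⟨c, z, w, j, hz, hT, hc, hw, rfl⟩ := h.rep hu
  obtain ⟨c', z', w', j', hz', hT', hc', hw', rfl⟩ := h'.rep hu
  have e : z * D.q u w j * (z' * D.q u w' j') = z * z' * (D.q u w (j + D.S.B c' w) * D.q u w' j') := by
    have h1 : D.q u w j * z' = z' * D.q u w (j + D.S.B c' w) := by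
      rw [hT'.2.2 _ _ hw, add_assoc, z_add_self, add_zero]
    calc z * D.q u w j * (z' * D.q u w' j') = z * (D.q u w j * z') * D.q u w' j' := by group
      _ = _ := by rw [h1]; group
  have e' : z' * D.q u w' j' * (z * D.q u w j) = z' * z * (D.q u w' (j' + D.S.B c w') * D.q u w j) := by
    have h1 : D.q u w' j' * z = z * D.q u w' (j' + D.S.B c w') := by
      rw [hT.2.2 _ _ hw', add_assoc, z_add_self, add_zero]
    calc z' * D.q u w' j' * (z * D.q u w j) = z' * (D.q u w' j' * z) * D.q u w j := by group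
      _ = _ := by rw [h1]; group
  obtain ⟨i, hi⟩ := (hT.zz hu hz hT' hz' hc hc').2
  have hi' : z * z' = D.b (i • u) * (z' * z) := by
    rw [← hi]
    calc z * z' = z * z' * (z * (z' * z') * z) := by rw [hz', mul_one, hz, mul_one]
      _ = _ := by group
  have hw2 : D.S.B u (w + w') = 0 := by rw [map_add, hw, hw', add_zero]
  have e2 : D.q u w (j + D.S.B c' w) * D.q u w' j' =
      D.b ((D.S.B c' w + D.S.B c w') • u) * (D.q u w' (j' + D.S.B c w') * D.q u w j) := by
    rw [q_mul hw hw', q_mul hw' hw, ← q_zero, q_mul (map_zero _) (by rw [add_comm]; exact hw2), zero_add,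
      LinearMap.map_zero, LinearMap.zero_apply, zero_add, add_comm w' w, D.S.symm w' w]
    congr 1
    generalize D.S.B c w' = x
    generalize D.S.B c' w = y
    generalize D.S.B w w' = a
    clear * -
    revert x y a j j'; decide
  refine ⟨i + (D.S.B c' w + D.S.B c w'), ?_⟩
  have e3 : D.b ((i + (D.S.B c' w + D.S.B c w')) • u) = D.b (i • u) * D.b ((D.S.B c' w + D.S.B c w') • u) := by
    rw [b, b, b, ← map_mul, τ_mul]
  have e4 : z' * z * D.b ((D.S.B c' w + D.S.B c w') • u) = D.b ((D.S.B c' w + D.S.B c w') • u) * (z' * z) :=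
    (hT'.mul hT).comm_bj _
  rw [e, e', hi', e2, e3]
  calc D.b (i • u) * (z' * z) * (D.b ((D.S.B c' w + D.S.B c w') • u) *
        (D.q u w' (j' + D.S.B c w') * D.q u w j))
      = D.b (i • u) * (z' * z * D.b ((D.S.B c' w + D.S.B c w') • u)) *
        (D.q u w' (j' + D.S.B c w') * D.q u w j) := by group
    _ = _ := by rw [e4]; group

variable (D)

/-- `R_u` -/
def R (u : V) (hu : u ≠ 0) : Subgroup G where
  carrier := {g | D.InR u g}
  mul_mem' := fun h h' => InR.mul hu h h'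
  one_mem' := InR.one
  inv_mem' := fun h => InR.inv h

variable {D}

theorem mem_R {hu : u ≠ 0} {g : G} : g ∈ D.R u hu ↔ D.InR u g := Iff.rfl

/-- conjugation by `k ∈ K` -/
theorem Tr.conjK {g : G} (h : D.Tr u c g) (k : X) :
    D.Tr (D.S.ρ k u) (D.S.ρ k c) (D.ι k * g * (D.ι k)⁻¹) := by
  refine ⟨by rw [D.S.inv]; exact h.1, ?_, ?_⟩
  · calc D.ι k * g * (D.ι k)⁻¹ * D.t = D.ι k * g * ((D.ι k)⁻¹ * D.t) := by group
      _ = D.ι k * (g * D.t) * (D.ι k)⁻¹ := by
          have : (D.ι k)⁻¹ * D.t = D.t * (D.ι k)⁻¹ := by rw [← map_inv, D.comm]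
          rw [this]; group
      _ = (D.ι k * D.t) * D.q u c 0 * g * (D.ι k)⁻¹ := by rw [h.2.1]; group
      _ = D.t * (D.ι k * D.q u c 0) * g * (D.ι k)⁻¹ := by rw [← D.comm]; group
      _ = _ := by rw [ιq]; group
  · intro w j hw
    obtain ⟨w', rfl⟩ : ∃ w', D.S.ρ k w' = w := ⟨D.S.ρ k⁻¹ w, D.S.ρ_apply_inv k w⟩
    rw [D.S.inv] at hw
    rw [D.S.inv]
    have e1 : (D.ι k)⁻¹ * D.q (D.S.ρ k u) (D.S.ρ k w') j = D.q u w' j * (D.ι k)⁻¹ := by
      rw [inv_mul_eq_iff_eq_mul, ← mul_assoc, ιq]; group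
    calc D.ι k * g * (D.ι k)⁻¹ * D.q (D.S.ρ k u) (D.S.ρ k w') j
        = D.ι k * g * ((D.ι k)⁻¹ * D.q (D.S.ρ k u) (D.S.ρ k w') j) := by group
      _ = D.ι k * (g * D.q u w' j) * (D.ι k)⁻¹ := by rw [e1]; group
      _ = (D.ι k * D.q u w' (j + D.S.B c w')) * g * (D.ι k)⁻¹ := by rw [h.2.2 _ _ hw]; group
      _ = _ := by rw [ιq]; group

theorem InR.conjK {g : G} (h : D.InR u g) (k : X) : D.InR (D.S.ρ k u) (D.ι k * g * (D.ι k)⁻¹) := by
  obtain ⟨⟨c, hc⟩, ⟨j, hj⟩, h3⟩ := h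
  refine ⟨⟨_, hc.conjK k⟩, ⟨j, ?_⟩, ?_⟩
  · calc D.ι k * g * (D.ι k)⁻¹ * (D.ι k * g * (D.ι k)⁻¹) = D.ι k * (g * g) * (D.ι k)⁻¹ := by group
      _ = _ := by rw [hj, ιb, map_smul]; group
  · intro w j hw h4
    obtain ⟨w', rfl⟩ : ∃ w', D.S.ρ k w' = w := ⟨D.S.ρ k⁻¹ w, D.S.ρ_apply_inv k w⟩
    rw [D.S.inv] at hw
    apply h3 w' j hw
    have e1 : D.t * D.q (D.S.ρ k u) (D.S.ρ k w') j * D.ι k = D.ι k * (D.t * D.q u w' j) := by
      rw [mul_assoc, ← ιq, ← mul_assoc, D.comm, mul_assoc]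
    have e2 : D.ι k * g = D.ι k * (D.t * D.q u w' j) := by
      rw [← e1, ← h4]; group
    exact mul_left_cancel e2

theorem InR.conjt {g : G} (h : D.InR u g) : D.InR u (D.t * g * D.t) := by
  obtain ⟨⟨c, hc⟩, ⟨j, hj⟩, h3⟩ := h
  refine ⟨⟨0 + c + 0, ((Tr.of_t u).mul hc).mul (Tr.of_t u)⟩, ⟨j, ?_⟩, ?_⟩
  · calc D.t * g * D.t * (D.t * g * D.t) = D.t * g * (D.t * D.t) * g * D.t := by group
      _ = D.t * (g * g) * D.t := by rw [D.tt]; group
      _ = _ := by rw [hj, tb, mul_assoc, D.tt, mul_one]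
  · intro w j hw h4
    apply h3 w j hw
    calc g = (D.t * D.t) * g * (D.t * D.t) := by rw [D.tt]; group
      _ = D.t * (D.t * g * D.t) * D.t := by group
      _ = D.t * (D.t * (D.q u w j * D.t)) := by rw [h4]; group
      _ = (D.t * D.t) * (D.t * D.q u w j) := by rw [← tq]; group
      _ = _ := by rw [D.tt, one_mul]

/-- conjugation by an element of `K_u` -/
theorem InR.conj_fix {g : G} (h : D.InR u g) {k : X} (hk : D.S.ρ k u = u) : D.InR u (D.ι k * g * (D.ι k)⁻¹) := by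
  have := h.conjK k
  rwa [hk] at this

end Data

end Cfsg.Agent.OddHalf.SpTwo.PatS

end

-- merged: Cfsg.Agent.OddHalf.SpTwo.PatSN
section

/-!
# `Sp_{2n}(2)`, pattern {short}: `y_l` normalises `R_u` for `l ⊥ u`
-/

set_option autoImplicit false

namespace Cfsg.Agent.OddHalf.SpTwo.PatS

open Cfsg.Agent.StandardComponent.SpTwo

variable {G X V : Type*} [Group G] [Group X] [AddCommGroup V] [Module (ZMod 2) V]

namespace Data

variable (D : Data G X V)

/-- `u`, `p`, `r` are independent and mutually perpendicular -/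
structure Ind (u p r : V) : Prop where
  hu : u ≠ 0
  hp : p ≠ 0
  hr : r ≠ 0
  hup : u ≠ p
  hur : u ≠ r
  hpr : p ≠ r
  hupr : u ≠ p + r
  up : D.S.B u p = 0
  ur : D.S.B u r = 0
  pr : D.S.B p r = 0

variable {D}

theorem Ind.swap {u p r : V} (h : D.Ind u p r) : D.Ind u r p :=
  ⟨h.hu, h.hr, h.hp, h.hur, h.hup, h.hpr.symm, by rw [add_comm]; exact h.hupr, h.ur, h.up, by
    rw [D.S.symm]; exact h.pr⟩

variable {u p r x x' : V} {y z : G}

/-- the data of `z`, `x`: `z ∈ V_l ∩ R_r`, `x ⊥ u, r`, `(x,p) = 1`. -/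
structure Cfg (D : Data G X V) (u p r x : V) (z : G) : Prop where
  ind : D.Ind u p r
  isY : D.IsY r p z
  tr : D.Tr r p z
  ux : D.S.B u x = 0
  rx : D.S.B r x = 0
  px : D.S.B p x = 1

theorem comb3 (h : D.Ind u p r) {a b c : ZMod 2} (h1 : a • u + b • p + c • r = 0) : a = 0 ∧ b = 0 ∧ c = 0 := by
  have h2 := h.hup
  have h3 := h.hur
  have h4 := h.hpr
  have h5 := h.hupr
  have h6 := h.hu
  have h7 := h.hp
  have h8 := h.hr
  rcases z2 a with rfl | rfl <;> rcases z2 b with rfl | rfl <;> rcases z2 c with rfl | rfl <;>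
    simp only [zero_smul, one_smul, zero_add, add_zero] at h1
  · exact ⟨rfl, rfl, rfl⟩
  · exact absurd h1 h8
  · exact absurd h1 h7
  · exact absurd (eq_of_add _ _ h1) h4
  · exact absurd h1 h6
  · exact absurd (eq_of_add _ _ h1) h3
  · exact absurd (eq_of_add _ _ h1) h2
  · exact absurd (eq_of_add _ _ (by rw [← add_assoc]; exact h1)) h5

theorem Cfg.L1 (C : Cfg D u p r x z) :
    D.IsY u r (z * D.q u x 0 * z * D.q u x 0) ∧
      D.q u x 0 * (z * D.q u x 0 * z * D.q u x 0) = (z * D.q u x 0 * z * D.q u x 0) * D.q u x 0 := by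
  obtain ⟨I, hz, hT, hux, hrx, hpx⟩ := C
  have huu : D.S.B u u = 0 := D.S.alt u
  have hru : D.S.B r u = 0 := by rw [D.S.symm]; exact I.ur
  have hpu : D.S.B p u = 0 := by rw [D.S.symm]; exact I.up
  have hrp : D.S.B r p = 0 := by rw [D.S.symm]; exact I.pr
  have hkk : D.q u x 0 * D.q u x 0 = 1 := q_sq hux 0
  have hkinv : (D.q u x 0)⁻¹ = D.q u x 0 := inv_eq_of_mul_eq_one_left hkk
  have hσu : D.S.ρ (s D.S u x) u = u := ρ_self hux
  have hσr : D.S.ρ (s D.S u x) r = r := by rw [ρ_s hux, hru, hrx]; simp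
  have hσp : D.S.ρ (s D.S u x) p = p + u := by rw [ρ_s hux, hpu, hpx]; simp
  have hrp0 : ¬ (p = 0 ∨ p = r) := by rintro (h | h); exacts [I.hp h, I.hpr h]
  obtain ⟨zk, hzk⟩ : ∃ g, g = D.ι (s D.S u x) * z * (D.ι (s D.S u x))⁻¹ := ⟨_, rfl⟩
  have hzk' : zk = D.q u x 0 * z * D.q u x 0 := by rw [hzk, ← q0, hkinv]
  have hR1 : D.InR r z := InR.of_z I.hr hT hz.sq hrp0
  have hR2 : D.InR r zk := by rw [hzk]; exact hR1.conj_fix hσr
  have hT2 : D.Tr r (p + u) zk := by
    have := hT.conjK (s D.S u x)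
    rwa [hσr, hσp, ← hzk] at this
  obtain ⟨r0, hr0⟩ : ∃ g, g = z * zk := ⟨_, rfl⟩
  have hr0' : z * D.q u x 0 * z * D.q u x 0 = r0 := by rw [hr0, hzk']; group
  rw [hr0']
  have hR0 : D.InR r r0 := by rw [hr0]; exact InR.mul I.hr hR1 hR2
  have hT0 : D.Tr r u r0 := by
    have := hT.mul hT2
    rwa [aac, ← hr0] at this
  obtain ⟨ζ, hζ, hTζ⟩ := exZ (D := D) hru I.hr I.hu I.hur.symm
  have hu0 : ¬ (u = 0 ∨ u = r) := by rintro (h | h); exacts [I.hu h, I.hur h]
  obtain ⟨w, j, hw, hrq⟩ := hR0.eq_zq I.hr hT0 hu0 hTζ hζ.sq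
  -- `r0` commutes with `b e`
  have hce : ∀ e, D.S.B u e = 0 → D.S.B p e = 0 → D.S.B r e = 0 → r0 * D.b e = D.b e * r0 := by
    intro e h1 h2 h3
    have h4 : D.S.ρ (s D.S u x) e = e + D.S.B e x • u := by
      rw [ρ_s hux, D.S.symm e u, h1]; simp
    have h5 : D.S.ρ (s D.S u x) (e + D.S.B e x • u) = e := by
      rw [map_add, map_smul, h4, hσu, add_assoc, aa, add_zero]
    have h6 : D.q u x 0 * D.b e = D.b (e + D.S.B e x • u) * D.q u x 0 := by rw [q0, ιb, h4]
    have h7 : D.q u x 0 * D.b (e + D.S.B e x • u) = D.b e * D.q u x 0 := by rw [q0, ιb, h5]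
    have h8 : z * D.b (e + D.S.B e x • u) = D.b (e + D.S.B e x • u) * z :=
      hz.comm _ (by rw [map_add, map_smul, h3, hru]; simp) (by rw [map_add, map_smul, h2, hpu]; simp)
    calc r0 * D.b e = z * D.q u x 0 * z * (D.q u x 0 * D.b e) := by rw [← hr0']; group
      _ = z * D.q u x 0 * (z * D.b (e + D.S.B e x • u)) * D.q u x 0 := by rw [h6]; group
      _ = z * (D.q u x 0 * D.b (e + D.S.B e x • u)) * z * D.q u x 0 := by rw [h8]; group
      _ = (z * D.b e) * D.q u x 0 * z * D.q u x 0 := by rw [h7]; group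
      _ = _ := by rw [hz.comm e h3 h2, ← hr0']; group
  have hqr : D.q r w j = ζ * r0 := by rw [hrq, ← mul_assoc, hζ.sq, one_mul]
  have hwe : ∀ e, D.S.B u e = 0 → D.S.B p e = 0 → D.S.B r e = 0 → D.S.B w e = 0 := by
    intro e h1 h2 h3
    have h4 : D.q r w j * D.b e = D.b e * D.q r w j := by
      calc D.q r w j * D.b e = ζ * (r0 * D.b e) := by rw [hqr]; group
        _ = (ζ * D.b e) * r0 := by rw [hce e h1 h2 h3]; group
        _ = _ := by rw [hζ.comm e h3 h1, hqr]; group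
    rw [q, ιb] at h4
    have h5 := D.S.τ_injective (D.inj (mul_right_cancel h4))
    rw [ρ_q hw, D.S.symm e r, h3] at h5
    have h6 : D.S.B e w • r = 0 := by simpa using h5
    rw [D.S.symm]
    rcases z2 (D.S.B e w) with h7 | h7
    · exact h7
    · rw [h7, one_smul] at h6
      exact absurd h6 I.hr
  obtain ⟨a, b, c, hwd⟩ := perp3 (S := D.S) hwe
  have hr0sq : r0 * r0 = 1 := by
    have h1 : D.S.B u w = 0 := by
      rw [hwd]; simp [huu, I.up, I.ur]
    rw [hrq, hTζ.sq_q hζ.sq hw, h1, zero_smul, b_zero]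
  have hkr : D.q u x 0 * r0 = r0 * D.q u x 0 := by
    have h1 : r0⁻¹ = r0 := inv_eq_of_mul_eq_one_left hr0sq
    have h2 : D.q u x 0 * r0 * D.q u x 0 = r0 := by
      nth_rewrite 2 [← h1]
      rw [eq_inv_iff_mul_eq_one, ← hr0']
      calc D.q u x 0 * (z * D.q u x 0 * z * D.q u x 0) * D.q u x 0 * (z * D.q u x 0 * z * D.q u x 0)
          = D.q u x 0 * z * D.q u x 0 * z * (D.q u x 0 * D.q u x 0) * z * D.q u x 0 * z * D.q u x 0 := by group
        _ = D.q u x 0 * z * D.q u x 0 * (z * z) * D.q u x 0 * z * D.q u x 0 := by rw [hkk]; group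
        _ = D.q u x 0 * z * (D.q u x 0 * D.q u x 0) * z * D.q u x 0 := by rw [hz.sq]; group
        _ = D.q u x 0 * (z * z) * D.q u x 0 := by rw [hkk]; group
        _ = 1 := by rw [hz.sq, mul_one, hkk]
    calc D.q u x 0 * r0 = D.q u x 0 * r0 * (D.q u x 0 * D.q u x 0) := by rw [hkk, mul_one]
      _ = (D.q u x 0 * r0 * D.q u x 0) * D.q u x 0 := by group
      _ = _ := by rw [h2]
  have hkζ : ζ * D.q u x 0 = D.q u x 0 * ζ := hζ.comm_q hru hrx huu hux 0
  have hkq : D.q u x 0 * D.q r w j = D.q r w j * D.q u x 0 := by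
    calc D.q u x 0 * D.q r w j = (D.q u x 0 * ζ) * r0 := by rw [hqr]; group
      _ = ζ * (D.q u x 0 * r0) := by rw [← hkζ]; group
      _ = _ := by rw [hkr, hqr]; group
  have hb : b = 0 := by
    nth_rewrite 1 [q0] at hkq
    rw [ιq, hσr, ← q0] at hkq
    have h1 := mul_right_cancel hkq
    have h2 : D.S.ρ (s D.S u x) w = w + b • u := by
      have h3 : D.S.B w u = 0 := by rw [hwd]; simp [huu, hpu, hru]
      have h4 : D.S.B w x = b := by rw [hwd]; simp [hux, hpx, hrx]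
      rw [ρ_s hux, h3, h4]; simp
    rw [h2] at h1
    have h3 := (q_eq I.hr hw (by rw [map_add, map_smul, hw, hru]; simp : D.S.B r (w + b • u) = 0) h1.symm).1
    rcases h3 with h3 | h3
    · have : b • u = 0 := by simpa using h3
      rcases z2 b with rfl | rfl
      · rfl
      · rw [one_smul] at this; exact absurd this I.hu
    · have : b • u = r := add_left_cancel h3
      rcases z2 b with rfl | rfl
      · rfl
      · rw [one_smul] at this; exact absurd this I.hur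
  subst hb
  refine ⟨?_, hkr⟩
  apply IsY.symm hru
  refine ⟨hr0sq, hT0.2.1, ?_⟩
  intro e h1 h2
  have h3 : D.S.B w e = 0 := by rw [hwd]; simp [h1, h2]
  calc r0 * D.b e = ζ * (D.q r w j * D.b e) := by rw [hrq]; group
    _ = (ζ * D.b e) * D.q r w j := by rw [q_b h1 h3]; group
    _ = _ := by rw [hζ.comm e h1 h2, hrq]; group

/-- `A' := q u p 0`, the two alternatives of the commutator of `h = z k z` with `k'`. -/
theorem Cfg.alt (C : Cfg D u p r x z) (hux' : D.S.B u x' = 0) (hrx' : D.S.B r x' = 1) :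
    (z * D.q u x 0 * z) * D.q u x' 0 = D.q u r 0 * (D.q u x' 0 * (z * D.q u x 0 * z)) ∨
    (z * D.q u x 0 * z) * D.q u x' 0 = D.q u 0 1 * (D.q u x' 0 * (z * D.q u x 0 * z)) := by
  obtain ⟨h1, h2⟩ := C.L1
  obtain ⟨I, hz, hT, hux, hrx, hpx⟩ := C
  obtain ⟨r0, hr0⟩ : ∃ g, g = z * D.q u x 0 * z * D.q u x 0 := ⟨_, rfl⟩
  rw [← hr0] at h1 h2
  have hkk : D.q u x 0 * D.q u x 0 = 1 := q_sq hux 0
  have hh : z * D.q u x 0 * z = r0 * D.q u x 0 := by
    rw [hr0, mul_assoc _ (D.q u x 0) (D.q u x 0), hkk, mul_one]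
  have hkk' : D.q u x 0 * D.q u x' 0 = D.q u x' 0 * D.q u x 0 := q_comm hux hux' 0 0
  rcases h1.typ I.hu I.hr I.hur I.ur hux' hrx' with h3 | h3
  · left
    rw [hh]
    calc r0 * D.q u x 0 * D.q u x' 0 = (r0 * D.q u x' 0) * D.q u x 0 := by rw [mul_assoc, hkk']; group
      _ = (D.q u x' 0 * D.q u r 0) * r0 * D.q u x 0 := by rw [h3]
      _ = _ := by rw [q_comm hux' I.ur]; group
  · right
    rw [hh]
    have h4 : D.q u x' 1 = D.q u 0 1 * D.q u x' 0 := by
      rw [q_mul (map_zero _) hux', zero_add, map_zero, LinearMap.zero_apply, zero_add, add_zero]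
    calc r0 * D.q u x 0 * D.q u x' 0 = (r0 * D.q u x' 0) * D.q u x 0 := by rw [mul_assoc, hkk']; group
      _ = _ := by rw [h3, h4]; group

/-- the commutator of `z k z` with `k'` is `b_u`. -/
theorem Cfg.L3 (C : Cfg D u p r x z) (hux' : D.S.B u x' = 0) (hrx' : D.S.B r x' = 1) (hpx' : D.S.B p x' = 0) :
    (z * D.q u x 0 * z) * D.q u x' 0 = D.q u 0 1 * (D.q u x' 0 * (z * D.q u x 0 * z)) := by
  rcases C.alt hux' hrx' with h1 | h1
  swap
  · exact h1
  exfalso
  have hC := C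
  obtain ⟨I, hz, hT, hux, hrx, hpx⟩ := C
  have huu : D.S.B u u = 0 := D.S.alt u
  have hru : D.S.B r u = 0 := by rw [D.S.symm]; exact I.ur
  have hpu : D.S.B p u = 0 := by rw [D.S.symm]; exact I.up
  have hrp : D.S.B r p = 0 := by rw [D.S.symm]; exact I.pr
  have hkk : D.q u x 0 * D.q u x 0 = 1 := q_sq hux 0
  have hkk' : D.q u x' 0 * D.q u x' 0 = 1 := q_sq hux' 0
  obtain ⟨H', hH'⟩ : ∃ g, g = z * D.q u x' 0 * z := ⟨_, rfl⟩
  have hAz : z * D.q u r 0 = D.q u r 0 * z := hz.comm_q hru (D.S.alt r) hpu I.pr 0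
  have hAk : D.q u r 0 * D.q u x 0 = D.q u x 0 * D.q u r 0 := q_comm I.ur hux 0 0
  have hAA : D.q u r 0 * D.q u r 0 = 1 := q_sq I.ur 0
  have hzz := hz.sq
  -- `H' k = A k H'`
  have h2 : H' * D.q u x 0 = D.q u r 0 * (D.q u x 0 * H') := by
    have e1 : D.q u x 0 * H' = D.q u r 0 * (H' * D.q u x 0) := by
      calc D.q u x 0 * H' = (z * z) * D.q u x 0 * z * D.q u x' 0 * z := by rw [hH', hzz]; group
        _ = z * ((z * D.q u x 0 * z) * D.q u x' 0) * z := by group
        _ = (z * D.q u r 0) * D.q u x' 0 * z * D.q u x 0 * (z * z) := by rw [h1]; group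
        _ = _ := by rw [hAz, hzz, hH']; group
    rw [e1, ← mul_assoc, hAA, one_mul]
  -- a `z'` of type `b` at `p`
  have hx2 : ∃ z', (z' = z ∨ z' = z * D.b r) ∧ Cfg D u r p x' z' := by
    rcases (hz.symm hrp).typ' I.hp I.hr I.hpr I.pr with h3 | h3
    · refine ⟨z * D.b r, Or.inr rfl, I.swap, ?_, ?_, hux', hpx', hrx'⟩
      · exact (hz.symm hrp).mul_b I.pr (Or.inr (Or.inl rfl))
      · exact (hz.symm hrp).tr_of_a I.pr h3
    · exact ⟨z, Or.inl rfl, I.swap, hz.symm hrp, (hz.symm hrp).tr_of_b I.pr h3, hux', hpx', hrx'⟩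
  obtain ⟨z', hz', C'⟩ := hx2
  have hbk : D.b r * D.q u x 0 = D.q u x 0 * D.b r := (q_b I.ur (by rw [D.S.symm]; exact hrx) 0).symm
  have hbb : D.b r * D.b r = 1 := b_sq r
  have hzb : z * D.b r = D.b r * z := hz.comm r (D.S.alt r) I.pr
  have hbp : ∀ {w : V} {j : ZMod 2}, (w = p ∨ w = 0) → D.b r * D.q u w j = D.q u w j * D.b r := by
    intro w j hw
    refine (q_b I.ur ?_ j).symm
    rcases hw with rfl | rfl
    · exact I.pr
    · rw [map_zero, LinearMap.zero_apply]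
  have key : ∀ {w : V} {j : ZMod 2}, (w = p ∨ w = 0) → (z' * D.q u x' 0 * z') * D.q u x 0 =
      D.q u w j * (D.q u x 0 * (z' * D.q u x' 0 * z')) → D.q u r 0 = D.q u w j := by
    intro w j hw h4
    have h5 : H' * D.q u x 0 = D.q u w j * (D.q u x 0 * H') := by
      rcases hz' with rfl | rfl
      · rw [hH']; exact h4
      · have e1 : z * D.b r * D.q u x' 0 * (z * D.b r) = D.b r * H' * D.b r := by
          rw [hH']
          calc z * D.b r * D.q u x' 0 * (z * D.b r) = (z * D.b r) * D.q u x' 0 * z * D.b r := by group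
            _ = _ := by rw [hzb]; group
        rw [e1] at h4
        calc H' * D.q u x 0 = (D.b r * D.b r) * H' * (D.b r * D.b r) * D.q u x 0 := by rw [hbb]; group
          _ = D.b r * (D.b r * H' * D.b r) * (D.b r * D.q u x 0) := by group
          _ = D.b r * (D.b r * H' * D.b r * D.q u x 0) * D.b r := by rw [hbk]; group
          _ = (D.b r * D.q u w j) * D.q u x 0 * D.b r * H' * (D.b r * D.b r) := by rw [h4]; group
          _ = D.q u w j * (D.b r * D.q u x 0) * D.b r * H' := by rw [hbp hw, hbb]; group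
          _ = D.q u w j * D.q u x 0 * (D.b r * D.b r) * H' := by rw [hbk]; group
          _ = _ := by rw [hbb]; group
    rw [h2] at h5
    exact mul_right_cancel h5
  rcases C'.alt hux hpx with h3 | h3
  · have h4 := (q_eq I.hu I.ur I.up (key (Or.inl rfl) h3)).1
    rcases h4 with h4 | h4
    · exact I.hpr h4
    · apply I.hupr
      rw [h4, add_comm, aac]
  · have h4 := (q_eq I.hu I.ur (map_zero _) (key (Or.inr rfl) h3)).2
    exact absurd h4 (by decide)

/-- `z k z ∈ R_u` (`z` of type `b` at `r`). -/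
theorem Cfg.L4 (C : Cfg D u p r x z) : D.InR u (z * D.q u x 0 * z) := by
  have hC := C
  obtain ⟨h1, h2⟩ := C.L1
  obtain ⟨I, hz, hT, hux, hrx, hpx⟩ := C
  have huu : D.S.B u u = 0 := D.S.alt u
  have hru : D.S.B r u = 0 := by rw [D.S.symm]; exact I.ur
  have hpu : D.S.B p u = 0 := by rw [D.S.symm]; exact I.up
  have hrp : D.S.B r p = 0 := by rw [D.S.symm]; exact I.pr
  have hkk : D.q u x 0 * D.q u x 0 = 1 := q_sq hux 0
  obtain ⟨h, hh⟩ : ∃ g, g = z * D.q u x 0 * z := ⟨_, rfl⟩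
  rw [← hh] at h1 h2 ⊢
  obtain ⟨x', hx1, hx2, hx3⟩ := sep3 D.S (c := r) (d := u) (e := p) I.hr I.hur.symm I.hpr.symm (by
    intro h3
    apply I.hupr
    rw [h3, add_comm p, aab])
  rw [D.S.symm] at hx1 hx2 hx3
  have hL3 := hC.L3 (x' := x') hx2 hx1 hx3
  rw [← hh] at hL3
  have hhb : h * D.b u = D.b u * h := by
    have e1 : z * D.b u = D.b u * z := hz.comm u hru hpu
    have e2 : D.q u x 0 * D.b u = D.b u * D.q u x 0 := q_b huu (by rw [D.S.symm]; exact hux) 0
    rw [hh]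
    calc z * D.q u x 0 * z * D.b u = z * D.q u x 0 * (z * D.b u) := by group
      _ = z * (D.q u x 0 * D.b u) * z := by rw [e1]; group
      _ = (z * D.b u) * D.q u x 0 * z := by rw [e2]; group
      _ = _ := by rw [e1]; group
  have hsq : h * h = 1 := by
    rw [hh]
    calc z * D.q u x 0 * z * (z * D.q u x 0 * z) = z * D.q u x 0 * (z * z) * D.q u x 0 * z := by group
      _ = z * (D.q u x 0 * D.q u x 0) * z := by rw [hz.sq]; group
      _ = 1 := by rw [hkk, mul_one, hz.sq]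
  -- `h t = t (q u r 0) h`
  have hht : h * D.t = D.t * D.q u r 0 * h := by
    have e1 : h = (z * D.q u x 0 * z * D.q u x 0) * D.q u x 0 := by
      rw [mul_assoc _ (D.q u x 0) (D.q u x 0), hkk, mul_one]; exact hh
    rw [← hh] at e1
    calc h * D.t = h * D.q u x 0 * (D.q u x 0 * D.t) := by
            nth_rewrite 1 [e1]; group
      _ = (h * D.q u x 0 * D.t) * D.q u x 0 := by rw [← tq]; group
      _ = _ := by rw [h1.ht, mul_assoc _ (h * D.q u x 0), ← e1]
  have hwk : ∀ w, D.S.B u w = 0 → ∃ j, h * D.q u w 0 = D.q u w j * h := by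
    -- closure under addition
    have hadd : ∀ w w', D.S.B u w = 0 → D.S.B u w' = 0 → (∃ j, h * D.q u w 0 = D.q u w j * h) →
        (∃ j, h * D.q u w' 0 = D.q u w' j * h) → ∃ j, h * D.q u (w + w') 0 = D.q u (w + w') j * h := by
      rintro w w' hw hw' ⟨j, hj⟩ ⟨j', hj'⟩
      have e1 : D.q u (w + w') 0 = D.q u w 0 * (D.q u w' 0 * D.q u 0 (D.S.B w w')) := by
        rw [q_mul hw' (map_zero _), add_zero, map_zero, zero_add, zero_add, q_mul hw hw', add_zero, z_add_self]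
      have e2 : h * D.q u 0 (D.S.B w w') = D.q u 0 (D.S.B w w') * h := by
        rw [q_zero]
        rcases z2 (D.S.B w w') with h3 | h3 <;> rw [h3]
        · rw [zero_smul, b_zero, mul_one, one_mul]
        · rw [one_smul, hhb]
      refine ⟨D.S.B w w' + j + (0 + j' + D.S.B w w'), ?_⟩
      calc h * D.q u (w + w') 0 = (h * D.q u w 0) * (D.q u w' 0 * D.q u 0 (D.S.B w w')) := by rw [e1]; group
        _ = D.q u w j * (h * D.q u w' 0) * D.q u 0 (D.S.B w w') := by rw [hj]; group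
        _ = D.q u w j * D.q u w' j' * (h * D.q u 0 (D.S.B w w')) := by rw [hj']; group
        _ = D.q u w j * (D.q u w' j' * D.q u 0 (D.S.B w w')) * h := by rw [e2]; group
        _ = _ := by
          rw [q_mul hw' (map_zero _), add_zero, map_zero, q_mul hw hw']
    have h0 : ∀ w, D.S.B u w = 0 → D.S.B p w = 0 → D.S.B r w = 0 → ∃ j, h * D.q u w 0 = D.q u w j * h := by
      intro w hw1 hw2 hw3
      refine ⟨0, ?_⟩
      have e1 : z * D.q u w 0 = D.q u w 0 * z := hz.comm_q hru hw3 hpu hw2 0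
      have e2 : D.q u x 0 * D.q u w 0 = D.q u w 0 * D.q u x 0 := q_comm hux hw1 0 0
      rw [hh]
      calc z * D.q u x 0 * z * D.q u w 0 = z * D.q u x 0 * (z * D.q u w 0) := by group
        _ = z * (D.q u x 0 * D.q u w 0) * z := by rw [e1]; group
        _ = (z * D.q u w 0) * D.q u x 0 * z := by rw [e2]; group
        _ = _ := by rw [e1]; group
    have hx0 : ∃ j, h * D.q u x 0 = D.q u x j * h := by
      refine ⟨0, ?_⟩
      have e1 : D.q u x 0 * (h * D.q u x 0) * D.q u x 0 = (h * D.q u x 0) * D.q u x 0 * D.q u x 0 := by rw [h2]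
      calc h * D.q u x 0 = (h * D.q u x 0) * D.q u x 0 * D.q u x 0 := by
            rw [mul_assoc _ (D.q u x 0) (D.q u x 0), hkk, mul_one]
        _ = D.q u x 0 * (h * D.q u x 0) * D.q u x 0 := e1.symm
        _ = D.q u x 0 * h * (D.q u x 0 * D.q u x 0) := by group
        _ = _ := by rw [hkk, mul_one]
    have hx0' : ∃ j, h * D.q u x' 0 = D.q u x' j * h := by
      refine ⟨1, ?_⟩
      rw [hL3, ← mul_assoc, q_mul (map_zero _) hx2, zero_add, map_zero, LinearMap.zero_apply, zero_add, add_zero]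
    intro w hw
    have hsm : ∀ (a : ZMod 2) v, (∃ j, h * D.q u v 0 = D.q u v j * h) → ∃ j, h * D.q u (a • v) 0 = D.q u (a • v) j * h := by
      intro a v hv
      rcases z2 a with rfl | rfl
      · refine ⟨0, ?_⟩
        rw [zero_smul, q_zero_zero, mul_one, one_mul]
      · rw [one_smul]; exact hv
    have e1 : w = (w + D.S.B p w • x + D.S.B r w • x') + D.S.B p w • x + D.S.B r w • x' := by
      have f1 := aa (D.S.B p w • x)
      have f2 := aa (D.S.B r w • x')
      calc w = w + (D.S.B p w • x + D.S.B p w • x) + (D.S.B r w • x' + D.S.B r w • x') := by rw [f1, f2]; simp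
        _ = _ := by abel
    have g1 : D.S.B u (w + D.S.B p w • x + D.S.B r w • x') = 0 := by simp [hw, hux, hx2]
    have g2 : D.S.B p (w + D.S.B p w • x + D.S.B r w • x') = 0 := by simp [hpx, hx3, z_add_self]
    have g3 : D.S.B r (w + D.S.B p w • x + D.S.B r w • x') = 0 := by simp [hrx, hx1, z_add_self]
    rw [e1]
    refine hadd _ _ (by simp [hw, hux, hx2]) (by simp [hx2]) (hadd _ _ g1 (by simp [hux]) (h0 _ g1 g2 g3) ?_) ?_
    · exact hsm _ _ hx0
    · exact hsm _ _ hx0'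
  have hTr : D.Tr u r h := Tr.of_weak I.hu hhb I.ur hht hwk
  exact InR.of_z I.hu hTr hsq (by rintro (h3 | h3); exacts [I.hr h3, I.hur h3.symm])

/-- (N1) -/
theorem N1 (I : D.Ind u p r) (hy : D.IsY p r y) (hux : D.S.B u x = 0) (hrx : D.S.B r x = 0)
    (hpx : D.S.B p x = 1) : D.InR u (y * D.q u x 0 * y) := by
  have hrp : D.S.B r p = 0 := by rw [D.S.symm]; exact I.pr
  have hy' := hy.symm I.pr
  rcases hy'.typ' I.hr I.hp I.hpr.symm hrp with h1 | h1
  · have C : Cfg D u p r x (y * D.b p) := ⟨I, hy'.mul_b hrp (Or.inr (Or.inl rfl)), hy'.tr_of_a hrp h1, hux, hrx, hpx⟩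
    have h2 := C.L4.conj_fix (k := D.S.τ p) (by rw [D.S.hτ, I.up, zero_smul, add_zero])
    have h3 : D.ι (D.S.τ p) * (y * D.b p * D.q u x 0 * (y * D.b p)) * (D.ι (D.S.τ p))⁻¹ = y * D.q u x 0 * y := by
      have e1 : y * D.b p = D.b p * y := hy.comm p (D.S.alt p) hrp
      have e2 : D.b p * D.b p = 1 := b_sq p
      change D.b p * (y * D.b p * D.q u x 0 * (y * D.b p)) * (D.b p)⁻¹ = _
      calc D.b p * (y * D.b p * D.q u x 0 * (y * D.b p)) * (D.b p)⁻¹
          = D.b p * (y * D.b p) * D.q u x 0 * y := by group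
        _ = (D.b p * D.b p) * y * D.q u x 0 * y := by rw [e1]; group
        _ = _ := by rw [e2]; group
    rwa [h3] at h2
  · exact Cfg.L4 ⟨I, hy', hy'.tr_of_b hrp h1, hux, hrx, hpx⟩

/-- (N2) `y Q_u y ≤ R_u`. -/
theorem N2 (I : D.Ind u p r) (hy : D.IsY p r y) {w : V} (hw : D.S.B u w = 0) (j : ZMod 2) :
    D.InR u (y * D.q u w j * y) := by
  have hru : D.S.B r u = 0 := by rw [D.S.symm]; exact I.ur
  have hpu : D.S.B p u = 0 := by rw [D.S.symm]; exact I.up
  obtain ⟨x, hx1, hx2, hx3⟩ := sep3 D.S (c := p) (d := u) (e := r) I.hp I.hup.symm I.hpr (by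
    intro h3
    apply I.hupr
    rw [h3, aab])
  rw [D.S.symm] at hx1 hx2 hx3
  obtain ⟨x', hy1, hy2, hy3⟩ := sep3 D.S (c := r) (d := u) (e := p) I.hr I.hur.symm I.hpr.symm (by
    intro h3
    apply I.hupr
    rw [h3, add_comm p, aab])
  rw [D.S.symm] at hy1 hy2 hy3
  have hyy := hy.sq
  have hb : ∀ i : ZMod 2, y * D.q u 0 i * y = D.q u 0 i := by
    intro i
    have e1 : y * D.q u 0 i = D.q u 0 i * y := hy.comm_q hpu (map_zero _) hru (map_zero _) i
    rw [e1, mul_assoc, hyy, mul_one]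
  have hmul : ∀ g g', D.InR u (y * g * y) → D.InR u (y * g' * y) → D.InR u (y * (g * g') * y) := by
    intro g g' h1 h2
    have : y * (g * g') * y = (y * g * y) * (y * g' * y) := by
      calc y * (g * g') * y = y * g * (y * y) * g' * y := by rw [hyy]; group
        _ = _ := by group
    rw [this]; exact InR.mul I.hu h1 h2
  have hb' : ∀ i, D.InR u (y * D.q u 0 i * y) := fun i => by rw [hb]; exact InR.of_q (map_zero _) i
  have hadd : ∀ w w', D.S.B u w = 0 → D.S.B u w' = 0 → D.InR u (y * D.q u w 0 * y) →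
      D.InR u (y * D.q u w' 0 * y) → D.InR u (y * D.q u (w + w') 0 * y) := by
    intro w w' hw hw' h1 h2
    have e1 : D.q u (w + w') 0 = D.q u w 0 * D.q u w' 0 * D.q u 0 (D.S.B w w') := by
      rw [q_mul hw hw', q_mul (by rw [map_add, hw, hw', add_zero]) (map_zero _), add_zero, map_zero, zero_add,
        add_zero, add_zero, z_add_self]
    rw [e1]
    exact hmul _ _ (hmul _ _ h1 h2) (hb' _)
  have h0 : ∀ w, D.S.B u w = 0 → D.S.B p w = 0 → D.S.B r w = 0 → D.InR u (y * D.q u w 0 * y) := by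
    intro w hw1 hw2 hw3
    have e1 : y * D.q u w 0 = D.q u w 0 * y := hy.comm_q hpu hw2 hru hw3 0
    rw [e1, mul_assoc, hyy, mul_one]
    exact InR.of_q hw1 0
  have hx : D.InR u (y * D.q u x 0 * y) := N1 I hy hx2 hx3 hx1
  have hx' : D.InR u (y * D.q u x' 0 * y) := N1 I.swap (hy.symm I.pr) hy2 hy3 hy1
  have hsm : ∀ (a : ZMod 2) v, D.InR u (y * D.q u v 0 * y) → D.InR u (y * D.q u (a • v) 0 * y) := by
    intro a v hv
    rcases z2 a with rfl | rfl
    · rw [zero_smul]; exact hb' 0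
    · rw [one_smul]; exact hv
  have e1 : w = (w + D.S.B p w • x + D.S.B r w • x') + D.S.B p w • x + D.S.B r w • x' := by
    have f1 := aa (D.S.B p w • x)
    have f2 := aa (D.S.B r w • x')
    calc w = w + (D.S.B p w • x + D.S.B p w • x) + (D.S.B r w • x' + D.S.B r w • x') := by rw [f1, f2]; simp
      _ = _ := by abel
  have g1 : D.S.B u (w + D.S.B p w • x + D.S.B r w • x') = 0 := by simp [hw, hx2, hy2]
  have g2 : D.S.B p (w + D.S.B p w • x + D.S.B r w • x') = 0 := by simp [hx1, hy3, z_add_self]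
  have g3 : D.S.B r (w + D.S.B p w • x + D.S.B r w • x') = 0 := by simp [hx3, hy1, z_add_self]
  have h5 : D.InR u (y * D.q u w 0 * y) := by
    rw [e1]
    refine hadd _ _ (by simp [hw, hx2, hy2]) (by simp [hy2]) (hadd _ _ g1 (by simp [hx2]) (h0 _ g1 g2 g3) ?_) ?_
    · exact hsm _ _ hx
    · exact hsm _ _ hx'
  have e2 : D.q u w j = D.q u w 0 * D.q u 0 j := by
    rw [q_mul hw (map_zero _), add_zero, map_zero, zero_add, zero_add]
  rw [e2]
  exact hmul _ _ h5 (hb' _)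

end Data

end Cfsg.Agent.OddHalf.SpTwo.PatS

end

-- merged: Cfsg.Agent.OddHalf.SpTwo.PatSN2
section

/-!
# `Sp_{2n}(2)`, pattern {short}: `y_l` normalises `R_u` for `l ⊥ u`, end
-/

set_option autoImplicit false

namespace Cfsg.Agent.OddHalf.SpTwo.PatS

open Cfsg.Agent.StandardComponent.SpTwo

variable {G X V : Type*} [Group G] [Group X] [AddCommGroup V] [Module (ZMod 2) V]

namespace Data

variable {D : Data G X V}

variable {u p r c c' : V} {y z f g : G}

theorem ι_ne {k k' : X} : D.ι k ≠ D.t * D.ι k' := by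
  intro h
  apply D.tmem (k * k'⁻¹)
  rw [map_mul, h, mul_assoc, ← map_mul, mul_inv_cancel, map_one, mul_one]

/-- uniqueness of the translation part -/
theorem Tr.uniq (hu : u ≠ 0) (h : D.Tr u c g) (hc' : D.S.B u c' = 0) (h' : g * D.t = D.t * D.q u c' 0 * g) :
    D.Tr u c' g ∧ (c' = c ∨ c' = c + u) := by
  have h1 := h.2.1
  rw [h'] at h1
  have h2 : D.q u c 0 = D.q u c' 0 := by
    have h3 := mul_right_cancel h1
    exact (mul_left_cancel h3).symm
  have h3 := (q_eq hu h.1 hc' h2).1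
  refine ⟨?_, h3⟩
  rcases h3 with rfl | rfl
  · exact h
  · exact h.add_self

theorem ρ_a (I : D.Ind u p r) (v : V) : D.S.ρ (s D.S p r) v = v + D.S.B v p • r + D.S.B v r • p := ρ_s I.pr v

theorem ρ_au (I : D.Ind u p r) : D.S.ρ (s D.S p r) u = u := by
  rw [ρ_s I.pr, I.up, I.ur]; simp

/-- conjugation by `t' = t a_l` on `Q_u` -/
theorem conj_t'q (I : D.Ind u p r) (w : V) (j : ZMod 2) :
    D.t * D.q p r 0 * D.q u w j * (D.t * D.q p r 0) = D.q u (D.S.ρ (s D.S p r) w) j := by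
  have h1 : D.q p r 0 * D.q u w j = D.q u (D.S.ρ (s D.S p r) w) j * D.q p r 0 := by
    rw [q0, ιq, ρ_au I]
  calc D.t * D.q p r 0 * D.q u w j * (D.t * D.q p r 0)
      = D.t * (D.q p r 0 * D.q u w j) * D.t * D.q p r 0 := by group
    _ = D.t * D.q u (D.S.ρ (s D.S p r) w) j * (D.q p r 0 * D.t) * D.q p r 0 := by rw [h1]; group
    _ = (D.t * D.q u (D.S.ρ (s D.S p r) w) j) * D.t * (D.q p r 0 * D.q p r 0) := by rw [← tq]; group
    _ = _ := by rw [tq, q_sq I.pr, mul_one, mul_assoc, D.tt, mul_one]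

/-- `ρ_a w ∈ {w, w + u}` forces `w ⊥ p, r`. -/
theorem perp_of (I : D.Ind u p r) {w : V} (h : D.S.ρ (s D.S p r) w = w ∨ D.S.ρ (s D.S p r) w = w + u) :
    D.S.B w p = 0 ∧ D.S.B w r = 0 := by
  rw [ρ_a I] at h
  have h1 : ∃ a : ZMod 2, a • u + D.S.B w r • p + D.S.B w p • r = 0 := by
    rcases h with h | h
    · refine ⟨0, ?_⟩
      have h2 : w + (D.S.B w p • r + D.S.B w r • p) = w + 0 := by rw [add_zero, ← add_assoc]; exact h
      have h3 := add_left_cancel h2
      rw [zero_smul, zero_add, add_comm]; exact h3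
    · refine ⟨1, ?_⟩
      have h2 : w + (D.S.B w p • r + D.S.B w r • p) = w + u := by rw [← add_assoc]; exact h
      have h3 := add_left_cancel h2
      rw [one_smul, ← h3]
      have f1 := aa (D.S.B w p • r)
      have f2 := aa (D.S.B w r • p)
      calc D.S.B w p • r + D.S.B w r • p + D.S.B w r • p + D.S.B w p • r
          = (D.S.B w p • r + D.S.B w p • r) + (D.S.B w r • p + D.S.B w r • p) := by abel
        _ = 0 := by rw [f1, f2, add_zero]
  obtain ⟨a, ha⟩ := h1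
  obtain ⟨-, h2, h3⟩ := comb3 I ha
  exact ⟨h3, h2⟩

theorem claimC (I : D.Ind u p r) (hy : D.IsY p r y) (hf : D.InR u f) {j : ZMod 2}
    (h : D.t * D.q p r 0 * f * (D.t * D.q p r 0) = f * D.q u 0 j) : ∃ w i, D.S.B u w = 0 ∧ f = y * D.q u w i * y := by
  have hu := I.hu
  have hru : D.S.B r u = 0 := by rw [D.S.symm]; exact I.ur
  have hpu : D.S.B p u = 0 := by rw [D.S.symm]; exact I.up
  have hau : ∀ {w}, D.S.B u w = 0 → D.S.B u (D.S.ρ (s D.S p r) w) = 0 := by
    intro w hw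
    rw [ρ_a I]; simp [hw, I.up, I.ur]
  -- elements of `Q_u` fixed by `t'` mod `b_u` are fixed by `y`
  have hfix : ∀ w i i', D.S.B u w = 0 → D.q u (D.S.ρ (s D.S p r) w) i = D.q u w i' → ∀ k,
      y * D.q u w k = D.q u w k * y := by
    intro w i i' hw h1 k
    have h2 := (q_eq hu hw (hau hw) h1.symm).1
    obtain ⟨h3, h4⟩ := perp_of I h2
    exact hy.comm_q hpu (by rw [D.S.symm]; exact h3) hru (by rw [D.S.symm]; exact h4) k
  obtain ⟨c, hc⟩ := hf.1
  by_cases hc0 : c = 0 ∨ c = u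
  · obtain ⟨w, i, hw, rfl⟩ := hf.ker hu hc hc0
    refine ⟨w, i, hw, ?_⟩
    rw [conj_t'q I, q_mul hw (map_zero _), add_zero] at h
    rw [hfix w _ _ hw h i, mul_assoc, hy.sq, mul_one]
  · have hc0' := hc0
    push Not at hc0'
    obtain ⟨z, hz, hTz⟩ := exZ (D := D) hc.1 hu hc0'.1 hc0'.2.symm
    obtain ⟨w, i, hw, hfz⟩ := hf.eq_zq hu hc hc0 hTz hz.sq
    have hAinv : (D.q p r 0)⁻¹ = D.q p r 0 := inv_eq_of_mul_eq_one_left (q_sq I.pr 0)
    -- `c ⊥ p, r`
    have h1 : D.Tr u (0 + D.S.ρ (s D.S p r) c + 0) (D.t * D.q p r 0 * f * (D.t * D.q p r 0)) := by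
      have h2 := ((Tr.of_t (D := D) u).mul (by
        have := hc.conjK (s D.S p r)
        rwa [ρ_au I] at this)).mul (Tr.of_t u)
      have h3 : D.t * (D.ι (s D.S p r) * f * (D.ι (s D.S p r))⁻¹) * D.t =
          D.t * D.q p r 0 * f * (D.t * D.q p r 0) := by
        rw [← q0, hAinv]
        calc D.t * (D.q p r 0 * f * D.q p r 0) * D.t = D.t * D.q p r 0 * f * (D.q p r 0 * D.t) := by group
          _ = _ := by rw [← tq]
      rwa [h3] at h2
    rw [zero_add, add_zero] at h1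
    have h2 : D.Tr u (c + 0) (f * D.q u 0 j) := hc.mul (Tr.of_q (map_zero _) j)
    rw [← h, add_zero] at h2
    obtain ⟨hcp, hcr⟩ := perp_of I ((h2.uniq hu h1.1 h1.2.1).2)
    have hzA : z * D.q p r 0 = D.q p r 0 * z := hz.comm_q I.up I.ur hcp hcr 0
    have htz : D.t * z * D.t = z * D.q u c 0 := by
      have e1 : z * D.q u c 0 = D.q u c 0 * z := by
        rw [hTz.2.2 c 0 hc.1, D.S.alt, add_zero]
      rw [e1]
      calc D.t * z * D.t = D.t * (z * D.t) := by group
        _ = (D.t * D.t) * D.q u c 0 * z := by rw [hTz.2.1]; group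
        _ = _ := by rw [D.tt, one_mul]
    have h3 : D.t * D.q p r 0 * f * (D.t * D.q p r 0) =
        z * (D.q u c 0 * D.q u (D.S.ρ (s D.S p r) w) i) := by
      rw [← conj_t'q I w i, hfz]
      have e1 : D.q p r 0 * D.q p r 0 = 1 := q_sq I.pr 0
      calc D.t * D.q p r 0 * (z * D.q u w i) * (D.t * D.q p r 0)
          = D.t * (D.q p r 0 * z) * D.q u w i * (D.t * D.q p r 0) := by group
        _ = D.t * z * D.q p r 0 * D.q u w i * (D.t * D.q p r 0) := by rw [← hzA]; group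
        _ = D.t * z * (D.t * D.t) * D.q p r 0 * D.q u w i * (D.t * D.q p r 0) := by rw [D.tt]; group
        _ = (D.t * z * D.t) * (D.t * D.q p r 0 * D.q u w i * (D.t * D.q p r 0)) := by group
        _ = _ := by rw [htz]; group
    rw [h3, hfz, mul_assoc] at h
    have h4 := mul_left_cancel h
    rw [q_mul hc.1 (hau hw), q_mul hw (map_zero _)] at h4
    simp only [add_zero] at h4
    have h5 := (q_eq hu hw (by rw [map_add, hc.1, hau hw, add_zero]) h4.symm).1
    -- `d = w + ρ w`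
    obtain ⟨d, hd⟩ : ∃ d, d = D.S.B w p • r + D.S.B w r • p := ⟨_, rfl⟩
    have hρw : D.S.ρ (s D.S p r) w = d + w := by rw [ρ_a I, hd]; abel
    have hcd : c = d ∨ c = d + u := by
      rw [hρw] at h5
      rcases h5 with h5 | h5
      · left
        have : c + d + w = 0 + w := by rw [zero_add, add_assoc]; exact h5
        exact eq_of_add _ _ (add_right_cancel this)
      · right
        have h6 : c + d + w = u + w := by rw [add_assoc, h5, add_comm]
        have h7 := add_right_cancel h6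
        rw [← h7, add_comm c d, aac]
    have hud : D.S.B u d = 0 := by rw [hd]; simp [I.up, I.ur]
    have hdp : D.S.B p d = 0 := by rw [hd]; simp [I.pr, D.S.alt]
    have hdr : D.S.B r d = 0 := by rw [hd]; simp [D.S.symm r p, I.pr, D.S.alt]
    have hdw : D.S.B d w = 0 := by
      rw [hd]
      simp only [map_add, map_smul, LinearMap.add_apply, LinearMap.smul_apply, smul_eq_mul, D.S.symm r w,
        D.S.symm p w]
      rw [mul_comm]; exact z_add_self _
    obtain ⟨m, hm⟩ : ∃ m, m = y * D.q u w 0 * y := ⟨_, rfl⟩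
    have hmR : D.InR u m := by rw [hm]; exact N2 I hy hw 0
    have hyt : y * D.t = D.t * D.q p r 0 * y := hy.ht
    have hmt : m * D.t = D.t * D.q u d 0 * m := by
      have e1 : D.q u w 0 * D.q p r 0 = D.q p r 0 * D.q u (d + w) 0 := by
        have e2 : D.q p r 0 * D.q u (d + w) 0 = D.q u w 0 * D.q p r 0 := by
          rw [q0 p r, ιq, ρ_au I]
          congr 2
          have : D.S.ρ (s D.S p r) (d + w) = D.S.ρ (s D.S p r) (D.S.ρ (s D.S p r) w) := by rw [hρw]
          rw [this, ← D.S.ρ_mul, s_sq I.pr, D.S.ρ_one]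
        exact e2.symm
      have e2 : D.q u (d + w) 0 = D.q u d 0 * D.q u w 0 := by
        rw [q_mul hud hw, hdw]; rfl
      have e3 : y * D.q u d 0 = D.q u d 0 * y := hy.comm_q hpu hdp hru hdr 0
      have e4 : y * D.q p r 0 = D.q p r 0 * y := hy.comm_q (D.S.alt p) I.pr (by rw [D.S.symm]; exact I.pr)
        (D.S.alt r) 0
      calc m * D.t = y * D.q u w 0 * (y * D.t) := by rw [hm]; group
        _ = y * (D.q u w 0 * D.t) * D.q p r 0 * y := by rw [hyt]; group
        _ = (y * D.t) * (D.q u w 0 * D.q p r 0) * y := by rw [← tq]; group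
        _ = D.t * D.q p r 0 * (y * D.q p r 0) * D.q u (d + w) 0 * y := by rw [hyt, e1]; group
        _ = D.t * (D.q p r 0 * D.q p r 0) * (y * D.q u d 0) * D.q u w 0 * y := by rw [e4, e2]; group
        _ = _ := by rw [q_sq I.pr, e3, hm]; group
    obtain ⟨c'', hc''⟩ := hmR.1
    have hTm := (hc''.uniq hu hud hmt).1
    obtain ⟨v, k, hv, hmf⟩ := (InR.mul hu hmR.inv hf).ker hu (hTm.inv.mul hc) (by
      rcases hcd with rfl | rfl
      · left; exact aa _
      · right; exact aac _ _)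
    have hfm : f = m * D.q u v k := by rw [← hmf]; group
    have hmt' : D.t * D.q p r 0 * m * (D.t * D.q p r 0) = m := by
      have e1 : D.t * D.q p r 0 * y = y * D.t := hyt.symm
      have e2 : y * (D.t * D.q p r 0) = D.t * y := by rw [hy.ht']; group
      calc D.t * D.q p r 0 * m * (D.t * D.q p r 0)
          = (D.t * D.q p r 0 * y) * D.q u w 0 * (y * (D.t * D.q p r 0)) := by rw [hm]; group
        _ = y * (D.t * D.q u w 0) * D.t * y := by rw [e1, e2]; group
        _ = y * D.q u w 0 * (D.t * D.t) * y := by rw [tq]; group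
        _ = _ := by rw [D.tt, hm]; group
    have h6 : D.t * D.q p r 0 * f * (D.t * D.q p r 0) = m * D.q u (D.S.ρ (s D.S p r) v) k := by
      rw [← conj_t'q I v k, hfm]
      have e1 : (D.t * D.q p r 0) * (D.t * D.q p r 0) = 1 := by
        calc D.t * D.q p r 0 * (D.t * D.q p r 0) = D.t * (D.q p r 0 * D.t) * D.q p r 0 := by group
          _ = (D.t * D.t) * (D.q p r 0 * D.q p r 0) := by rw [← tq]; group
          _ = 1 := by rw [D.tt, q_sq I.pr, one_mul]
      calc D.t * D.q p r 0 * (m * D.q u v k) * (D.t * D.q p r 0)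
          = D.t * D.q p r 0 * m * ((D.t * D.q p r 0) * (D.t * D.q p r 0)) * D.q u v k * (D.t * D.q p r 0) := by
            rw [e1]; group
        _ = (D.t * D.q p r 0 * m * (D.t * D.q p r 0)) * ((D.t * D.q p r 0) * D.q u v k * (D.t * D.q p r 0)) := by
            group
        _ = _ := by rw [hmt']
    have h7 : m * D.q u (D.S.ρ (s D.S p r) v) k = m * (D.q u v k * D.q u 0 j) := by
      rw [← h6, h3, h, ← mul_assoc, ← hfz, hfm, mul_assoc]
    have h8 := mul_left_cancel h7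
    rw [q_mul hv (map_zero _), add_zero] at h8
    refine ⟨w + v, D.S.B w v + 0 + k, by rw [map_add, hw, hv, add_zero], ?_⟩
    rw [← q_mul hw hv, hfm, hm]
    calc y * D.q u w 0 * y * D.q u v k = y * D.q u w 0 * (y * D.q u v k) := by group
      _ = _ := by rw [hfix v _ _ hv h8 k]; group

/-- (N3) `y_l` normalises `R_u`. -/
theorem N3 (I : D.Ind u p r) (hy : D.IsY p r y) (hg : D.InR u g) : D.InR u (y * g * y) := by
  have hu := I.hu
  have hru : D.S.B r u = 0 := by rw [D.S.symm]; exact I.ur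
  have hpu : D.S.B p u = 0 := by rw [D.S.symm]; exact I.up
  have hyy := hy.sq
  have hyt : y * D.t = D.t * D.q p r 0 * y := hy.ht
  have hyt' : y * (D.t * D.q p r 0) = D.t * y := by rw [hy.ht']; group
  have ht't' : (D.t * D.q p r 0) * (D.t * D.q p r 0) = 1 := by
    calc D.t * D.q p r 0 * (D.t * D.q p r 0) = D.t * (D.q p r 0 * D.t) * D.q p r 0 := by group
      _ = (D.t * D.t) * (D.q p r 0 * D.q p r 0) := by rw [← tq]; group
      _ = 1 := by rw [D.tt, q_sq I.pr, one_mul]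
  have hyb : y * D.b u = D.b u * y := hy.comm u hpu hru
  have hgb : g * D.b u = D.b u * g := hg.1.choose_spec.comm_b
  -- `t'`-conjugation preserves `R_u`
  have ht' : ∀ {g}, D.InR u g → D.InR u ((D.t * D.q p r 0) * g * (D.t * D.q p r 0)) := by
    intro g hg
    have h1 := (hg.conj_fix (k := s D.S p r) (ρ_au I)).conjt
    have h3 : D.t * (D.ι (s D.S p r) * g * (D.ι (s D.S p r))⁻¹) * D.t =
        D.t * D.q p r 0 * g * (D.t * D.q p r 0) := by
      rw [← q0, inv_eq_of_mul_eq_one_left (q_sq I.pr 0)]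
      calc D.t * (D.q p r 0 * g * D.q p r 0) * D.t = D.t * D.q p r 0 * g * (D.q p r 0 * D.t) := by group
        _ = _ := by rw [← tq]
    rwa [h3] at h1
  obtain ⟨f, hf⟩ : ∃ f, f = (D.t * D.q p r 0) * g * (D.t * D.q p r 0) * g⁻¹ := ⟨_, rfl⟩
  have hfR : D.InR u f := by rw [hf]; exact InR.mul hu (ht' hg) hg.inv
  obtain ⟨j, hj⟩ := hfR.2.1
  have hfinv : f⁻¹ = f * D.q u 0 j := by
    rw [q_zero, ← hj]
    have h1 : f * f * (f * f) = 1 := by
      rw [hj, b_sq]
    rw [inv_eq_iff_mul_eq_one, ← h1]; group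
  have h1 : D.t * D.q p r 0 * f * (D.t * D.q p r 0) = f * D.q u 0 j := by
    rw [← hfinv, eq_inv_iff_mul_eq_one]
    calc D.t * D.q p r 0 * f * (D.t * D.q p r 0) * f
        = (D.t * D.q p r 0 * (D.t * D.q p r 0)) * g * (D.t * D.q p r 0) * g⁻¹ * (D.t * D.q p r 0 *
          (D.t * D.q p r 0)) * g * (D.t * D.q p r 0) * g⁻¹ := by rw [hf]; group
      _ = g * (D.t * D.q p r 0) * (g⁻¹ * g) * (D.t * D.q p r 0) * g⁻¹ := by rw [ht't']; group
      _ = g * (D.t * D.q p r 0 * (D.t * D.q p r 0)) * g⁻¹ := by group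
      _ = 1 := by rw [ht't']; group
  obtain ⟨w, i, hw, hfw⟩ := claimC I hy hfR h1
  have hyf : y * f * y = D.q u w i := by
    rw [hfw]
    calc y * (y * D.q u w i * y) * y = (y * y) * D.q u w i * (y * y) := by group
      _ = _ := by rw [hyy]; group
  have hT : D.Tr u w (y * g * y) := by
    refine Tr.of_weak (i := i) hu ?_ hw ?_ ?_
    · calc y * g * y * D.b u = y * g * (y * D.b u) := by group
        _ = y * (g * D.b u) * y := by rw [hyb]; group
        _ = (y * D.b u) * g * y := by rw [hgb]; group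
        _ = _ := by rw [hyb]; group
    · have e1 : g * (D.t * D.q p r 0) = (D.t * D.q p r 0) * f * g := by
        rw [hf]
        calc g * (D.t * D.q p r 0) = 1 * (g * (D.t * D.q p r 0)) := by group
          _ = _ := by rw [← ht't']; group
      calc y * g * y * D.t = y * g * (y * D.t) := by group
        _ = y * (g * (D.t * D.q p r 0)) * y := by rw [hyt]; group
        _ = (y * (D.t * D.q p r 0)) * f * g * y := by rw [e1]; group
        _ = D.t * (y * f) * (y * y) * g * y := by rw [hyt', hyy]; group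
        _ = D.t * (y * f * y) * (y * g * y) := by group
        _ = _ := by rw [hyf]
    · intro v hv
      have hm := N2 I hy hv 0
      obtain ⟨k, hk⟩ := InR.comm hu hg hm
      refine ⟨k, ?_⟩
      have e1 : y * D.q u v 0 = (y * D.q u v 0 * y) * y := by
        rw [mul_assoc _ y y, hyy, mul_one]
      have e2 : y * D.b (k • u) = D.b (k • u) * y := by
        rcases z2 k with rfl | rfl
        · rw [zero_smul, b_zero, mul_one, one_mul]
        · rw [one_smul, hyb]
      have e3 : D.q u v k = D.b (k • u) * D.q u v 0 := by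
        rw [← q_zero, q_mul (map_zero _) hv, zero_add, map_zero, LinearMap.zero_apply, zero_add, add_zero]
      calc y * g * y * D.q u v 0 = y * g * (y * D.q u v 0) := by group
        _ = y * g * (y * D.q u v 0 * y * y) := by rw [← e1]
        _ = y * (g * (y * D.q u v 0 * y)) * y := by group
        _ = (y * D.b (k • u)) * (y * D.q u v 0 * y) * g * y := by rw [hk]; group
        _ = D.b (k • u) * (y * y) * D.q u v 0 * y * g * y := by rw [e2]; group
        _ = _ := by rw [hyy, e3]; group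
  refine ⟨⟨w, hT⟩, ?_, ?_⟩
  · obtain ⟨k, hk⟩ := hg.2.1
    refine ⟨k, ?_⟩
    have e2 : y * D.b (k • u) = D.b (k • u) * y := by
      rcases z2 k with rfl | rfl
      · rw [zero_smul, b_zero, mul_one, one_mul]
      · rw [one_smul, hyb]
    calc y * g * y * (y * g * y) = y * g * (y * y) * g * y := by group
      _ = y * (g * g) * y := by rw [hyy]; group
      _ = _ := by rw [hk, e2, mul_assoc, hyy, mul_one]
  · intro v k hv h3
    have h4 : g = D.t * D.q p r 0 * (y * D.q u v k * y) := by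
      calc g = (y * y) * g * (y * y) := by rw [hyy]; group
        _ = y * (y * g * y) * y := by group
        _ = (y * D.t) * D.q u v k * y := by rw [h3]; group
        _ = _ := by rw [hyt]; group
    have h5 : D.InR u (D.t * D.q p r 0) := by
      have h6 := InR.mul hu hg (N2 I hy hv k).inv
      rw [h4] at h6
      have h7 : D.t * D.q p r 0 * (y * D.q u v k * y) * (y * D.q u v k * y)⁻¹ = D.t * D.q p r 0 := by group
      rwa [h7] at h6
    obtain ⟨c, hc⟩ := h5.1
    have h6 : D.t * D.q p r 0 * D.t = D.t * D.q u 0 0 * (D.t * D.q p r 0) := by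
      rw [q_zero_zero, mul_one, mul_assoc, ← tq]
    obtain ⟨v', k', hv', h7⟩ := h5.ker hu (hc.uniq hu (map_zero _) h6).1 (Or.inl rfl)
    exact ι_ne (D := D) h7.symm

end Data

end Cfsg.Agent.OddHalf.SpTwo.PatS

end

-- merged: Cfsg.Agent.OddHalf.SpTwo.PatSRes
section

/-!
# `Sp_{2n}(2)`: the restriction to `<u,u'>^⊥`
-/

set_option autoImplicit false

namespace Cfsg.Agent.OddHalf.SpTwo.PatS

open Cfsg.Agent.StandardComponent.SpTwo

section Res

variable {X V : Type*} [Group X] [AddCommGroup V] [Module (ZMod 2) V] (S : SpData X V)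

/-- `C_X(u,u')` -/
def X1 (u u' : V) : Subgroup X where
  carrier := {k | S.ρ k u = u ∧ S.ρ k u' = u'}
  mul_mem' := by
    rintro a b ⟨h1, h2⟩ ⟨h3, h4⟩
    exact ⟨by rw [S.ρ_mul, h3, h1], by rw [S.ρ_mul, h4, h2]⟩
  one_mem' := ⟨S.ρ_one u, S.ρ_one u'⟩
  inv_mem' := by
    rintro a ⟨h1, h2⟩
    exact ⟨by conv_lhs => rw [← h1, S.ρ_inv_apply], by conv_lhs => rw [← h2, S.ρ_inv_apply]⟩

/-- `<u,u'>^⊥` -/
def V1 (u u' : V) : Submodule (ZMod 2) V := LinearMap.ker (S.B u) ⊓ LinearMap.ker (S.B u')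

theorem mem_V1 {u u' v : V} : v ∈ V1 S u u' ↔ S.B u v = 0 ∧ S.B u' v = 0 := by
  rw [V1, Submodule.mem_inf, LinearMap.mem_ker, LinearMap.mem_ker]

variable {S}

theorem V1_stable {u u' v : V} {k : X} (hk : k ∈ X1 S u u') (hv : v ∈ V1 S u u') : S.ρ k v ∈ V1 S u u' := by
  rw [mem_V1] at hv ⊢
  constructor
  · have := S.inv k u v
    rw [hk.1] at this
    rw [this]; exact hv.1
  · have := S.inv k u' v
    rw [hk.2] at this
    rw [this]; exact hv.2

theorem decomp {u u' : V} (h : S.B u u' = 1) (x : V) :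
    ∃ x0 ∈ V1 S u u', x = x0 + S.B u x • u' + S.B u' x • u := by
  refine ⟨x + S.B u x • u' + S.B u' x • u, ?_, ?_⟩
  · rw [mem_V1]
    constructor
    · simp [h, S.alt, z_add_self]
    · simp [S.symm u' u, h, S.alt, z_add_self]
  · have f1 := aa (S.B u x • u')
    have f2 := aa (S.B u' x • u)
    calc x = x + (S.B u x • u' + S.B u x • u') + (S.B u' x • u + S.B u' x • u) := by rw [f1, f2]; simp
      _ = _ := by abel

/-- the restriction of `SpData` -/
noncomputable def res {u u' : V} (h : S.B u u' = 1) : SpData (X1 S u u') (V1 S u u') where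
  B := S.B.domRestrict₁₂ (V1 S u u') (V1 S u u')
  ρ :=
    { toFun := fun k => (S.ρ k).restrict (fun _ hv => V1_stable k.2 hv)
      map_one' := by
        apply LinearMap.ext
        intro v
        apply Subtype.ext
        exact S.ρ_one v
      map_mul' := by
        intro a b
        apply LinearMap.ext
        intro v
        apply Subtype.ext
        exact S.ρ_mul a b v }
  alt := fun v => S.alt v
  nondeg := by
    intro v hv
    apply Subtype.ext
    apply S.nondeg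
    intro x
    obtain ⟨x0, hx0, hx⟩ := decomp h x
    have h1 := (mem_V1 S).1 v.2
    have h2 : S.B v x0 = 0 := hv ⟨x0, hx0⟩
    rw [hx, map_add, map_add, map_smul, map_smul, h2, S.symm v u, S.symm v u', h1.1, h1.2]
    simp
  inv := fun g a b => S.inv g a b
  inj := by
    intro a b hab
    apply Subtype.ext
    apply S.ext_iff
    intro x
    obtain ⟨x0, hx0, hx⟩ := decomp h x
    have h1 : S.ρ a x0 = S.ρ b x0 := by
      have := LinearMap.congr_fun hab ⟨x0, hx0⟩
      exact congrArg Subtype.val this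
    generalize S.B u x = α at hx
    generalize S.B u' x = β at hx
    rw [hx, map_add, map_add, map_add, map_add, map_smul, map_smul, map_smul, map_smul, h1, a.2.1, a.2.2, b.2.1, b.2.2]
  τ := fun v => ⟨S.τ v, by
    have h1 := (mem_V1 S).1 v.2
    exact ⟨by rw [S.hτ, h1.1, zero_smul, add_zero], by rw [S.hτ, h1.2, zero_smul, add_zero]⟩⟩
  hτ := by
    intro w v
    apply Subtype.ext
    exact S.hτ w v

theorem res_B {u u' : V} (h : S.B u u' = 1) (v w : V1 S u u') : (res h).B v w = S.B v w := rfl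

theorem res_ρ {u u' : V} (h : S.B u u' = 1) (k : X1 S u u') (v : V1 S u u') :
    ((res h).ρ k v : V) = S.ρ k v := rfl

theorem res_τ {u u' : V} (h : S.B u u' = 1) (v : V1 S u u') : ((res h).τ v : X) = S.τ v := rfl

theorem res_s {u u' : V} (h : S.B u u' = 1) (v w : V1 S u u') :
    ((s (res h) v w : X1 S u u') : X) = s S (v : V) (w : V) := rfl

end Res

variable {G X V : Type*} [Group G] [Group X] [AddCommGroup V] [Module (ZMod 2) V]

namespace Data

variable (D : Data G X V)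

/-- `C_G(b_u) ∩ C_G(b_u') ∩ N_G(R_u)` -/
def G1 (u u' : V) (hu : u ≠ 0) : Subgroup G :=
  (Subgroup.centralizer {D.b u} ⊓ Subgroup.centralizer {D.b u'}) ⊓ Subgroup.normalizer (D.R u hu : Set G)

variable {D}

theorem mem_G1 {u u' : V} {hu : u ≠ 0} {g : G} : g ∈ D.G1 u u' hu ↔
    (g * D.b u = D.b u * g ∧ g * D.b u' = D.b u' * g) ∧ ∀ x, D.InR u x ↔ D.InR u (g * x * g⁻¹) := by
  rw [G1, Subgroup.mem_inf, Subgroup.mem_inf, Subgroup.mem_centralizer_singleton_iff,
    Subgroup.mem_centralizer_singleton_iff, Subgroup.mem_normalizer_iff]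
  rfl

theorem fix_of_comm {k : X} {v : V} (h : D.ι k * D.b v = D.b v * D.ι k) : D.S.ρ k v = v := by
  rw [ιb] at h
  exact D.S.τ_injective (D.inj (mul_right_cancel h))

theorem comm_of_fix {k : X} {v : V} (h : D.S.ρ k v = v) : D.ι k * D.b v = D.b v * D.ι k := by
  rw [ιb, h]

theorem ι_mem_G1 {u u' : V} {hu : u ≠ 0} {k : X} (hk : k ∈ X1 D.S u u') : D.ι k ∈ D.G1 u u' hu := by
  rw [mem_G1]
  refine ⟨⟨comm_of_fix hk.1, comm_of_fix hk.2⟩, fun x => ⟨fun h => h.conj_fix hk.1, fun h => ?_⟩⟩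
  have h1 := h.conj_fix (k := k⁻¹) (by
    have := hk.1
    conv_lhs => rw [← this, D.S.ρ_inv_apply])
  rw [map_inv] at h1
  have h2 : (D.ι k)⁻¹ * (D.ι k * x * (D.ι k)⁻¹) * (D.ι k)⁻¹⁻¹ = x := by group
  rwa [h2] at h1

theorem t_mem_G1 {u u' : V} {hu : u ≠ 0} : D.t ∈ D.G1 u u' hu := by
  have ht : D.t⁻¹ = D.t := inv_eq_of_mul_eq_one_left D.tt
  rw [mem_G1]
  refine ⟨⟨tb u, tb u'⟩, fun x => ?_⟩
  rw [ht]
  refine ⟨fun h => h.conjt, fun h => ?_⟩
  have h1 := h.conjt
  have h2 : D.t * (D.t * x * D.t) * D.t = x := by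
    calc D.t * (D.t * x * D.t) * D.t = (D.t * D.t) * x * (D.t * D.t) := by group
      _ = x := by rw [D.tt]; group
  rwa [h2] at h1

theorem y_mem_G1 {u u' p r : V} {hu : u ≠ 0} (I : D.Ind u p r) {y : G} (hy : D.IsY p r y)
    (h1 : D.S.B p u' = 0) (h2 : D.S.B r u' = 0) : y ∈ D.G1 u u' hu := by
  have hyi : y⁻¹ = y := inv_eq_of_mul_eq_one_left hy.sq
  rw [mem_G1]
  refine ⟨⟨hy.comm u (by rw [D.S.symm]; exact I.up) (by rw [D.S.symm]; exact I.ur), hy.comm u' h1 h2⟩, fun x => ?_⟩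
  rw [hyi]
  refine ⟨fun h => N3 I hy h, fun h => ?_⟩
  have h3 := N3 I hy h
  have h4 : y * (y * x * y) * y = x := by
    calc y * (y * x * y) * y = (y * y) * x * (y * y) := by group
      _ = x := by rw [hy.sq]; group
  rwa [h4] at h3

/-- the data for `C_G(b_u,b_u') ∩ N(R_u)` -/
noncomputable def sub {u u' : V} (hu : u ≠ 0) (h : D.S.B u u' = 1) :
    Data (D.G1 u u' hu) (X1 D.S u u') (V1 D.S u u') where
  S := res h
  ι := ((D.ι).comp (X1 D.S u u').subtype).codRestrict (D.G1 u u' hu) (fun k => ι_mem_G1 k.2)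
  inj := by
    intro a b hab
    exact Subtype.ext (D.inj (congrArg Subtype.val hab))
  t := ⟨D.t, t_mem_G1⟩
  tt := Subtype.ext D.tt
  comm := fun k => Subtype.ext (D.comm k)
  tmem := fun k hk => D.tmem k (congrArg Subtype.val hk)
  cent := by
    intro g hg
    obtain ⟨k, hk⟩ := D.cent g (congrArg Subtype.val hg)
    obtain ⟨⟨h1, h2⟩, -⟩ := mem_G1.1 g.2
    have key : ∀ v, (g : G) * D.b v = D.b v * g → D.S.ρ k v = v := by
      intro v hv
      apply fix_of_comm (D := D)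
      rcases hk with hk | hk
      · rw [← hk]; exact hv
      · rw [hk, mul_assoc, ← mul_assoc _ D.t, ← tb, mul_assoc] at hv
        exact mul_left_cancel hv
    refine ⟨⟨k, key u h1, key u' h2⟩, ?_⟩
    rcases hk with hk | hk
    · exact Or.inl (Subtype.ext hk)
    · exact Or.inr (Subtype.ext hk)
  notb := by
    intro v hv g hg
    exact D.notb v (fun h0 => hv (Subtype.ext h0)) g (congrArg Subtype.val hg)
  notc := by
    intro v w hvw hv hw hne g hg
    exact D.notc v w hvw (fun h0 => hv (Subtype.ext h0)) (fun h0 => hw (Subtype.ext h0))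
      (fun h0 => hne (Subtype.ext h0)) g (congrArg Subtype.val hg)
  ex := by
    intro v w hvw hv hw hne
    have h1 := (mem_V1 D.S).1 v.2
    have h2 := (mem_V1 D.S).1 w.2
    have hv' : (v : V) ≠ 0 := fun h0 => hv (Subtype.ext h0)
    have hw' : (w : V) ≠ 0 := fun h0 => hw (Subtype.ext h0)
    have hne' : (v : V) ≠ w := fun h0 => hne (Subtype.ext h0)
    obtain ⟨y, hy1, hy2, hy3⟩ := D.ex v w hvw hv' hw' hne'
    have hy : D.IsY (v : V) w y := ⟨hy1, by rw [q0, ← hy2, mul_assoc, hy1, mul_one], hy3⟩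
    have nu : ∀ x, D.S.B u' x = 0 → u ≠ x := by
      rintro x hx rfl
      rw [D.S.symm, h] at hx
      exact absurd hx (by decide)
    have I : D.Ind u v w := ⟨hu, hv', hw', nu _ h1.2, nu _ h2.2, hne', nu _ (by rw [map_add, h1.2, h2.2, add_zero]),
      h1.1, h2.1, hvw⟩
    refine ⟨⟨y, y_mem_G1 I hy (by rw [D.S.symm]; exact h1.2) (by rw [D.S.symm]; exact h2.2)⟩,
      Subtype.ext hy1, Subtype.ext hy2, fun e he1 he2 => Subtype.ext (hy3 e he1 he2)⟩

theorem sub_b {u u' : V} (hu : u ≠ 0) (h : D.S.B u u' = 1) (w : V1 D.S u u') :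
    ((D.sub hu h).b w : G) = D.b w := rfl

theorem sub_t {u u' : V} (hu : u ≠ 0) (h : D.S.B u u' = 1) : ((D.sub hu h).t : G) = D.t := rfl

theorem sub_ι {u u' : V} (hu : u ≠ 0) (h : D.S.B u u' = 1) (k : X1 D.S u u') :
    ((D.sub hu h).ι k : G) = D.ι k := rfl

end Data

end Cfsg.Agent.OddHalf.SpTwo.PatS

end
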